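import Mathlib.GroupTheory.Sylow
import Mathlib.GroupTheory.SpecificGroups.Cyclic
import Cfsg.Agent.H19.Hall
import Cfsg.Agent.H19.MinimalNormal

/-!
Solvable groups in which subgroups of equal order are conjugate.
-/

namespace Cfsg.Agent.H86

open Subgroup

universe u

variable {G : Type u} [Group G]

/-- Conjugate subgroups. -/
def Cj (H K : Subgroup G) : Prop := ∃ g : G, K = H.map (MulAut.conj g).toMonoidHom

/-- Any two `p`-subgroups of equal order are conjugate, for every prime `p`. -/
def PSubgroupsConj (G : Type u) [Group G] : Prop :=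
  ∀ p : ℕ, p.Prime → ∀ H K : Subgroup G, IsPGroup p H → IsPGroup p K → Nat.card H = Nat.card K → Cj H K

theorem cj_refl (H : Subgroup G) : Cj H H := ⟨1, by ext x; simp⟩

theorem map_conj_mul (H : Subgroup G) (g h : G) :
    (H.map (MulAut.conj g).toMonoidHom).map (MulAut.conj h).toMonoidHom = H.map (MulAut.conj (h * g)).toMonoidHom := by
  rw [map_map]; congr 1; ext x; simp [mul_assoc]

theorem cj_trans {H K L : Subgroup G} (h1 : Cj H K) (h2 : Cj K L) : Cj H L := by
  obtain ⟨g, rfl⟩ := h1
  obtain ⟨k, rfl⟩ := h2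
  exact ⟨k * g, map_conj_mul H g k⟩

theorem cj_symm {H K : Subgroup G} (h : Cj H K) : Cj K H := by
  obtain ⟨g, rfl⟩ := h
  refine ⟨g⁻¹, ?_⟩
  rw [map_conj_mul, inv_mul_cancel]; ext x; simp

theorem card_map_conj (H : Subgroup G) (g : G) :
    Nat.card (H.map (MulAut.conj g).toMonoidHom) = Nat.card H :=
  card_map_of_injective (MulAut.conj g).injective

theorem le_of_cj_normal {H K N : Subgroup G} [hN : N.Normal] (h : Cj H K) (hH : H ≤ N) : K ≤ N := by
  obtain ⟨g, rfl⟩ := h
  rintro _ ⟨x, hx, rfl⟩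
  exact hN.conj_mem x (hH hx) g

theorem map_conj_normal (N : Subgroup G) [hN : N.Normal] (g : G) : N.map (MulAut.conj g).toMonoidHom = N := by
  refine le_antisymm ?_ fun x hx => ⟨g⁻¹ * x * g, by simpa using hN.conj_mem x hx g⁻¹, by simp [mul_assoc]⟩
  rintro _ ⟨x, hx, rfl⟩
  exact hN.conj_mem x hx g

/-- Subgroups of a cyclic group are determined by their orders. -/
theorem eq_of_card_eq_of_cyclic {C : Type*} [Group C] [Finite C] [IsCyclic C] {H K : Subgroup C}
    (h : Nat.card H = Nat.card K) : H = K := by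
  classical
  have := Fintype.ofFinite C
  have key : ∀ L : Subgroup C, Nat.card L = Nat.card H →
      (L : Set C).toFinset = Finset.univ.filter (fun x : C => x ^ Nat.card H = 1) := by
    intro L hL
    refine Finset.eq_of_subset_of_card_le (fun x hx => ?_) ?_
    · rw [Set.mem_toFinset] at hx
      rw [Finset.mem_filter, ← orderOf_dvd_iff_pow_eq_one, ← hL]
      exact ⟨Finset.mem_univ x, L.orderOf_dvd_natCard hx⟩
    · refine (IsCyclic.card_pow_eq_one_le Nat.card_pos).trans ?_
      rw [← hL, Nat.card_eq_fintype_card, Set.toFinset_card]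
      exact le_rfl
  exact SetLike.coe_injective (Set.toFinset_inj.1 ((key H rfl).trans (key K h.symm).symm))

variable [Finite G]

/-- With cyclic Sylow `p`-subgroups, `p`-subgroups of equal order are conjugate. -/
theorem cj_of_cyclic_sylow {p : ℕ} [Fact p.Prime] (hc : ∀ P : Sylow p G, IsCyclic P) {H K : Subgroup G}
    (hH : IsPGroup p H) (hK : IsPGroup p K) (hcard : Nat.card H = Nat.card K) : Cj H K := by
  obtain ⟨P, hP⟩ := hH.exists_le_sylow
  obtain ⟨Q, hQ⟩ := hK.exists_le_sylow
  obtain ⟨g, hg⟩ := MulAction.exists_smul_eq G P Q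
  refine ⟨g, ?_⟩
  have hle : H.map (MulAut.conj g).toMonoidHom ≤ (Q : Subgroup G) := by
    rw [← hg, Sylow.coe_subgroup_smul]
    exact Subgroup.map_mono hP
  have : IsCyclic (Q : Subgroup G) := hc Q
  have h1 : (H.map (MulAut.conj g).toMonoidHom).subgroupOf (Q : Subgroup G) = K.subgroupOf (Q : Subgroup G) :=
    eq_of_card_eq_of_cyclic (by
      rw [Nat.card_congr (subgroupOfEquivOfLe hle).toEquiv, Nat.card_congr (subgroupOfEquivOfLe hQ).toEquiv,
        card_map_conj, hcard])
  rw [← map_subgroupOf_eq_of_le hle, h1, map_subgroupOf_eq_of_le hQ]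

theorem psubgroupsConj_of_cyclic (hc : ∀ p : ℕ, p.Prime → ∀ P : Sylow p G, IsCyclic P) :
    PSubgroupsConj G := fun p hp H K hH hK h =>
  have := Fact.mk hp
  cj_of_cyclic_sylow (hc p hp) hH hK h

/-- Conjugacy of `q`-subgroups of equal order passes to quotients. -/
theorem cj_quotient {q : ℕ} [Fact q.Prime]
    (hD : ∀ H K : Subgroup G, IsPGroup q H → IsPGroup q K → Nat.card H = Nat.card K → Cj H K)
    (N : Subgroup G) [N.Normal] {U W : Subgroup (G ⧸ N)} (hU : IsPGroup q U) (hW : IsPGroup q W)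
    (hcard : Nat.card U = Nat.card W) : Cj U W := by
  have key : ∀ U : Subgroup (G ⧸ N), IsPGroup q U → ∃ U' : Subgroup G, IsPGroup q U' ∧
      Nat.card U' = q ^ (Nat.card N * Nat.card U).factorization q ∧ U'.map (QuotientGroup.mk' N) = U := by
    intro U hU
    set V := U.comap (QuotientGroup.mk' N)
    obtain ⟨S⟩ : Nonempty (Sylow q V) := inferInstance
    let f : V →* U := (QuotientGroup.mk' N).subgroupComap U
    have hf : Function.Surjective f :=
      MonoidHom.subgroupComap_surjective_of_surjective _ _ (QuotientGroup.mk'_surjective N)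
    have htop : (S.mapSurjective hf : Subgroup U) = ⊤ :=
      (S.mapSurjective hf).3 (hU.of_equiv Subgroup.topEquiv.symm) le_top |>.symm
    refine ⟨(S : Subgroup V).map V.subtype, S.2.map _, ?_, ?_⟩
    · rw [card_map_of_injective V.subtype_injective, S.card_eq_multiplicity]
      congr 2
      rw [← card_mul_index (N.subgroupOf V), Nat.card_congr (subgroupOfEquivOfLe ?_).toEquiv]
      · congr 1
        have hker : f.ker = N.subgroupOf V := by
          ext x
          rw [MonoidHom.mem_ker, mem_subgroupOf, ← QuotientGroup.eq_one_iff]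
          exact ⟨fun h => congrArg Subtype.val h, fun h => Subtype.ext h⟩
        rw [← hker, index_ker, MonoidHom.range_eq_top.2 hf, card_top]
      · intro x hx
        rw [mem_comap, QuotientGroup.mk'_apply, (QuotientGroup.eq_one_iff x).2 hx]
        exact one_mem U
    · have h1 := congrArg (Subgroup.map U.subtype) htop
      rw [Sylow.coe_mapSurjective, map_map, ← MonoidHom.range_eq_map, range_subtype] at h1
      rw [map_map]
      exact h1
  obtain ⟨U', hU', hUc, rfl⟩ := key U hU
  obtain ⟨W', hW', hWc, rfl⟩ := key W hW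
  obtain ⟨g, hg⟩ := hD U' W' hU' hW' (by rw [hUc, hWc, hcard])
  refine ⟨QuotientGroup.mk' N g, ?_⟩
  rw [hg, map_map, map_map]
  congr 1

theorem psubgroupsConj_quotient (hD : PSubgroupsConj G) (N : Subgroup G) [N.Normal] :
    PSubgroupsConj (G ⧸ N) := fun q hq _ _ hU hW h =>
  have := Fact.mk hq
  cj_quotient (hD q hq) N hU hW h

theorem cj_of_equal_order_aux (n : ℕ) : ∀ (G : Type u) [Group G] [Finite G], Nat.card G = n →
    Group.IsSolvable G → PSubgroupsConj G → ∀ r : ℕ, (∀ p : ℕ, p.Prime → p ≠ r → ∀ P : Sylow p G, IsCyclic P) →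
    ∀ H K : Subgroup G, Nat.card H = Nat.card K → Cj H K := by
  induction n using Nat.strong_induction_on with
  | _ n ih =>
  intro G _ _ hn hsolv hD r hcyc H K hcard
  by_cases hnt : (⊤ : Subgroup G) = ⊥
  · have h1 : H = K := by
      rw [le_bot_iff.1 ((le_top (a := H)).trans hnt.le), le_bot_iff.1 ((le_top (a := K)).trans hnt.le)]
    exact h1 ▸ cj_refl H
  obtain ⟨N, p, hNn, -, hN1, hNc, hp, hNp, hNe⟩ :=
    H19.exists_normal_elementary_le (⊤ : Subgroup G) inferInstance hnt
  have := Fact.mk hp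
  obtain ⟨e, he⟩ := hNp.exists_card_eq
  -- small `p`-subgroups lie in `N`, large ones contain it
  have fact1 : ∀ U : Subgroup G, IsPGroup p U → Nat.card U ≤ Nat.card N → U ≤ N := by
    intro U hU hle
    obtain ⟨i, hi⟩ := hU.exists_card_eq
    rw [hi, he] at hle
    obtain ⟨U', hU'⟩ := Sylow.exists_subgroup_card_pow_prime p (n := i) (G := N)
      (he ▸ pow_dvd_pow p ((Nat.pow_le_pow_iff_right hp.one_lt).1 hle))
    refine le_of_cj_normal (H := U'.map N.subtype) (hD p hp _ U ((IsPGroup.of_card hU').map _) hU ?_) (map_subtype_le _)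
    rw [card_map_of_injective N.subtype_injective, hU', hi]
  have fact2 : ∀ U : Subgroup G, IsPGroup p U → Nat.card N ≤ Nat.card U → N ≤ U := by
    intro U hU hle
    obtain ⟨i, hi⟩ := hU.exists_card_eq
    rw [hi, he] at hle
    obtain ⟨U', hU'⟩ := Sylow.exists_subgroup_card_pow_prime p (n := e) (G := U)
      (hi ▸ pow_dvd_pow p ((Nat.pow_le_pow_iff_right hp.one_lt).1 hle))
    have hc : Nat.card (U'.map U.subtype) = Nat.card N := by
      rw [card_map_of_injective U.subtype_injective, hU', he]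
    exact (eq_of_le_of_card_ge (fact1 _ ((IsPGroup.of_card hU').map _) hc.le) hc.ge).ge.trans (map_subtype_le _)
  -- induction for the quotient
  have hquot : ∀ H K : Subgroup G, Nat.card (H.map (QuotientGroup.mk' N)) = Nat.card (K.map (QuotientGroup.mk' N)) →
      ∃ g : G, H.map (MulAut.conj g).toMonoidHom ⊔ N = K ⊔ N := by
    intro H K h
    have hlt : Nat.card (G ⧸ N) < n := by
      have h7 := N.card_mul_index
      rw [← index_eq_card]
      have h5 : 1 < Nat.card N := N.one_lt_card_iff_ne_bot.2 hN1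
      have h8 : 0 < N.index := Nat.pos_of_ne_zero N.index_ne_zero_of_finite
      have h9 : 2 * N.index ≤ Nat.card N * N.index := Nat.mul_le_mul_right _ h5
      omega
    obtain ⟨g', hg⟩ := ih _ hlt (G ⧸ N) rfl inferInstance (psubgroupsConj_quotient hD N) r (fun q hq hqr Q => by
      have := Fact.mk hq
      obtain ⟨S⟩ : Nonempty (Sylow q G) := inferInstance
      have hS : IsCyclic (S : Subgroup G) := hcyc q hq hqr S
      have : IsCyclic (S.mapSurjective (QuotientGroup.mk'_surjective N) : Subgroup (G ⧸ N)) := by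
        rw [Sylow.coe_mapSurjective]
        exact isCyclic_of_surjective ((QuotientGroup.mk' N).subgroupMap (S : Subgroup G))
          ((QuotientGroup.mk' N).subgroupMap_surjective _)
      exact isCyclic_of_surjective (Sylow.equiv (S.mapSurjective (QuotientGroup.mk'_surjective N)) Q).toMonoidHom
        (Sylow.equiv (S.mapSurjective (QuotientGroup.mk'_surjective N)) Q).surjective) _ _ h
    obtain ⟨g, rfl⟩ := QuotientGroup.mk'_surjective N g'
    refine ⟨g, ?_⟩
    have h3 : (H.map (MulAut.conj g).toMonoidHom).map (QuotientGroup.mk' N) = K.map (QuotientGroup.mk' N) := by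
      rw [hg, map_map, map_map]
      congr 1
    have h2 := congrArg (Subgroup.comap (QuotientGroup.mk' N)) h3
    rwa [comap_map_eq, comap_map_eq, QuotientGroup.ker_mk'] at h2
  -- the `p`-part
  set a := (Nat.card H).factorization p with ha
  have hmeet : ∀ L : Subgroup G, (Nat.card L).factorization p = a → a ≤ e →
      Nat.card (L ⊓ N : Subgroup G) = p ^ a := by
    intro L hL hae
    obtain ⟨S⟩ : Nonempty (Sylow p L) := inferInstance
    have hS : Nat.card ((S : Subgroup L).map L.subtype) = p ^ a := by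
      rw [card_map_of_injective L.subtype_injective, S.card_eq_multiplicity, hL]
    have hSN : (S : Subgroup L).map L.subtype ≤ L ⊓ N :=
      le_inf (map_subtype_le _) (fact1 _ (S.2.map _) (by rw [hS, he]; exact Nat.pow_le_pow_right hp.pos hae))
    obtain ⟨j, hj⟩ := (hNp.to_le (inf_le_right : L ⊓ N ≤ N)).exists_card_eq
    refine le_antisymm ?_ (hS ▸ card_le_of_le hSN)
    rw [hj]
    refine Nat.pow_le_pow_right hp.pos ?_
    rw [← hL]
    exact (hp.pow_dvd_iff_le_factorization Nat.card_pos.ne').1 (hj ▸ card_dvd_of_le inf_le_left)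
  have hmapcard : ∀ L : Subgroup G,
      Nat.card (L ⊓ N : Subgroup G) * Nat.card (L.map (QuotientGroup.mk' N)) = Nat.card L := by
    intro L
    let f : L →* L.map (QuotientGroup.mk' N) := (QuotientGroup.mk' N).subgroupMap L
    have hker : f.ker = (L ⊓ N).subgroupOf L := by
      ext x
      rw [MonoidHom.mem_ker, mem_subgroupOf, mem_inf, and_iff_right x.2, ← QuotientGroup.eq_one_iff]
      exact ⟨fun h => congrArg Subtype.val h, fun h => Subtype.ext h⟩
    rw [← (f.ker).card_mul_index, index_ker, MonoidHom.range_eq_top.2 ((QuotientGroup.mk' N).subgroupMap_surjective L),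
      card_top, hker, Nat.card_congr (subgroupOfEquivOfLe inf_le_left).toEquiv]
  by_cases hae : e ≤ a
  · -- `N` lies in both
    have hbig : ∀ L : Subgroup G, (Nat.card L).factorization p = a → N ≤ L := by
      intro L hL
      obtain ⟨S⟩ : Nonempty (Sylow p L) := inferInstance
      refine (fact2 _ (S.2.map L.subtype) ?_).trans (map_subtype_le _)
      rw [card_map_of_injective L.subtype_injective, S.card_eq_multiplicity, hL, he]
      exact Nat.pow_le_pow_right hp.pos hae
    have hHN := hbig H rfl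
    have hKN := hbig K (by rw [← hcard])
    have e1 := hmapcard H
    have e2 := hmapcard K
    rw [inf_eq_right.2 hHN] at e1
    rw [inf_eq_right.2 hKN, ← hcard] at e2
    obtain ⟨g, hg⟩ := hquot H K (Nat.eq_of_mul_eq_mul_left Nat.card_pos (e1.trans e2.symm))
    refine ⟨g, ?_⟩
    rw [sup_eq_left.2 hKN, sup_eq_left.2 ?_] at hg
    · exact hg.symm
    · rw [← map_conj_normal N g]; exact Subgroup.map_mono hHN
  push Not at hae
  have hAc := hmeet H rfl hae.le
  have hBc := hmeet K (by rw [← hcard]) hae.le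
  obtain ⟨m, hm⟩ : p ^ a ∣ Nat.card H := Nat.ordProj_dvd _ _
  have hmp : p.Coprime m := by
    rw [hp.coprime_iff_not_dvd]
    intro hd
    apply Nat.pow_succ_factorization_not_dvd (n := Nat.card H) Nat.card_pos.ne' hp
    rw [pow_succ]
    conv_rhs => rw [hm]
    exact Nat.mul_dvd_mul_left _ hd
  by_cases ha0 : a = 0
  · rw [ha0, pow_zero] at hAc hBc
    have e1 := hmapcard H
    have e2 := hmapcard K
    rw [hAc, one_mul] at e1; rw [hBc, one_mul, ← hcard] at e2
    obtain ⟨g, hg⟩ := hquot H K (e1.trans e2.symm)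
    refine cj_trans (K := H.map (MulAut.conj g).toMonoidHom) ⟨g, rfl⟩ ?_
    set H' := H.map (MulAut.conj g).toMonoidHom with hH'
    set L := K ⊔ N with hL
    have hH'L : H' ≤ L := hg ▸ le_sup_left
    have hKL : K ≤ L := le_sup_left
    have hcop : (Nat.card H).Coprime (Nat.card N) := by
      rw [he, hm, ha0, pow_zero, one_mul]; exact (hmp.pow_left e).symm
    have hdis : Disjoint K N := disjoint_iff.2 (eq_bot_of_card_eq _ hBc)
    have hcardL : Nat.card L = Nat.card H * Nat.card N := by
      have hc1 : (Subgroup.map (QuotientGroup.mk' N) L) = K.map (QuotientGroup.mk' N) := by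
        rw [hL, Subgroup.map_sup, QuotientGroup.map_mk'_self, sup_bot_eq]
      rw [← hmapcard L, hc1, e2, inf_eq_right.2 (le_sup_right : N ≤ L), mul_comm]
    obtain ⟨x, hx⟩ := H19.hall_conj (G := L) (m := Nat.card H) (n := Nat.card N) hcardL hcop
      (H := H'.subgroupOf L) (K := K.subgroupOf L)
      (by rw [Nat.card_congr (subgroupOfEquivOfLe hH'L).toEquiv, hH', card_map_conj])
      (by rw [Nat.card_congr (subgroupOfEquivOfLe hKL).toEquiv, hcard])
    refine ⟨(x : G), ?_⟩
    have hx' : (H'.subgroupOf L).map (MulAut.conj x).toMonoidHom = K.subgroupOf L := hx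
    rw [← map_subgroupOf_eq_of_le hKL, ← hx']
    conv_rhs => rw [← map_subgroupOf_eq_of_le hH'L, map_map]
    rw [map_map]
    congr 1
  -- now `p = r`
  have hpr : p = r := by
    by_contra hpr
    obtain ⟨P, hP⟩ := hNp.exists_le_sylow
    have : IsCyclic (P : Subgroup G) := hcyc p hp hpr P
    have hNcyc : IsCyclic N := isCyclic_of_le hP
    have hexp : Monoid.exponent N ∣ p :=
      Monoid.exponent_dvd_of_forall_pow_eq_one fun y => Subtype.ext (hNe y y.2)
    rw [IsCyclic.exponent_eq_card, he] at hexp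
    have := (Nat.pow_dvd_pow_iff_le_right hp.one_lt).1 (show p ^ e ∣ p ^ 1 by rwa [pow_one])
    omega
  set A := H ⊓ N
  obtain ⟨g, hg⟩ := hD p hp A (K ⊓ N) (hNp.to_le inf_le_right) (hNp.to_le inf_le_right) (by rw [hAc, hBc])
  refine cj_trans (K := H.map (MulAut.conj g).toMonoidHom) ⟨g, rfl⟩ ?_
  set H' := H.map (MulAut.conj g).toMonoidHom with hH'
  set B := K ⊓ N with hB
  have hH'B : H' ⊓ N = B := by
    rw [hg, hH', Subgroup.map_inf _ _ _ (MulAut.conj g).injective, map_conj_normal N]
  set R := normalizer (B : Set G) with hR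
  have hnorm : ∀ L : Subgroup G, L ⊓ N = B → L ≤ R := by
    intro L hL y hy
    rw [hR, mem_normalizer_iff]
    intro z
    rw [← hL, mem_inf, mem_inf]
    constructor
    · rintro ⟨h1, h2⟩; exact ⟨mul_mem (mul_mem hy h1) (inv_mem hy), hNn.conj_mem z h2 y⟩
    · rintro ⟨h1, h2⟩
      exact ⟨by simpa [mul_assoc] using mul_mem (mul_mem (inv_mem hy) h1) hy,
        by simpa [mul_assoc] using hNn.conj_mem _ h2 y⁻¹⟩
  -- `p`-complements
  have hcompl : ∀ L : Subgroup G, Nat.card L = p ^ a * m → L ⊓ N = B →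
      ∃ L₀ : Subgroup R, Nat.card L₀ = m ∧ B ⊔ L₀.map R.subtype = L := by
    intro L hL hLB
    obtain ⟨L₁, hL₁⟩ := H19.hall_exists (G := L) (m := m) (n := p ^ a) (by rw [hL, mul_comm]) (hmp.pow_left a).symm
    set L₂ := L₁.map L.subtype
    have hL₂c : Nat.card L₂ = m := by rw [card_map_of_injective L.subtype_injective, hL₁]
    have hL₂R : L₂ ≤ R := (map_subtype_le _).trans (hnorm L hLB)
    refine ⟨L₂.subgroupOf R, by rw [Nat.card_congr (subgroupOfEquivOfLe hL₂R).toEquiv, hL₂c], ?_⟩
    rw [map_subgroupOf_eq_of_le hL₂R]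
    refine eq_of_le_of_card_ge (sup_le (hLB ▸ inf_le_left) (map_subtype_le _)) (Nat.le_of_dvd Nat.card_pos ?_)
    rw [hL]
    exact (hmp.pow_left a).mul_dvd_of_dvd_of_dvd (hBc ▸ card_dvd_of_le le_sup_left) (hL₂c ▸ card_dvd_of_le le_sup_right)
  obtain ⟨H₀, hH₀, hH₀'⟩ := hcompl H' (by rw [hH', card_map_conj, hm]) hH'B
  obtain ⟨K₀, hK₀, hK₀'⟩ := hcompl K (by rw [← hcard, hm]) rfl
  -- a Hall subgroup of the normalizer
  set f := (Nat.card R).factorization p
  have hRfac : Nat.card R = Nat.card R / p ^ f * p ^ f := (Nat.div_mul_cancel (Nat.ordProj_dvd _ p)).symm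
  have hRcop : (Nat.card R / p ^ f).Coprime (p ^ f) := (Nat.coprime_ordCompl hp Nat.card_pos.ne').symm.pow_right _
  obtain ⟨M, hM, hdom⟩ := H19.hall_exists_dominant _ _ hRfac hRcop
  obtain ⟨u, hu⟩ := hdom H₀ (by rw [hH₀]; exact (hmp.pow_left _).symm)
  obtain ⟨v, hv⟩ := hdom K₀ (by rw [hK₀]; exact (hmp.pow_left _).symm)
  set H₁ := H₀.map (MulAut.conj u).toMonoidHom
  set K₁ := K₀.map (MulAut.conj v).toMonoidHom
  have hH₁M : H₁ ≤ M := hu
  have hK₁M : K₁ ≤ M := hv
  have hMp : ¬ p ∣ Nat.card M := by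
    rw [hM]; exact Nat.not_dvd_ordCompl hp Nat.card_pos.ne'
  have hMlt : Nat.card M < n := by
    have h2 : p ∣ Nat.card G := (dvd_pow_self p ha0).trans ((hAc ▸ dvd_rfl : p ^ a ∣ Nat.card A).trans A.card_subgroup_dvd_card)
    refine lt_of_le_of_ne ?_ fun h => hMp (by rw [h, ← hn]; exact h2)
    exact hn ▸ (M.card_le_card_group).trans R.card_le_card_group
  have hMcyc : ∀ q : ℕ, q.Prime → ∀ Q : Sylow q M, IsCyclic Q := by
    intro q hq Q
    have := Fact.mk hq
    by_cases hqp : q = p
    · subst hqp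
      have : Subsingleton (Q : Subgroup M) := by
        rw [← Finite.card_le_one_iff_subsingleton, Q.card_eq_multiplicity, Nat.factorization_eq_zero_of_not_dvd hMp, pow_zero]
      exact isCyclic_of_subsingleton
    · let j : M →* G := R.subtype.comp M.subtype
      have hj : Function.Injective j := R.subtype_injective.comp M.subtype_injective
      obtain ⟨P, hP⟩ := (Q.2.map j).exists_le_sylow
      have : IsCyclic (P : Subgroup G) := hcyc q hq (hpr ▸ hqp) P
      have := isCyclic_of_le hP
      exact isCyclic_of_surjective ((Q : Subgroup M).equivMapOfInjective j hj).symm.toMonoidHom (MulEquiv.surjective _)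
  obtain ⟨w, hw⟩ := ih _ hMlt M rfl inferInstance (psubgroupsConj_of_cyclic hMcyc) 0 (fun q hq _ => hMcyc q hq)
    (H₁.subgroupOf M) (K₁.subgroupOf M)
    (by rw [Nat.card_congr (subgroupOfEquivOfLe hH₁M).toEquiv, Nat.card_congr (subgroupOfEquivOfLe hK₁M).toEquiv,
      card_map_conj, card_map_conj, hH₀, hK₀])
  have hw' : K₁ = H₁.map (MulAut.conj (w : R)).toMonoidHom := by
    rw [← map_subgroupOf_eq_of_le hK₁M, hw, map_map]
    conv_rhs => rw [← map_subgroupOf_eq_of_le hH₁M, map_map]
    congr 1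
  set x : R := v⁻¹ * ((w : R) * u) with hx
  have hK₀eq : K₀ = H₀.map (MulAut.conj x).toMonoidHom := by
    rw [hx, ← map_conj_mul, ← map_conj_mul, ← hw', map_conj_mul, inv_mul_cancel]
    ext y; simp
  refine ⟨(x : G), ?_⟩
  rw [← hK₀', ← hH₀', Subgroup.map_sup, hK₀eq, map_map, map_map]
  congr 1
  refine (eq_of_le_of_card_ge ?_ (card_map_conj B _).ge).symm
  rintro _ ⟨z, hz, rfl⟩
  exact (mem_normalizer_iff.1 x.2 z).1 hz

theorem cj_of_equal_order [Group.IsSolvable G] (hD : PSubgroupsConj G) (r : ℕ)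
    (hcyc : ∀ p : ℕ, p.Prime → p ≠ r → ∀ P : Sylow p G, IsCyclic P) (H K : Subgroup G)
    (h : Nat.card H = Nat.card K) : Cj H K :=
  cj_of_equal_order_aux _ G rfl inferInstance hD r hcyc H K h

end Cfsg.Agent.H86
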