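import Mathlib.Algebra.IsPrimePow
import Mathlib.GroupTheory.Solvable
import Mathlib.GroupTheory.SchurZassenhaus
import Cfsg.Agent.H19.Cores
import Cfsg.Agent.H19.MinimalNormal
import Cfsg.Agent.H21.Complement
import Cfsg.Agent.H21.Fpf

/-!
Finite groups all of whose elements have prime power order.
-/

namespace Cfsg.Agent.H86

/-- All non-identity elements have prime power order. -/
def AllPrimePowerOrder (G : Type*) [Group G] : Prop :=
  ∀ g : G, g ≠ 1 → IsPrimePow (orderOf g)

namespace AllPrimePowerOrder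

variable {G : Type*} [Group G] [Finite G]

/-- Elements of distinct prime orders do not commute. -/
theorem not_commute (h : AllPrimePowerOrder G) {a b : G} {p q : ℕ} (hp : p.Prime) (hq : q.Prime) (hpq : p ≠ q)
    (ha : orderOf a = p) (hb : orderOf b = q) : ¬ Commute a b := by
  intro hc
  have hcop : (orderOf a).Coprime (orderOf b) := by rw [ha, hb]; exact (Nat.coprime_primes hp hq).2 hpq
  have ho := hc.orderOf_mul_eq_mul_orderOf_of_coprime hcop
  rw [ha, hb] at ho
  have hne : a * b ≠ 1 := fun h1 => by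
    rw [h1, orderOf_one] at ho
    exact hp.ne_one (Nat.eq_one_of_mul_eq_one_right ho.symm)
  obtain ⟨r, k, hr, -, hk⟩ := (isPrimePow_nat_iff _).1 (h _ hne)
  have hk' : p * q = r ^ k := ho ▸ hk.symm
  exact hpq (((Nat.prime_dvd_prime_iff_eq hp hr).1 (hp.dvd_of_dvd_pow (hk' ▸ dvd_mul_right p q))).trans
    ((Nat.prime_dvd_prime_iff_eq hq hr).1 (hq.dvd_of_dvd_pow (hk' ▸ dvd_mul_left q p))).symm)

/-- Subgroups inherit the property. -/
theorem subgroup (h : AllPrimePowerOrder G) (H : Subgroup G) : AllPrimePowerOrder H := fun g hg => by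
  rw [← Subgroup.orderOf_coe]; exact h g (fun h1 => hg (Subtype.ext h1))

/-- Quotients inherit the property. -/
theorem quotient (h : AllPrimePowerOrder G) (N : Subgroup G) [N.Normal] : AllPrimePowerOrder (G ⧸ N) := by
  intro x hx
  obtain ⟨g, rfl⟩ := QuotientGroup.mk'_surjective N x
  have hg : g ≠ 1 := fun h1 => hx (by rw [h1, map_one])
  obtain ⟨p, k, hp, hk, hpk⟩ := (isPrimePow_nat_iff _).1 (h g hg)
  obtain ⟨i, -, hi⟩ := (Nat.dvd_prime_pow hp).1 (hpk ▸ orderOf_map_dvd (QuotientGroup.mk' N) g)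
  refine (isPrimePow_nat_iff _).2 ⟨p, i, hp, Nat.pos_of_ne_zero fun h0 => hx ?_, hi.symm⟩
  rw [← orderOf_eq_one_iff, hi, h0, pow_zero]

/-- The centralizer of an element of order `p` is a `p`-group. -/
theorem isPGroup_centralizer (h : AllPrimePowerOrder G) {v : G} {p : ℕ} [Fact p.Prime] (hv : orderOf v = p)
    (H : Subgroup G) (hH : ∀ c ∈ H, Commute c v) : IsPGroup p H := by
  rw [IsPGroup.iff_card]
  refine ⟨_, Nat.eq_prime_pow_of_unique_prime_dvd Nat.card_pos.ne' fun {q} hq hd => ?_⟩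
  haveI := Fact.mk hq
  obtain ⟨⟨c, hc⟩, hco⟩ := exists_prime_orderOf_dvd_card' q hd
  rw [Subgroup.orderOf_mk] at hco
  by_contra hne
  exact h.not_commute hq Fact.out hne hco hv (hH c hc)

/-- A commutative such group is a `p`-group. -/
theorem exists_isPGroup_of_comm (h : AllPrimePowerOrder G) (hc : ∀ a b : G, a * b = b * a) :
    ∃ p : ℕ, p.Prime ∧ IsPGroup p G := by
  rcases subsingleton_or_nontrivial G with hs | hnt
  · exact ⟨2, Nat.prime_two, fun g => ⟨0, Subsingleton.elim _ _⟩⟩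
  obtain ⟨p, hp, hd⟩ := Nat.exists_prime_and_dvd (Finite.one_lt_card (α := G)).ne'
  haveI := Fact.mk hp
  obtain ⟨v, hv⟩ := exists_prime_orderOf_dvd_card' p hd
  exact ⟨p, hp, (h.isPGroup_centralizer hv ⊤ (fun c _ => hc c v)).of_equiv Subgroup.topEquiv⟩

omit [Finite G] in
/-- A nontrivial `p`-subgroup contains an element of order `p`. -/
theorem exists_orderOf_eq {p : ℕ} [Fact p.Prime] [Finite G] {V : Subgroup G} (hV : IsPGroup p V) (hV1 : V ≠ ⊥) :
    ∃ v ∈ V, orderOf v = p := by
  haveI := (Subgroup.nontrivial_iff_ne_bot V).2 hV1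
  obtain ⟨k, hk0, hk⟩ := hV.nontrivial_iff_card.1 inferInstance
  obtain ⟨⟨v, hv⟩, hvo⟩ := exists_prime_orderOf_dvd_card' (G := V) p (hk ▸ dvd_pow_self p hk0.ne')
  exact ⟨v, hv, by rwa [Subgroup.orderOf_mk] at hvo⟩

/-- An elementary abelian normal `q`-subgroup above a normal `p`-subgroup has order `q`. -/
theorem card_layer (h : AllPrimePowerOrder G) {p q : ℕ} [hp : Fact p.Prime] [hq : Fact q.Prime] (hpq : q ≠ p)
    (P : Subgroup G) [P.Normal] (hP : IsPGroup p P) (hP1 : P ≠ ⊥) (W : Subgroup (G ⧸ P))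
    (hW1 : W ≠ ⊥) (hWc : IsMulCommutative W) (hWe : ∀ x ∈ W, x ^ q = 1) : Nat.card W = q := by
  have hWp : IsPGroup q W := fun x => ⟨1, by
    rw [pow_one]; exact Subtype.ext (hWe x x.2)⟩
  set π := QuotientGroup.mk' P
  set W' := W.comap π with hW'
  have hPW : P ≤ W' := fun x hx => by
    rw [hW', Subgroup.mem_comap, show π x = 1 from (QuotientGroup.eq_one_iff x).2 hx]; exact W.one_mem
  let f : W' →* W := { toFun := fun x => ⟨π (x : G), x.2⟩, map_one' := Subtype.ext (map_one π), map_mul' := fun a b => Subtype.ext (map_mul π (a : G) (b : G)) }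
  have hfs : Function.Surjective f := fun w => by
    obtain ⟨x, hx⟩ := QuotientGroup.mk'_surjective P (w : G ⧸ P)
    exact ⟨⟨x, show π x ∈ W by rw [hx]; exact w.2⟩, Subtype.ext hx⟩
  have hker : f.ker = P.subgroupOf W' := by
    ext x
    rw [MonoidHom.mem_ker, Subgroup.mem_subgroupOf, ← Subtype.coe_inj]
    exact QuotientGroup.eq_one_iff (x : G)
  have hindex : (P.subgroupOf W').index = Nat.card W := by
    rw [← hker, Subgroup.index_ker, MonoidHom.range_eq_top.2 hfs, Subgroup.card_top]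
  obtain ⟨a, ha⟩ := IsPGroup.iff_card.1 hP
  obtain ⟨b, hb⟩ := IsPGroup.iff_card.1 hWp
  have hcardP : Nat.card (P.subgroupOf W') = p ^ a := by
    rw [Nat.card_congr (Subgroup.subgroupOfEquivOfLe hPW).toEquiv, ha]
  obtain ⟨Q, hQ⟩ := Subgroup.exists_right_complement'_of_coprime (N := P.subgroupOf W')
    (by rw [hindex, hcardP, hb]; exact Nat.coprime_pow_primes a b hp.out hq.out hpq.symm)
  have hinj : Function.Injective (f.comp Q.subtype) := by
    rw [injective_iff_map_eq_one]
    intro x hx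
    have h1 : (x : W') ∈ P.subgroupOf W' := hker ▸ hx
    exact Subtype.ext (Subgroup.mem_bot.1 (hQ.disjoint.le_bot ⟨h1, x.2⟩))
  have hcardQ : Nat.card Q = Nat.card W := by rw [← hindex, hQ.symm.index_eq_card]
  haveI : IsMulCommutative Q := ⟨⟨fun x y => hinj (by
    rw [map_mul, map_mul]; exact hWc.is_comm.comm _ _)⟩⟩
  haveI : Nontrivial P := (Subgroup.nontrivial_iff_ne_bot P).2 hP1
  let ψ : Q →* MulAut P := (MulAut.conjNormal.comp W'.subtype).comp Q.subtype
  have hfpf : ∀ e : Q, e ≠ 1 → ∀ k : P, ψ e k = k → k = 1 := by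
    intro e he k hk
    by_contra hk1
    have hc : Commute ((e : W') : G) (k : G) := by
      have h1 : ((e : W') : G) * k * ((e : W') : G)⁻¹ = k := congrArg Subtype.val hk
      exact mul_inv_eq_iff_eq_mul.1 h1
    obtain ⟨i, hi⟩ := IsPGroup.iff_orderOf.1 hP k
    obtain ⟨j, hj⟩ := IsPGroup.iff_orderOf.1 (IsPGroup.of_card (hcardQ.trans hb)) e
    rw [← Subgroup.orderOf_coe] at hi
    rw [← Subgroup.orderOf_coe, ← Subgroup.orderOf_coe] at hj
    have hi0 : i ≠ 0 := fun h0 => hk1 (Subtype.ext (orderOf_eq_one_iff.1 (by rw [hi, h0, pow_zero])))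
    have hj0 : j ≠ 0 := fun h0 => he (Subtype.ext (Subtype.ext (orderOf_eq_one_iff.1 (by rw [hj, h0, pow_zero]))))
    refine h.not_commute hq.out hp.out hpq ?_ ?_ (hc.pow_pow (q ^ (j - 1)) (p ^ (i - 1)))
    · rw [orderOf_pow' _ (pow_ne_zero _ hq.out.ne_zero), hj, Nat.gcd_eq_right (pow_dvd_pow q (Nat.sub_le j 1)),
        Nat.pow_div (Nat.sub_le j 1) hq.out.pos, show j - (j - 1) = 1 by omega, pow_one]
    · rw [orderOf_pow' _ (pow_ne_zero _ hp.out.ne_zero), hi, Nat.gcd_eq_right (pow_dvd_pow p (Nat.sub_le i 1)),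
        Nat.pow_div (Nat.sub_le i 1) hp.out.pos, show i - (i - 1) = 1 by omega, pow_one]
  haveI := H21.isCyclic_of_comm_fpf ψ hfpf
  rw [← hcardQ, ← IsCyclic.exponent_eq_card]
  have hexp : Monoid.exponent Q ∣ q := Monoid.exponent_dvd_of_forall_pow_eq_one fun x => hinj (by
    rw [map_pow, map_one]; exact Subtype.ext (hWe _ (f ((x : Q) : W')).2))
  refine ((Nat.dvd_prime hq.out).1 hexp).resolve_left fun h1 => hW1 (Subgroup.eq_bot_of_card_eq _ ?_)
  rw [← hcardQ, ← IsCyclic.exponent_eq_card, h1]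

/-- The quotient by the centralizer of a normal subgroup of prime order is commutative. -/
theorem quotient_centralizer_comm {X : Type*} [Group X] [Finite X] (W : Subgroup X) [W.Normal] {q : ℕ} [Fact q.Prime]
    (hW : Nat.card W = q) [(Subgroup.centralizer (W : Set X)).Normal] (a b : X ⧸ Subgroup.centralizer (W : Set X)) :
    a * b = b * a := by
  haveI : IsCyclic W := isCyclic_of_prime_card hW
  obtain ⟨x, rfl⟩ := QuotientGroup.mk'_surjective _ a
  obtain ⟨y, rfl⟩ := QuotientGroup.mk'_surjective _ b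
  rw [← map_mul, ← map_mul, QuotientGroup.mk'_apply, QuotientGroup.mk'_apply, QuotientGroup.eq,
    Subgroup.mem_centralizer_iff]
  intro w hw
  have h1 : MulAut.conjNormal (H := W) ((x * y)⁻¹ * (y * x)) = 1 := by
    have hc : ∀ s t : MulAut W, s * t = t * s := fun s t =>
      (IsCyclic.mulAutMulEquiv W).injective (by rw [map_mul, map_mul, mul_comm])
    rw [map_mul, map_inv, map_mul, map_mul, hc (MulAut.conjNormal y) (MulAut.conjNormal x), inv_mul_cancel]
  have h2 : ((x * y)⁻¹ * (y * x)) * w * ((x * y)⁻¹ * (y * x))⁻¹ = w := by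
    have h3 := congrArg Subtype.val (DFunLike.congr_fun h1 (⟨w, hw⟩ : W))
    rw [MulAut.conjNormal_apply] at h3
    exact h3
  exact (mul_inv_eq_iff_eq_mul.1 h2).symm

/-- A group with such a layer is solvable, and its order involves only three primes. -/
theorem layer_structure (h : AllPrimePowerOrder G) {p : ℕ} [hp : Fact p.Prime] {q : ℕ} [hq : Fact q.Prime]
    (hpq : q ≠ p) (P : Subgroup G) [P.Normal] (hP : IsPGroup p P) (hP1 : P ≠ ⊥) (W : Subgroup (G ⧸ P)) [W.Normal]
    (hW1 : W ≠ ⊥) (hWc : IsMulCommutative W) (hWe : ∀ x ∈ W, x ^ q = 1) :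
    Group.IsSolvable G ∧ ∃ r : ℕ, r.Prime ∧ ∀ s : ℕ, s.Prime → s ∣ Nat.card G → s = p ∨ s = q ∨ s = r := by
  have hcard := h.card_layer hpq P hP hP1 W hW1 hWc hWe
  have hX := h.quotient P
  haveI hCn : (Subgroup.centralizer (W : Set (G ⧸ P))).Normal := by
    refine ⟨fun c hc g => Subgroup.mem_centralizer_iff.2 fun w hw => ?_⟩
    have h1 : g⁻¹ * w * g ∈ W := by simpa using (inferInstance : W.Normal).conj_mem w hw g⁻¹
    calc w * (g * c * g⁻¹) = g * ((g⁻¹ * w * g) * c) * g⁻¹ := by group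
      _ = g * (c * (g⁻¹ * w * g)) * g⁻¹ := by rw [Subgroup.mem_centralizer_iff.1 hc _ h1]
      _ = g * c * g⁻¹ * w := by group
  set C := Subgroup.centralizer (W : Set (G ⧸ P))
  have hWp : IsPGroup q W := IsPGroup.of_card (n := 1) (by rw [hcard, pow_one])
  obtain ⟨w, hw, hwo⟩ := exists_orderOf_eq hWp hW1
  have hC : IsPGroup q C := hX.isPGroup_centralizer hwo C fun c hc => (Subgroup.mem_centralizer_iff.1 hc w hw).symm
  have hcomm : ∀ a b : (G ⧸ P) ⧸ C, a * b = b * a := quotient_centralizer_comm W hcard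
  obtain ⟨r, hr, hDr⟩ := (hX.quotient C).exists_isPGroup_of_comm hcomm
  constructor
  · haveI : Group.IsSolvable ((G ⧸ P) ⧸ C) := Group.isSolvable_of_comm hcomm
    haveI : Group.IsSolvable C := @IsNilpotent.to_isSolvable _ _ hC.isNilpotent
    haveI : Group.IsSolvable P := @IsNilpotent.to_isSolvable _ _ hP.isNilpotent
    haveI : Group.IsSolvable (G ⧸ P) := Group.isSolvable_of_ker_le_range C.subtype (QuotientGroup.mk' C) (by simp)
    exact Group.isSolvable_of_ker_le_range P.subtype (QuotientGroup.mk' P) (by simp)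
  · refine ⟨r, hr, fun s hs hd => ?_⟩
    haveI := Fact.mk hr
    obtain ⟨i, hi⟩ := IsPGroup.iff_card.1 hP
    obtain ⟨j, hj⟩ := IsPGroup.iff_card.1 hC
    obtain ⟨k, hk⟩ := IsPGroup.iff_card.1 hDr
    rw [← P.card_mul_index, Subgroup.index_eq_card, ← C.card_mul_index, Subgroup.index_eq_card, hi, hj, hk] at hd
    rcases (Nat.Prime.dvd_mul hs).1 hd with h1 | h1
    · exact Or.inl ((Nat.prime_dvd_prime_iff_eq hs hp.out).1 (hs.dvd_of_dvd_pow h1))
    rcases (Nat.Prime.dvd_mul hs).1 h1 with h2 | h2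
    · exact Or.inr (Or.inl ((Nat.prime_dvd_prime_iff_eq hs hq.out).1 (hs.dvd_of_dvd_pow h2)))
    · exact Or.inr (Or.inr ((Nat.prime_dvd_prime_iff_eq hs hr).1 (hs.dvd_of_dvd_pow h2)))

/-- A solvable group with all element orders prime powers involves at most two primes. -/
theorem card_primeFactors_le_two (h : AllPrimePowerOrder G) [Group.IsSolvable G] :
    (Nat.card G).primeFactors.card ≤ 2 := by
  classical
  rcases subsingleton_or_nontrivial G with hs | hnt
  · simp [Nat.card_of_subsingleton (1 : G)]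
  obtain ⟨V, p, hVn, -, hV1, hVc, hp, hVp, hVe⟩ := H19.exists_normal_elementary_le (⊤ : Subgroup G) inferInstance top_ne_bot
  haveI := hVn
  haveI := Fact.mk hp
  haveI := H19.pCore_normal p G
  set P := Cfsg.pCore p G with hPdef
  have hP : IsPGroup p P := H19.pCore_isPGroup (G := G) p
  have hVP : V ≤ P := H19.le_pCore hVn hVp
  have hP1 : P ≠ ⊥ := fun h0 => hV1 (eq_bot_iff.2 (h0 ▸ hVP))
  obtain ⟨a, ha⟩ := IsPGroup.iff_card.1 hP
  rcases subsingleton_or_nontrivial (G ⧸ P) with hsq | hntq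
  · have hG : Nat.card G = p ^ a := by
      rw [← P.card_mul_index, Subgroup.index_eq_card, Nat.card_of_subsingleton (1 : G ⧸ P), mul_one, ha]
    rcases Nat.eq_zero_or_pos a with h0 | h0
    · simp [hG, h0]
    · rw [hG, Nat.primeFactors_prime_pow h0.ne' hp]; simp
  obtain ⟨W, q, hWn, -, hW1, hWc, hq, hWq, hWe⟩ :=
    H19.exists_normal_elementary_le (⊤ : Subgroup (G ⧸ P)) inferInstance top_ne_bot
  haveI := hWn
  haveI := Fact.mk hq
  have hpq : q ≠ p := fun h0 => by
    subst h0
    exact hW1 (eq_bot_iff.2 ((H19.le_pCore hWn hWq).trans (H19.pCore_quotient_pCore q).le))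
  obtain ⟨-, r, hr, hprimes⟩ := h.layer_structure hpq P hP hP1 W hW1 hWc hWe
  by_contra hgt
  have hsub : (Nat.card G).primeFactors ⊆ {p, q, r} := fun s hs => by
    obtain ⟨h1, h2, -⟩ := Nat.mem_primeFactors.1 hs
    simpa using hprimes s h1 h2
  have hrmem : r ≠ p ∧ r ≠ q ∧ r ∣ Nat.card G := by
    by_contra hc
    have hsub2 : (Nat.card G).primeFactors ⊆ {p, q} := fun s hs => by
      have h1 := hsub hs
      simp only [Finset.mem_insert, Finset.mem_singleton] at h1 ⊢
      rcases h1 with h1 | h1 | rfl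
      · exact Or.inl h1
      · exact Or.inr h1
      · by_contra hc2
        push Not at hc2
        exact hc ⟨hc2.1, hc2.2, Nat.dvd_of_mem_primeFactors hs⟩
    exact hgt ((Finset.card_le_card hsub2).trans Finset.card_le_two)
  obtain ⟨hrp, hrq, hrd⟩ := hrmem
  haveI := Fact.mk hr
  obtain ⟨x, hx⟩ := exists_prime_orderOf_dvd_card' r hrd
  -- the action on a central normal subgroup of `P`
  set U := (Subgroup.center P).map P.subtype with hU
  haveI : U.Normal := ConjAct.normal_of_characteristic_of_normal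
  haveI : Nontrivial (Subgroup.center P) := by
    haveI := (Subgroup.nontrivial_iff_ne_bot P).2 hP1
    exact hP.center_nontrivial
  haveI hUnt : Nontrivial U := ((Subgroup.center P).equivMapOfInjective P.subtype P.subtype_injective).toEquiv.symm.nontrivial
  have hUP : U ≤ P := Subgroup.map_subtype_le _
  letI : CommGroup U := { (inferInstance : Group U) with
    mul_comm := fun s t => by
      obtain ⟨s', hs', hse⟩ := s.2
      refine Subtype.ext ?_
      show (s : G) * t = t * s
      rw [← hse]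
      exact congrArg Subtype.val ((Subgroup.mem_center_iff.1 hs') ⟨t, hUP t.2⟩).symm }
  let φ : G →* MulAut U := MulAut.conjNormal
  have hUp : IsPGroup p U := hP.to_le hUP
  obtain ⟨u, hu, huo⟩ := exists_orderOf_eq hUp ((Subgroup.nontrivial_iff_ne_bot U).1 hUnt)
  have hker : φ.ker = P := by
    refine le_antisymm (H19.le_pCore (MonoidHom.normal_ker φ) (h.isPGroup_centralizer huo _ fun c hc => ?_)) ?_
    · have h1 : c * u * c⁻¹ = u := by
        have := congrArg Subtype.val (DFunLike.congr_fun (MonoidHom.mem_ker.1 hc) (⟨u, hu⟩ : U))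
        simpa [φ] using this
      exact mul_inv_eq_iff_eq_mul.1 h1
    · intro c hc
      rw [MonoidHom.mem_ker]
      refine MulEquiv.ext fun v => Subtype.ext ?_
      obtain ⟨s', hs', hse⟩ := v.2
      show c * (v : G) * c⁻¹ = v
      rw [mul_inv_eq_iff_eq_mul, ← hse]
      exact congrArg Subtype.val ((Subgroup.mem_center_iff.1 hs') ⟨c, hc⟩)
  set π := QuotientGroup.mk' P
  set N := (W.comap π).map φ with hN
  have hxN : ∀ n ∈ N, φ x * n * (φ x)⁻¹ ∈ N := by
    rintro _ ⟨y, hy, rfl⟩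
    exact ⟨x * y * x⁻¹, (inferInstance : (W.comap π).Normal).conj_mem y hy x, by simp⟩
  have hφx : φ x ∈ Subgroup.normalizer (N : Set (MulAut U)) := by
    rw [Subgroup.mem_normalizer_iff]
    intro n
    refine ⟨hxN n, fun hn => ?_⟩
    obtain ⟨y, hy, hye⟩ := hn
    exact ⟨x⁻¹ * y * x, by simpa using (inferInstance : (W.comap π).Normal).conj_mem y hy x⁻¹, by
      rw [map_mul, map_mul, map_inv, hye]; group⟩
  let θ : N ≃* N := N.normalizerMonoidHom ⟨φ x, hφx⟩
  have hθit : ∀ (j : ℕ) (n : N), (((θ^[j]) n : N) : MulAut U) = (φ x) ^ j * n * ((φ x) ^ j)⁻¹ := by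
    intro j
    induction j with
    | zero => simp
    | succ j ih =>
      intro n
      rw [Function.iterate_succ_apply', pow_succ']
      show φ x * (((θ^[j]) n : N) : MulAut U) * (φ x)⁻¹ = _
      rw [ih]; group
  have hVfix : ∀ v : U, φ x • v = v → v = 1 := by
    intro v hv
    by_contra hv1
    obtain ⟨i, hi⟩ := IsPGroup.iff_orderOf.1 hUp v
    rw [← Subgroup.orderOf_coe] at hi
    have hi0 : i ≠ 0 := fun h0 => hv1 (Subtype.ext (orderOf_eq_one_iff.1 (by rw [hi, h0, pow_zero])))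
    have hc : Commute x (v : G) := mul_inv_eq_iff_eq_mul.1 (congrArg Subtype.val hv)
    refine h.not_commute hr hp hrp hx ?_ (hc.pow_right (p ^ (i - 1)))
    rw [orderOf_pow' _ (pow_ne_zero _ hp.ne_zero), hi, Nat.gcd_eq_right (pow_dvd_pow p (Nat.sub_le i 1)),
      Nat.pow_div (Nat.sub_le i 1) hp.pos, show i - (i - 1) = 1 by omega, pow_one]
  have hXq : ∀ n : N, (n : MulAut U) ≠ 1 → ∀ j, 0 < j → j < r → (θ^[j]) n ≠ n := by
    intro n hn j hj0 hjr heq
    obtain ⟨y, hy, hye⟩ := n.2
    have h1 := congrArg Subtype.val heq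
    rw [hθit, ← hye, ← map_pow, ← map_inv, ← map_mul, ← map_mul] at h1
    have h2 : (x ^ j * y * (x ^ j)⁻¹) * y⁻¹ ∈ P := by
      rw [← hker, MonoidHom.mem_ker, map_mul, map_inv, h1, mul_inv_cancel]
    have h3 : Commute (π (x ^ j)) (π y) := by
      have h4 : π ((x ^ j * y * (x ^ j)⁻¹) * y⁻¹) = 1 := (QuotientGroup.eq_one_iff _).2 h2
      rw [map_mul, map_inv, mul_inv_eq_one, map_mul, map_mul, map_inv] at h4
      exact mul_inv_eq_iff_eq_mul.1 h4
    have hyq : orderOf (π y) = q := by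
      refine orderOf_eq_prime (hWe _ hy) fun h5 => hn ?_
      rw [← hye]
      have h6 : y ∈ φ.ker := by rw [hker]; exact (QuotientGroup.eq_one_iff y).1 h5
      exact h6
    have hxr : orderOf (π (x ^ j)) = r := by
      refine orderOf_eq_prime (by rw [← map_pow, ← pow_mul, mul_comm, pow_mul, ← hx, pow_orderOf_eq_one, one_pow, map_one]) fun h5 => ?_
      have h6 : orderOf (x ^ j) = r := by
        refine orderOf_eq_prime (by rw [← pow_mul, mul_comm, pow_mul, ← hx, pow_orderOf_eq_one, one_pow]) fun h7 => ?_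
        have h8 := Nat.le_of_dvd hj0 (hx ▸ orderOf_dvd_of_pow_eq_one h7)
        omega
      obtain ⟨k, hk⟩ := IsPGroup.iff_orderOf.1 hP ⟨x ^ j, (QuotientGroup.eq_one_iff _).1 h5⟩
      rw [Subgroup.orderOf_mk, h6] at hk
      exact hrp ((Nat.prime_dvd_prime_iff_eq hr hp).1 (hr.dvd_of_dvd_pow (dvd_of_eq hk)))
    exact (h.quotient P).not_commute hr hq hrq hxr hyq h3
  have hcardN : Nat.card N ∣ q := by
    have hW := h.card_layer hpq P hP hP1 W hW1 hWc hWe
    have h1 : Nat.card N ∣ Nat.card W := by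
      refine dvd_of_eq ?_
      calc Nat.card N = P.relIndex (W.comap π) := by rw [hN, ← Subgroup.relIndex_ker, hker]
        _ = π.ker.relIndex (W.comap π) := by rw [QuotientGroup.ker_mk']
        _ = Nat.card W := by
          rw [Subgroup.relIndex_ker, Subgroup.map_comap_eq_self_of_surjective (QuotientGroup.mk'_surjective P)]
    rwa [hW] at h1
  obtain ⟨b, hb⟩ := IsPGroup.iff_card.1 hUp
  have hcop : (Nat.card U).Coprime (Nat.card N) :=
    (by rw [hb]; exact ((Nat.coprime_primes hp hq).2 hpq.symm).pow_left b : (Nat.card U).Coprime q).coprime_dvd_right hcardN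
  obtain ⟨y, hy, hy1⟩ := (Subgroup.bot_or_exists_ne_one W).resolve_left hW1
  obtain ⟨y, rfl⟩ := QuotientGroup.mk'_surjective P y
  have hphy : φ y = 1 := by
    refine MulEquiv.ext fun v => ?_
    obtain ⟨v', rfl⟩ := (powCoprime hcop).surjective v
    exact H21.smul_pow_card_eq (A := MulAut U) (V := U) N.subtype (φ x) θ r hr.pos (fun n => rfl)
      (by rw [← map_pow, ← hx, pow_orderOf_eq_one, map_one])
      (fun j hj0 hjr n hn => by
        by_contra hn1
        exact hXq n (fun h1 => hn1 (Subtype.ext h1)) j hj0 hjr hn) hVfix v' ⟨φ y, y, hy, rfl⟩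
  exact hy1 ((QuotientGroup.eq_one_iff y).2 (hker ▸ hphy))

end AllPrimePowerOrder

end Cfsg.Agent.H86
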