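import Mathlib.GroupTheory.Solvable
import Mathlib.GroupTheory.Subgroup.Simple
import Mathlib.GroupTheory.QuotientGroup.Finite
import Mathlib.GroupTheory.Index
import Mathlib.Tactic.Linarith

/-!
Solvability by induction for properties inherited by normal subgroups and quotients.
-/

universe u

namespace Cfsg.Agent.H86

/-- A property inherited by normal subgroups and quotients, held by no non-solvable simple group,
forces solvability. -/
theorem isSolvable_of_hereditary (Q : ∀ (H : Type u) [Group H] [Finite H], Prop)
    (hsub : ∀ (H : Type u) [Group H] [Finite H] (N : Subgroup H) [N.Normal], Q H → Q N)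
    (hquot : ∀ (H : Type u) [Group H] [Finite H] (N : Subgroup H) [N.Normal], Q H → Q (H ⧸ N))
    (hsimple : ∀ (H : Type u) [Group H] [Finite H] [IsSimpleGroup H], Q H → Group.IsSolvable H)
    (G : Type u) [Group G] [Finite G] (hG : Q G) : Group.IsSolvable G := by
  suffices key : ∀ (n : ℕ) (H : Type u) [Group H] [Finite H], Nat.card H ≤ n → Q H → Group.IsSolvable H from
    key (Nat.card G) G le_rfl hG
  intro n
  induction n with
  | zero => intro H _ _ hn _; exact absurd (Nat.card_pos (α := H)) (by omega)
  | succ n ih =>
    intro H _ _ hn hQ
    rcases subsingleton_or_nontrivial H with hs | hnt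
    · exact Group.isSolvable_of_comm fun a b => Subsingleton.elim _ _
    by_cases hex : ∃ N : Subgroup H, N.Normal ∧ N ≠ ⊥ ∧ N ≠ ⊤
    · obtain ⟨N, hN, hb, ht⟩ := hex
      have h1 : Nat.card N < Nat.card H := by
        refine lt_of_le_of_ne N.card_le_card_group fun h => ht (Subgroup.eq_top_of_card_eq N h)
      have h2 : Nat.card (H ⧸ N) < Nat.card H := by
        rw [← Subgroup.index_eq_card]
        have h3 := N.card_mul_index
        have h4 : 1 < Nat.card N := by
          refine lt_of_le_of_ne Nat.card_pos fun h => hb (Subgroup.eq_bot_of_card_eq N h.symm)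
        have h5 : 0 < N.index := Nat.pos_of_ne_zero Subgroup.index_ne_zero_of_finite
        nlinarith
      haveI := ih N (by omega) (hsub H N hQ)
      haveI := ih (H ⧸ N) (by omega) (hquot H N hQ)
      exact Group.isSolvable_of_ker_le_range N.subtype (QuotientGroup.mk' N) (by simp)
    · push Not at hex
      haveI : IsSimpleGroup H :=
        { eq_bot_or_eq_top_of_normal := fun N hN => by
            by_cases hb : N = ⊥
            · exact Or.inl hb
            · exact Or.inr (hex N hN hb) }
      exact hsimple H hQ

end Cfsg.Agent.H86
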