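import Cfsg.Agent.H86.RankTwoFixed
import Cfsg.Agent.H85.OddCyclic
import Cfsg.Agent.H88.FrattiniAut
import Cfsg.Agent.H88.CaminaPair
import Cfsg.Agent.H20.External
import Cfsg.Agent.H21.ThompsonFpf
import Cfsg.Agent.H24.Resistant
import Cfsg.Agent.S0205

/-!
Solvability of the subgroup of a Camina pair.
-/

set_option autoImplicit false

namespace Cfsg.Agent.H86

open Subgroup
open scoped TensorProduct

/-- No faithful fixed point free linear action. -/
theorem camina_linear_trivial {k : Type*} [Field k] [IsAlgClosed k] {V : Type*} [AddCommGroup V]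
    [Module k V] [FiniteDimensional k V] {R : Type*} [Group R] [Finite R]
    (ρ : R →* Module.End k V) (hR : (Nat.card R : k) ≠ 0) {r : ℕ} [Fact r.Prime] (hr2 : r ≠ 2)
    (hp : IsPGroup r R) {P : Subgroup R} [P.Normal] (hPt : P ≠ ⊤)
    (hclass : ∀ x, x ∉ P → ∀ u ∈ P, ∃ y, y * x * y⁻¹ = x * u)
    (hfix : ∀ x, x ∉ P → ∀ v, ρ x v = v → v = 0) : ∀ u ∈ P, ρ u = 1 := by
  classical
  by_contra hne
  push_neg at hne
  obtain ⟨u0, hu0, hne⟩ := hne
  let V0 : Submodule k V :=
    { carrier := {v | ∀ u ∈ P, ρ u v = v}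
      add_mem' := fun {a b} ha hb u hu => by rw [map_add, ha u hu, hb u hu]
      zero_mem' := fun u _ => map_zero _
      smul_mem' := fun c v hv u hu => by rw [map_smul, hv u hu] }
  obtain ⟨π, hπ, hπr, hπw⟩ := Linked.exists_equi_proj (ρ := ρ) (U := P) hR (W := V0)
    (fun u hu v hv => by rw [hv u hu]; exact hv)
  have hker : LinearMap.ker π ≠ ⊥ := by
    intro h
    refine hne (LinearMap.ext fun v => ?_)
    have h1 : v - π v ∈ LinearMap.ker π := by
      rw [LinearMap.mem_ker, map_sub, hπw _ (hπr v), sub_self]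
    rw [h, Submodule.mem_bot, sub_eq_zero] at h1
    rw [Module.End.one_apply, h1]
    exact hπr v u0 hu0
  obtain ⟨W, hWle, hW⟩ := Linked.exists_irred_le (ρ := ρ) (U := P) hker (fun u hu v hv => by
    rw [LinearMap.mem_ker] at hv ⊢
    rw [hπ u hu, hv, map_zero])
  have hnt : ∃ u ∈ P, ∃ w ∈ W, ρ u w ≠ w := by
    by_contra h
    push_neg at h
    obtain ⟨w, hw, hw0⟩ := Submodule.exists_mem_ne_zero_of_ne_bot hW.1
    have h1 := LinearMap.mem_ker.mp (hWle hw)
    rw [hπw w (fun u hu => h u hu w hw)] at h1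
    exact hw0 h1
  set J := Linked.stab ρ P hR hW
  have hJ := Linked.not_stab_le hp hR hPt hclass le_rfl hW
  set Jq := J.map (QuotientGroup.mk' P)
  by_cases hcyc : IsCyclic Jq
  · obtain ⟨g, hg⟩ := hcyc.exists_generator
    obtain ⟨x, hxJ, hxg⟩ := Subgroup.mem_map.mp g.2
    have hgen : ∀ h ∈ J, ∃ i : ℕ, h * x ^ i ∈ P := by
      intro h hh
      obtain ⟨i, hi⟩ := mem_powers_iff_mem_zpowers.mpr (hg (⟨_, mem_map_of_mem _ hh⟩ : Jq)⁻¹)
      refine ⟨i, ?_⟩
      rw [← QuotientGroup.eq_one_iff, QuotientGroup.mk_mul, QuotientGroup.mk_pow,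
        ← QuotientGroup.mk'_apply P x, hxg]
      have h1 := congrArg Subtype.val hi
      simp only [SubmonoidClass.coe_pow, InvMemClass.coe_inv, QuotientGroup.mk'_apply] at h1
      rw [h1, mul_inv_cancel]
    have hxP : x ∉ P := by
      intro hx
      refine hJ fun h hh => ?_
      obtain ⟨i, hi⟩ := hgen h hh
      exact (P.mul_mem_cancel_right (P.pow_mem hx i)).mp hi
    refine Linked.stab_not_cyclic hR hclass le_rfl hW hnt hxP hxJ (m := orderOf (x : R ⧸ P))
      (fun i => ?_) hgen
    rw [orderOf_dvd_iff_pow_eq_one, ← QuotientGroup.mk_pow, QuotientGroup.eq_one_iff]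
  · have hpq : IsPGroup r Jq := (hp.to_quotient P).to_subgroup Jq
    haveI : Nontrivial Jq := by
      rw [Subgroup.nontrivial_iff_ne_bot]
      intro h
      rw [Subgroup.map_eq_bot_iff, QuotientGroup.ker_mk'] at h
      exact hJ h
    haveI : Nontrivial (center Jq) := hpq.center_nontrivial
    obtain ⟨e, he⟩ := IsPGroup.iff_card.mp (hpq.to_subgroup (center Jq))
    have hdvd : r ∣ Nat.card (center Jq) := by
      rw [he]
      refine dvd_pow_self r fun h => ?_
      have := Finite.one_lt_card (α := center Jq)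
      rw [he, h, pow_zero] at this
      exact lt_irrefl 1 this
    obtain ⟨zc, hzc⟩ := exists_prime_orderOf_dvd_card' r hdvd
    have hc1 : orderOf (zc : Jq) = r := by rw [Subgroup.orderOf_coe]; exact hzc
    obtain ⟨w, hwr, hwz⟩ : ∃ w : Jq, orderOf w = r ∧ w ∉ zpowers (zc : Jq) := by
      by_contra h
      push_neg at h
      refine hcyc (H85.isCyclic_of_unique_order_p hr2 hpq fun a b ha hb => ?_)
      have hz : zpowers a = zpowers (zc : Jq) := by
        refine eq_of_le_of_card_ge (zpowers_le.mpr (h a ha)) ?_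
        rw [Nat.card_zpowers, Nat.card_zpowers, ha, hc1]
      rw [hz]; exact h b hb
    obtain ⟨x, hxJ, hxz⟩ := Subgroup.mem_map.mp (zc : Jq).2
    obtain ⟨y, hyJ, hyw⟩ := Subgroup.mem_map.mp w.2
    rw [QuotientGroup.mk'_apply] at hxz hyw
    have hzr : ((zc : Jq) : R ⧸ P) ^ r = 1 := by
      rw [← SubmonoidClass.coe_pow, ← hc1, pow_orderOf_eq_one]; rfl
    have hwr' : ((w : Jq) : R ⧸ P) ^ r = 1 := by
      rw [← SubmonoidClass.coe_pow, ← hwr, pow_orderOf_eq_one]; rfl
    have hcomm : (x : R ⧸ P) * (y : R ⧸ P) = (y : R ⧸ P) * (x : R ⧸ P) := by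
      rw [hxz, hyw]
      exact (congrArg Subtype.val (Subgroup.mem_center_iff.mp zc.2 w)).symm
    refine Linked.exists_fixed_vector ρ hR hr2 hp hW hxJ hyJ ?_ ?_ ?_ ?_
    · rw [← QuotientGroup.eq_one_iff, QuotientGroup.mk_pow, hxz, hzr]
    · rw [← QuotientGroup.eq_one_iff, QuotientGroup.mk_pow, hyw, hwr']
    · rw [← QuotientGroup.eq_one_iff, QuotientGroup.mk_mul, QuotientGroup.mk_mul, QuotientGroup.mk_mul,
        QuotientGroup.mk_inv, QuotientGroup.mk_inv, hcomm, mul_inv_cancel_right, mul_inv_cancel]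
    · intro i j hi hj hij b hb v hv
      refine hfix _ (fun hmem => ?_) v hv
      rw [P.mul_mem_cancel_right hb, ← QuotientGroup.eq_one_iff, QuotientGroup.mk_mul,
        QuotientGroup.mk_pow, QuotientGroup.mk_pow, hxz, hyw] at hmem
      have h1 : (zc : Jq) ^ i * w ^ j = 1 := Subtype.ext (by
        simpa only [Subgroup.coe_mul, SubmonoidClass.coe_pow, OneMemClass.coe_one] using hmem)
      rcases Nat.eq_zero_or_pos j with hj0 | hj0
      · rw [hj0, pow_zero, mul_one] at h1
        have h2 := orderOf_dvd_of_pow_eq_one h1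
        rw [hc1] at h2
        exact hij ⟨Nat.eq_zero_of_dvd_of_lt h2 hi, hj0⟩
      · refine hwz (Linked.mem_of_pow_mem Fact.out ?_ ?_ (fun h => ?_ : ¬ r ∣ j))
        · rw [← hwr, pow_orderOf_eq_one]; exact one_mem _
        · rw [eq_inv_of_mul_eq_one_right h1]
          exact inv_mem (pow_mem (mem_zpowers _) i)
        · exact absurd (Nat.le_of_dvd hj0 h) (by omega)

/-- The action on a finite elementary abelian group is trivial. -/
theorem camina_elementary_trivial {R E : Type*} [Group R] [Finite R] [CommGroup E] [Finite E]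
    {q : ℕ} [hq : Fact q.Prime] (hexp : ∀ a : E, a ^ q = 1) (σ : R →* MulAut E)
    {r : ℕ} [hr : Fact r.Prime] (hr2 : r ≠ 2) (hqr : q ≠ r) (hp : IsPGroup r R)
    {P : Subgroup R} [P.Normal] (hPt : P ≠ ⊤)
    (hclass : ∀ x, x ∉ P → ∀ u ∈ P, ∃ y, y * x * y⁻¹ = x * u)
    (hfix : ∀ x, x ∉ P → ∀ a, σ x a = a → a = 1) {u : R} (hu : u ∈ P) : σ u = 1 := by
  letI : Module (ZMod q) (Additive E) := AddCommGroup.zmodModule (n := q) fun a =>
    congrArg Additive.ofMul (hexp (Additive.toMul a))
  haveI : Module.Finite (ZMod q) (Additive E) := Module.Finite.of_finite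
  let A1 : R →* Module.End (ZMod q) (Additive E) :=
    { toFun := fun g => (MonoidHom.toAdditive (σ g).toMonoidHom).toZModLinearMap q
      map_one' := LinearMap.ext fun a => by
        show Additive.ofMul (σ 1 (Additive.toMul a)) = a
        rw [map_one]; rfl
      map_mul' := fun g h => LinearMap.ext fun a => by
        show Additive.ofMul (σ (g * h) (Additive.toMul a)) =
          Additive.ofMul (σ g (σ h (Additive.toMul a)))
        rw [map_mul]; rfl }
  have hfix0 : ∀ g, g ∉ P → ∀ a, A1 g a = a → a = 0 := fun g hg a ha =>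
    congrArg Additive.ofMul (hfix g hg (Additive.toMul a) (congrArg Additive.toMul ha))
  -- extend scalars
  let k := AlgebraicClosure (ZMod q)
  let ρ : R →* Module.End k (TensorProduct (ZMod q) k (Additive E)) :=
    (Module.End.baseChangeHom (ZMod q) k (Additive E)).toMonoidHom.comp A1
  haveI : CharP k q := charP_of_injective_algebraMap (algebraMap (ZMod q) k).injective q
  obtain ⟨n, hn⟩ := IsPGroup.iff_card.mp hp
  have hRk : (Nat.card R : k) ≠ 0 := by
    rw [Ne, CharP.cast_eq_zero_iff k q, hn]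
    exact fun h => hqr ((Nat.prime_dvd_prime_iff_eq hq.out hr.out).mp (hq.out.dvd_of_dvd_pow h))
  have hρ : ρ u = 1 := camina_linear_trivial ρ hRk hr2 hp hPt hclass (fun g hg v hv => by
    have hinj : Function.Injective
        ((A1 g : Additive E →ₗ[ZMod q] Additive E) - (LinearMap.id : Additive E →ₗ[ZMod q] Additive E)) := by
      rw [← LinearMap.ker_eq_bot, LinearMap.ker_eq_bot']
      intro a ha'
      exact hfix0 g hg a (sub_eq_zero.mp (by simpa using ha'))
    refine Module.Flat.lTensor_preserves_injective_linearMap (M := k) _ hinj ?_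
    rw [map_zero, LinearMap.lTensor_sub, LinearMap.sub_apply,
      LinearMap.lTensor_id, LinearMap.id_apply, sub_eq_zero]
    exact hv) u hu
  refine MulEquiv.ext fun x => ?_
  have h1 := LinearMap.congr_fun hρ ((1 : k) ⊗ₜ[ZMod q] Additive.ofMul x)
  have hinj : Function.Injective (fun a : Additive E => (1 : k) ⊗ₜ[ZMod q] a) := by
    have h3 := Module.Flat.rTensor_preserves_injective_linearMap (M := Additive E)
      (Algebra.linearMap (ZMod q) k) (algebraMap (ZMod q) k).injective
    intro a b hab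
    apply (TensorProduct.lid (ZMod q) _).symm.injective
    apply h3
    simpa [TensorProduct.lid_symm_apply] using hab
  have h4 : (1 : k) ⊗ₜ[ZMod q] (A1 u (Additive.ofMul x)) = (1 : k) ⊗ₜ[ZMod q] Additive.ofMul x := by
    change LinearMap.baseChange k (A1 u) ((1 : k) ⊗ₜ[ZMod q] Additive.ofMul x) = _ at h1
    rw [LinearMap.baseChange_tmul] at h1
    exact h1
  exact congrArg Additive.toMul (hinj h4)

/-- No fixed point free coprime action on a finite group. -/
theorem camina_action_trivial {R Q : Type*} [Group R] [Finite R] [Group Q] [Finite Q]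
    (φ : R →* MulAut Q) {r : ℕ} [hr : Fact r.Prime] (hr2 : r ≠ 2)
    (hp : IsPGroup r R) (hrQ : ¬ r ∣ Nat.card Q) {P : Subgroup R} [P.Normal] (hPt : P ≠ ⊤)
    (hclass : ∀ x, x ∉ P → ∀ u ∈ P, ∃ y, y * x * y⁻¹ = x * u)
    (hfix : ∀ x, x ∉ P → ∀ q, φ x q = q → q = 1) : ∀ u ∈ P, φ u = 1 := by
  classical
  intro u hu
  obtain ⟨a, ha⟩ := IsPGroup.iff_card.mp hp
  have hcop : (Nat.card R).Coprime (Nat.card Q) := by
    rw [ha]; exact ((hr.out.coprime_iff_not_dvd).mpr hrQ).pow_left a
  have hsolv : Group.IsSolvable R := by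
    haveI := hp.isNilpotent
    infer_instance
  let H : Subgroup Q :=
    { carrier := {q | φ u q = q}
      one_mem' := map_one _
      mul_mem' := fun {a b} (ha : φ u a = a) (hb : φ u b = b) => show φ u (a * b) = a * b by
        rw [map_mul, ha, hb]
      inv_mem' := fun {a} (ha : φ u a = a) => show φ u a⁻¹ = a⁻¹ by rw [map_inv, ha] }
  suffices hall : ∀ (q : ℕ) (hq : q.Prime), q ∣ Nat.card Q → q ^ (Nat.card Q).factorization q ∣ Nat.card H by
    have hH : H = ⊤ := by
      refine Subgroup.eq_top_of_card_eq _ (Nat.dvd_antisymm H.card_subgroup_dvd_card ?_)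
      refine (Nat.dvd_iff_prime_pow_dvd_dvd _ _).mpr fun q k hq hqk => ?_
      rcases Nat.eq_zero_or_pos k with rfl | hk
      · simp
      · exact (pow_dvd_pow q ((hq.pow_dvd_iff_le_factorization Nat.card_pos.ne').mp hqk)).trans
          (hall q hq ((dvd_pow_self q hk.ne').trans hqk))
    refine MulEquiv.ext fun x => ?_
    have : x ∈ H := by rw [hH]; exact mem_top x
    exact this
  intro q hq hqQ
  haveI : Fact q.Prime := ⟨hq⟩
  obtain ⟨S, hS⟩ := H20.External.exists_invariant_sylow φ hcop (Or.inl hsolv) q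
  rw [← S.card_eq_multiplicity]
  refine Subgroup.card_dvd_of_le (fun s hs => ?_)
  -- the action on the Frattini quotient of `S`
  set T : Type _ := ↥(S : Subgroup Q)
  have hTp : IsPGroup q T := S.isPGroup'
  let ψ : R → MulAut T := fun g =>
    { toFun := fun t => ⟨φ g t.1, hS g _ t.2⟩
      invFun := fun t => ⟨φ g⁻¹ t.1, hS g⁻¹ _ t.2⟩
      left_inv := fun t => Subtype.ext (by
        show φ g⁻¹ (φ g t.1) = t.1
        rw [← MulAut.mul_apply, ← map_mul, inv_mul_cancel, map_one]; rfl)
      right_inv := fun t => Subtype.ext (by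
        show φ g (φ g⁻¹ t.1) = t.1
        rw [← MulAut.mul_apply, ← map_mul, mul_inv_cancel, map_one]; rfl)
      map_mul' := fun a b => Subtype.ext (map_mul (φ g) a.1 b.1) }
  let ψh : R →* MulAut T :=
    { toFun := ψ
      map_one' := MulEquiv.ext fun t => Subtype.ext (by show φ 1 t.1 = t.1; rw [map_one]; rfl)
      map_mul' := fun g h => MulEquiv.ext fun t => Subtype.ext (by
        show φ (g * h) t.1 = φ g (φ h t.1); rw [map_mul]; rfl) }
  set Φs := frattini T
  have hΦ : ∀ g, Φs ≤ Φs.comap (ψh g).toMonoidHom := fun g x hx =>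
    H24.frattini_apply_mem (ψh g) hx
  letI : CommGroup (T ⧸ Φs) :=
    { (inferInstance : Group (T ⧸ Φs)) with
      mul_comm := fun a b => by
        obtain ⟨a, rfl⟩ := QuotientGroup.mk_surjective a
        obtain ⟨b, rfl⟩ := QuotientGroup.mk_surjective b
        exact (H24.frq_comm hTp a b).eq }
  let σ : R →* MulAut (T ⧸ Φs) :=
    { toFun := fun g => QuotientGroup.congr Φs Φs (ψh g)
        (Subgroup.characteristic_iff_map_eq.mp (inferInstance : Φs.Characteristic) (ψh g))
      map_one' := MulEquiv.ext fun a => by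
        obtain ⟨t, rfl⟩ := QuotientGroup.mk_surjective a
        show ((ψh 1 t : T) : T ⧸ Φs) = (t : T ⧸ Φs)
        rw [map_one]; rfl
      map_mul' := fun g h => MulEquiv.ext fun a => by
        obtain ⟨t, rfl⟩ := QuotientGroup.mk_surjective a
        show ((ψh (g * h) t : T) : T ⧸ Φs) = ((ψh g (ψh h t) : T) : T ⧸ Φs)
        rw [map_mul]; rfl }
  have hfix0 : ∀ g, g ∉ P → ∀ a, σ g a = a → a = 1 := by
    intro g hg a ha'
    obtain ⟨t, rfl⟩ := QuotientGroup.mk_surjective a
    have h1 : ((ψh g t : T) : T ⧸ Φs) = (t : T ⧸ Φs) := ha'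
    -- `⟨g⟩` acts on the coset
    let X := {y : T // (y : T ⧸ Φs) = (t : T ⧸ Φs)}
    have hpres : ∀ k : zpowers g, ∀ y : T, (y : T ⧸ Φs) = (t : T ⧸ Φs) →
        ((ψh k.1 y : T) : T ⧸ Φs) = (t : T ⧸ Φs) := by
      intro k y hy
      obtain ⟨n, hn⟩ := mem_powers_iff_mem_zpowers.mpr k.2
      rw [← hn]
      clear hn
      induction n with
      | zero => simpa using hy
      | succ n ih =>
        simp only at ih ⊢
        rw [pow_succ' g, map_mul, MulAut.mul_apply]
        exact (H24.frq_apply_congr (ψh g) ih).trans h1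
    letI : MulAction (zpowers g) X :=
      { smul := fun k y => ⟨ψh k.1 y.1, hpres k y.1 y.2⟩
        one_smul := fun y => Subtype.ext (by show ψh (1 : R) y.1 = y.1; rw [map_one]; rfl)
        mul_smul := fun k l y => Subtype.ext (by
          show ψh (k.1 * l.1) y.1 = ψh k.1 (ψh l.1 y.1); rw [map_mul]; rfl) }
    have hcard : ¬ r ∣ Nat.card X := by
      intro h
      apply hrQ
      have hX : Nat.card X = Nat.card Φs := Nat.card_congr
        { toFun := fun y => ⟨t⁻¹ * y.1, QuotientGroup.eq.mp y.2.symm⟩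
          invFun := fun z => ⟨t * z.1, QuotientGroup.mk_mul_of_mem _ z.2⟩
          left_inv := fun y => Subtype.ext (mul_inv_cancel_left _ _)
          right_inv := fun z => Subtype.ext (inv_mul_cancel_left _ _) }
      rw [hX] at h
      exact h.trans ((card_subgroup_dvd_card Φs).trans (card_subgroup_dvd_card (S : Subgroup Q)))
    obtain ⟨y, hy⟩ := (hp.to_subgroup (zpowers g)).nonempty_fixed_point_of_prime_not_dvd_card X hcard
    have hy1 : ψh g y.1 = y.1 := congrArg Subtype.val (hy ⟨g, mem_zpowers g⟩)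
    have hy2 : y.1 = 1 := Subtype.ext (hfix g hg _ (congrArg Subtype.val hy1))
    rw [← y.2, hy2, QuotientGroup.mk_one]
  have hne' : r ≠ q := fun h => hrQ (h ▸ hqQ)
  have hA : σ u = 1 := camina_elementary_trivial (fun a => by
    obtain ⟨a, rfl⟩ := QuotientGroup.mk_surjective a
    exact H24.frq_pow hTp a) σ hr2 hne'.symm hp hPt hclass hfix0 hu
  -- trivial on the Frattini quotient
  obtain ⟨n, hn⟩ := IsPGroup.iff_card.mp hTp
  obtain ⟨e, he⟩ := hTp.index Φs
  have hB : ∀ α ∈ zpowers (ψh u), ∀ x : T, α x * x⁻¹ ∈ Φs := by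
    have h1 : ∀ x : T, ψh u x * x⁻¹ ∈ Φs := fun x => by
      have h : ((ψh u x : T) : T ⧸ Φs) = (x : T ⧸ Φs) := DFunLike.congr_fun hA (x : T ⧸ Φs)
      rw [← QuotientGroup.eq_one_iff, QuotientGroup.mk_mul, QuotientGroup.mk_inv, mul_inv_eq_one]
      exact h
    intro α hα
    obtain ⟨m, rfl⟩ := mem_powers_iff_mem_zpowers.mpr hα
    intro x
    clear hα
    induction m with
    | zero =>
      show x * x⁻¹ ∈ Φs
      rw [mul_inv_cancel]; exact Φs.one_mem
    | succ m ih =>
      simp only at ih ⊢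
      rw [pow_succ', MulAut.mul_apply]
      have := Φs.mul_mem (h1 ((ψh u ^ m) x)) ih
      rwa [mul_assoc, inv_mul_cancel_left] at this
  have hord := H88.card_frattini_trivial_dvd hn he (zpowers (ψh u)) hB
  rw [Nat.card_zpowers] at hord
  obtain ⟨d, hd⟩ := hp u
  have hdd : orderOf (ψh u) ∣ r ^ d := orderOf_dvd_of_pow_eq_one (by rw [← map_pow, hd, map_one])
  have h1 : orderOf (ψh u) = 1 :=
    Nat.eq_one_of_dvd_coprimes (Nat.coprime_pow_primes _ _ hr.out hq hne') hdd hord
  have h2 : ψh u ⟨s, hs⟩ = ⟨s, hs⟩ := by rw [orderOf_eq_one_iff.mp h1]; rfl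
  exact congrArg Subtype.val h2

/-- The subgroup of a Camina pair is solvable. -/
theorem camina_solvable {G : Type*} [Group G] [Finite G] (N : Subgroup G) [N.Normal] (hN1 : N ≠ ⊥)
    (hN2 : N ≠ ⊤) (hcam : ∀ g : G, g ∉ N → ∀ n ∈ N, ∃ x : G, x * g * x⁻¹ = g * n) :
    Group.IsSolvable N := by
  classical
  rcases H88.camina_trichotomy hcam hN1 hN2 with hfr | hpp | hidx
  · -- all centralisers inside `N`
    obtain ⟨g, hg⟩ := SetLike.exists_not_mem_of_ne_top N hN2
    obtain ⟨q, m, a, hq, hgm, ho, -⟩ := H88.exists_primary_pow_notMem (N := N) hg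
    have hex : ∃ j, (g ^ m) ^ q ^ j ∈ N := ⟨a, by rw [← ho, pow_orderOf_eq_one]; exact N.one_mem⟩
    have hj0 : Nat.find hex ≠ 0 := fun h => hgm (by simpa [h] using Nat.find_spec hex)
    set x := (g ^ m) ^ q ^ (Nat.find hex - 1)
    have hxN : x ∉ N := Nat.find_min hex (by omega)
    have hxq : x ^ q ∈ N := by
      rw [← pow_mul, ← pow_succ, Nat.sub_add_cancel (Nat.pos_of_ne_zero hj0)]
      exact Nat.find_spec hex
    have hx1 : x ^ q = 1 := by
      by_contra h
      exact hxN (hfr _ hxq h (Subgroup.mem_centralizer_singleton_iff.mpr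
        ((Commute.self_pow x q).eq)))
    haveI := H21.isNilpotent_of_fpf_action (MulAut.conjNormal (H := N)) hq hx1 (fun n hn => by
      by_contra hne
      refine hxN (hfr n.1 n.2 (fun h => hne (Subtype.ext h)) (Subgroup.mem_centralizer_singleton_iff.mpr ?_))
      have h1 := congrArg Subtype.val hn
      rw [MulAut.conjNormal_apply, mul_inv_eq_iff_eq_mul] at h1
      exact h1)
    infer_instance
  · obtain ⟨p, k, hp, -, he⟩ := (isPrimePow_nat_iff _).mp hpp
    haveI : Fact p.Prime := ⟨hp⟩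
    haveI := (IsPGroup.of_card he.symm).isNilpotent
    infer_instance
  · obtain ⟨r, j, hr, hj, he⟩ := (isPrimePow_nat_iff _).mp hidx
    haveI : Fact r.Prime := ⟨hr⟩
    obtain ⟨M, hMn, hMN, hrM, hMmem⟩ := H88.camina_exists_complement hcam (r := r)
      (he ▸ dvd_pow_self r hj.ne')
    haveI := hMn
    -- `N / M` is an `r`-group, so it suffices that `M` is solvable
    have hNM : IsPGroup r (N ⧸ M.subgroupOf N) := by
      rintro ⟨n⟩
      obtain ⟨c, d, hd, hcd⟩ := Nat.exists_eq_pow_mul_and_not_dvd (orderOf_pos n.1).ne' r hr.ne_one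
      refine ⟨c, ?_⟩
      show ((n : N ⧸ M.subgroupOf N)) ^ r ^ c = 1
      rw [← QuotientGroup.mk_pow, QuotientGroup.eq_one_iff, Subgroup.mem_subgroupOf,
        SubmonoidClass.coe_pow]
      refine hMmem _ (N.pow_mem n.2 _) fun h => ?_
      have hdd : orderOf (n.1 ^ r ^ c) ∣ d := orderOf_dvd_of_pow_eq_one (by
        rw [← pow_mul, ← hcd, pow_orderOf_eq_one])
      exact hd (h.trans hdd)
    suffices hM : Group.IsSolvable M by
      haveI : Group.IsSolvable (M.subgroupOf N) :=
        Group.isSolvable_of_surjective (f := (Subgroup.subgroupOfEquivOfLe hMN).symm.toMonoidHom)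
          (MulEquiv.surjective _)
      haveI := hNM.isNilpotent
      exact Group.isSolvable_of_ker_le_range (M.subgroupOf N).subtype (QuotientGroup.mk' (M.subgroupOf N))
        (by rw [QuotientGroup.ker_mk', Subgroup.range_subtype])
    by_cases hr2 : r = 2
    · subst hr2
      exact S0205.result (Nat.not_even_iff_odd.mp (fun h => hrM h.two_dvd))
    -- a Sylow subgroup supplements `M`
    obtain ⟨R⟩ := (inferInstance : Nonempty (Sylow r G))
    have hGM : M ⊔ (R : Subgroup G) = ⊤ := by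
      rw [← Subgroup.index_eq_one]
      have h1 : (M ⊔ (R : Subgroup G)).index ∣ M.index := Subgroup.index_dvd_of_le le_sup_left
      have h2 : ¬ r ∣ (M ⊔ (R : Subgroup G)).index := fun h =>
        R.not_dvd_index (h.trans (Subgroup.index_dvd_of_le le_sup_right))
      rw [← Subgroup.relIndex_mul_index hMN, ← he,
        show M.relIndex N = (M.subgroupOf N).index from rfl] at h1
      obtain ⟨c, hc⟩ := IsPGroup.iff_card.mp hNM
      rw [Subgroup.index_eq_card (M.subgroupOf N), hc, ← pow_add] at h1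
      obtain ⟨i, -, hi⟩ := (Nat.dvd_prime_pow hr).mp h1
      rcases Nat.eq_zero_or_pos i with rfl | hi0
      · simpa using hi
      · exact absurd (by rw [hi]; exact dvd_pow_self r hi0.ne') h2
    have hRM : ∀ g ∈ (R : Subgroup G), g ∈ M → g = 1 := by
      intro g hg hgM
      obtain ⟨c, hc⟩ := (IsPGroup.iff_orderOf.mp R.isPGroup') ⟨g, hg⟩
      rw [Subgroup.orderOf_mk] at hc
      rcases Nat.eq_zero_or_pos c with rfl | hc0
      · exact orderOf_eq_one_iff.mp (by simpa using hc)
      · exact absurd ((hc ▸ dvd_pow_self r hc0.ne').trans (M.orderOf_dvd_natCard hgM)) hrM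
    set P := N.subgroupOf (R : Subgroup G)
    let φ : (R : Subgroup G) →* MulAut M := (MulAut.conjNormal (H := M)).comp (R : Subgroup G).subtype
    have hclass : ∀ x, x ∉ P → ∀ u ∈ P, ∃ y, y * x * y⁻¹ = x * u := by
      intro x hx u hu
      obtain ⟨g, hg⟩ := hcam x.1 hx u.1 hu
      obtain ⟨m, hm, y, hy, rfl⟩ := Subgroup.mem_sup_of_normal_left.mp (hGM.ge (Subgroup.mem_top g))
      refine ⟨⟨y, hy⟩, ?_⟩
      set w : G := y * x.1 * y⁻¹ with hw
      clear_value w
      have hq : ((w : G) : G ⧸ M) = ((x.1 * u.1 : G) : G ⧸ M) := by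
        show (QuotientGroup.mk w : G ⧸ M) = QuotientGroup.mk (x.1 * u.1)
        rw [← hg, show m * y * x.1 * (m * y)⁻¹ = m * w * m⁻¹ by rw [hw]; group, QuotientGroup.mk_mul,
          QuotientGroup.mk_mul, QuotientGroup.mk_inv, (QuotientGroup.eq_one_iff m).mpr hm, one_mul,
          inv_one, mul_one]
      have hRw : w⁻¹ * (x.1 * u.1) ∈ (R : Subgroup G) := mul_mem (inv_mem
        (hw ▸ mul_mem (mul_mem hy x.2) (inv_mem hy))) (mul_mem x.2 u.2)
      exact Subtype.ext (hw.symm.trans (inv_mul_eq_one.mp (hRM _ hRw (QuotientGroup.eq.mp hq))))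
    have hfix : ∀ x, x ∉ P → ∀ m, φ x m = m → m = 1 := by
      intro x hx m hm
      have h1 := congrArg Subtype.val hm
      rw [MonoidHom.comp_apply, MulAut.conjNormal_apply, mul_inv_eq_iff_eq_mul] at h1
      obtain ⟨a, ha⟩ := (IsPGroup.iff_orderOf.mp R.isPGroup') x
      rw [← Subgroup.orderOf_coe] at ha
      obtain ⟨c, hc⟩ := H88.camina_centralized_isPPower hcam hr hx ha (hMN m.2) h1
      rcases Nat.eq_zero_or_pos c with rfl | hc0
      · exact Subtype.ext (orderOf_eq_one_iff.mp (by simpa using hc))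
      · exact absurd ((hc ▸ dvd_pow_self r hc0.ne').trans (M.orderOf_dvd_natCard m.2)) hrM
    have hPt : P ≠ ⊤ := by
      intro h
      apply hN2
      rw [Subgroup.subgroupOf_eq_top] at h
      exact eq_top_iff.mpr (hGM.ge.trans (sup_le hMN h))
    have htriv := camina_action_trivial φ hr2 R.isPGroup' hrM hPt hclass hfix
    obtain ⟨x, hx⟩ := SetLike.exists_not_mem_of_ne_top P hPt
    obtain ⟨a, ha⟩ := R.isPGroup' x
    have hex : ∃ j, x ^ r ^ j ∈ P := ⟨a, by rw [ha]; exact P.one_mem⟩
    have hj0 : Nat.find hex ≠ 0 := fun h => hx (by simpa [h] using Nat.find_spec hex)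
    set x' := x ^ r ^ (Nat.find hex - 1)
    have hxr : (φ x') ^ r = 1 := by
      rw [← map_pow, ← pow_mul, ← pow_succ, Nat.sub_add_cancel (Nat.pos_of_ne_zero hj0)]
      exact htriv _ (Nat.find_spec hex)
    haveI := H21.isNilpotent_of_fpf_action (MonoidHom.id (MulAut M)) hr hxr
      (fun m hm => hfix x' (Nat.find_min hex (by omega)) m hm)
    infer_instance

end Cfsg.Agent.H86
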