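import Cfsg.Agent.H24.PGroupBasic
import Cfsg.Agent.H24.TwoMaxClass
import Cfsg.Agent.H82.SubgroupCount
import Cfsg.Prelude.Def_Transfer

/-!
`p`-groups in which subgroups of equal order are isomorphic.
-/

set_option maxHeartbeats 1000000

namespace Cfsg.Agent.H86

open Subgroup
open scoped Pointwise commutatorElement

variable {P : Type*} [Group P] [Finite P] {p : ℕ} [hp : Fact p.Prime]

theorem card_sup_le {A B : Subgroup P} (h : B ≤ normalizer (A : Set P)) :
    Nat.card (A ⊔ B : Subgroup P) ≤ Nat.card A * Nat.card B := by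
  have h1 := coe_mul_of_right_le_normalizer_left A B h
  rw [← SetLike.coe_sort_coe, h1]
  exact Set.natCard_mul_le

/-- The quaternion case. -/
theorem quaternion_of_unique_involution {k : ℕ} (hk : Nat.card P = 2 ^ k) (hnc : ¬ IsCyclic P)
    (huniq : ∀ x y : P, orderOf x = 2 → orderOf y = 2 → x = y)
    (hiso : ∀ H K : Subgroup P, Nat.card H = Nat.card K → Nonempty (H ≃* K)) :
    Nonempty (P ≃* QuaternionGroup 2) := by
  classical
  have := Fact.mk Nat.prime_two
  have hP : IsPGroup 2 P := IsPGroup.of_card hk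
  have hk3 : 3 ≤ k := by
    by_contra hlt
    apply hnc
    by_cases hle : k ≤ 1
    · rcases Nat.le_one_iff_eq_zero_or_eq_one.1 hle with rfl | rfl
      · have : Subsingleton P := (Nat.card_eq_one_iff_unique.1 (by simpa using hk)).1
        exact isCyclic_of_subsingleton
      · exact isCyclic_of_prime_card (p := 2) (by simpa using hk)
    · have hk2 : k = 2 := by omega
      subst hk2
      by_contra hc
      have h4 : ∀ x : P, x ≠ 1 → orderOf x = 2 := by
        intro x hx
        obtain ⟨j, hj⟩ := (Nat.dvd_prime_pow Nat.prime_two).1 (hk ▸ orderOf_dvd_natCard x)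
        obtain ⟨hj2, hj'⟩ := hj
        interval_cases j
        · exact absurd (orderOf_eq_one_iff.1 (by simpa using hj')) hx
        · simpa using hj'
        · exact absurd (isCyclic_of_orderOf_eq_card x (by rw [hj', hk])) hc
      obtain ⟨z, hz⟩ := exists_prime_orderOf_dvd_card' (G := P) 2 (by rw [hk]; norm_num)
      have hsub : Nat.card P ≤ 2 := by
        refine (Nat.card_le_card_of_injective (fun x : P => decide (x = 1)) ?_).trans (by simp)
        intro x y h
        simp only [decide_eq_decide] at h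
        by_cases hx : x = 1
        · exact hx.trans (h.1 hx).symm
        · exact huniq x y (h4 x hx) (h4 y fun hy => hx (h.2 hy))
      omega
  obtain ⟨H, K, hH, hK, hHK⟩ : ∃ H K : Subgroup P, Nat.card H = 2 ^ 2 ∧ Nat.card K = 2 ^ 2 ∧ H ≠ K := by
    by_contra hcon
    push Not at hcon
    exact hnc (H82.isCyclic_of_unique_order Nat.prime_two hk one_le_two (by omega) (Or.inr le_rfl) hcon)
  obtain ⟨A, hAn, -, hAc⟩ := H24.exists_normal_le_card (N := (⊤ : Subgroup P)) hP
    (card_top.trans hk) (j := 2) (by omega)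
  obtain ⟨B, hBc, hBA⟩ : ∃ B : Subgroup P, Nat.card B = 2 ^ 2 ∧ B ≠ A := by
    by_cases hHA : H = A
    · exact ⟨K, hK, fun h => hHK (hHA.trans h.symm)⟩
    · exact ⟨H, hH, hHA⟩
  have hcyc4 : ∀ U : Subgroup P, Nat.card U = 2 ^ 2 → ∃ a, orderOf a = 4 ∧ U = zpowers a := by
    intro U hU
    by_cases hex : ∃ a ∈ U, orderOf a = 4
    · obtain ⟨a, haU, ha⟩ := hex
      exact ⟨a, ha, (eq_of_le_of_card_ge (zpowers_le.2 haU) (by rw [hU, Nat.card_zpowers, ha]; norm_num)).symm⟩
    · exfalso
      push Not at hex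
      have h2 : ∀ x : U, x ≠ 1 → orderOf (x : P) = 2 := by
        intro x hx
        obtain ⟨j, hj2, hj⟩ := (Nat.dvd_prime_pow Nat.prime_two).1 (hU ▸ U.orderOf_dvd_natCard x.2)
        interval_cases j
        · exact absurd (Subtype.ext (orderOf_eq_one_iff.1 (by simpa using hj))) hx
        · simpa using hj
        · exact absurd (by simpa using hj) (hex x x.2)
      have : Nat.card U ≤ 2 := by
        refine (Nat.card_le_card_of_injective (fun x : U => decide (x = 1)) ?_).trans (by simp)
        intro x y h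
        simp only [decide_eq_decide] at h
        by_cases hx : x = 1
        · exact hx.trans (h.1 hx).symm
        · exact Subtype.ext (huniq _ _ (h2 x hx) (h2 y fun hy => hx (h.2 hy)))
      omega
  obtain ⟨a, ha, rfl⟩ := hcyc4 A hAc
  obtain ⟨b, hb, rfl⟩ := hcyc4 B hBc
  have hbA : b ∉ zpowers a := fun h => hBA (eq_of_le_of_card_ge (zpowers_le.2 h) (by rw [hBc, hAc]))
  have hsq : b * b = a ^ 2 := by
    rw [← sq]; exact huniq _ _ (by rw [orderOf_pow' b two_ne_zero, hb]; rfl) (by rw [orderOf_pow' a two_ne_zero, ha]; rfl)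
  have hba : b * a * b⁻¹ = a⁻¹ := by
    have hmem : b * a * b⁻¹ ∈ zpowers a := hAn.conj_mem a (mem_zpowers a) b
    obtain ⟨i, hi, he⟩ := (IsOfFinOrder.mem_zpowers_iff_mem_range_orderOf (isOfFinOrder_of_finite a)).1 hmem |> fun h => by
      simpa [ha] using h
    have ho : orderOf (b * a * b⁻¹) = 4 := by
      rw [← ha]; exact (MulAut.conj b).orderOf_eq a
    rw [← he] at ho ⊢
    rw [orderOf_pow, ha] at ho
    interval_cases i <;> simp at ho
    · exfalso
      apply hbA
      have hcomm : Commute b a := by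
        rw [pow_one] at he; exact (eq_mul_inv_iff_mul_eq.1 he).symm
      by_contra hne
      have h2 : (b * a) ^ 2 = 1 := by
        rw [hcomm.mul_pow, sq b, hsq, ← pow_add]; have := pow_orderOf_eq_one a; rwa [ha] at this
      have hne1 : b * a ≠ 1 := fun h => hne (eq_inv_of_mul_eq_one_left h ▸ inv_mem (mem_zpowers a))
      have := huniq _ (a ^ 2) (orderOf_eq_prime h2 hne1) (by rw [orderOf_pow' a two_ne_zero, ha]; rfl)
      rw [sq] at this
      exact hne (mul_right_cancel this ▸ mem_zpowers a)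
    · exact eq_inv_of_mul_eq_one_left (by have := pow_orderOf_eq_one a; rw [ha] at this; rwa [← pow_succ])
  set T := zpowers a ⊔ zpowers b with hT
  have hTn : zpowers b ≤ normalizer ((zpowers a : Subgroup P) : Set P) := by
    rw [normalizer_eq_top_iff.2 hAn]; exact le_top
  have hgen : ∀ g : T, ∃ i : ℕ, (g : P) = a ^ i ∨ (g : P) = b * a ^ i := by
    intro g
    have hg : (g : P) ∈ ((zpowers b ⊔ zpowers a : Subgroup P) : Set P) := by rw [sup_comm]; exact g.2
    rw [Subgroup.mul_normal] at hg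
    obtain ⟨u, hu, w, hw, huw⟩ := hg
    obtain ⟨j, rfl⟩ := (Submonoid.mem_powers_iff _ _).1 ((isOfFinOrder_of_finite b).mem_powers_iff_mem_zpowers.2 hu)
    obtain ⟨i, rfl⟩ := (Submonoid.mem_powers_iff _ _).1 ((isOfFinOrder_of_finite a).mem_powers_iff_mem_zpowers.2 hw)
    have hb2 : ∀ l : ℕ, b ^ (2 * l) = a ^ (2 * l) := fun l => by rw [pow_mul, pow_mul, sq b, hsq]
    rcases Nat.even_or_odd' j with ⟨l, rfl | rfl⟩
    · exact ⟨2 * l + i, Or.inl (by rw [← huw]; dsimp only; rw [hb2, ← pow_add])⟩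
    · exact ⟨2 * l + i, Or.inr (by rw [← huw]; dsimp only; rw [pow_succ', hb2, mul_assoc, ← pow_add])⟩
  let a' : T := ⟨a, mem_sup_left (mem_zpowers a)⟩
  let b' : T := ⟨b, mem_sup_right (mem_zpowers b)⟩
  obtain ⟨eT⟩ := H24.quaternion_of_relations 2 a' b' (by rw [← Subgroup.orderOf_coe]; exact ha) (Subtype.ext hsq)
    (Subtype.ext hba) (fun h => hbA (by
      obtain ⟨i, hi⟩ := h; exact ⟨i, by simpa using congrArg Subtype.val hi⟩))
    (fun g => by
      obtain ⟨i, hi | hi⟩ := hgen g
      · exact ⟨i, Or.inl (Subtype.ext hi)⟩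
      · exact ⟨i, Or.inr (Subtype.ext hi)⟩)
  have hT8 : Nat.card T = 8 := by
    rw [Nat.card_congr eT.toEquiv, Nat.card_eq_fintype_card, QuaternionGroup.card]
  by_cases hk' : k = 3
  · subst hk'
    have htop : T = ⊤ := eq_top_of_card_eq T (by rw [hT8, hk]; norm_num)
    exact ⟨((MulEquiv.subgroupCongr htop).trans Subgroup.topEquiv).symm.trans eT⟩
  exfalso
  have hTna : ¬ IsMulCommutative T := fun h => by
    have := congrArg Subtype.val (h.is_comm.comm b' a')
    simp only [Subgroup.coe_mul] at this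
    change b * a = a * b at this
    rw [mul_inv_eq_of_eq_mul this] at hba
    have h4 : a ^ 2 = 1 := by rw [sq]; exact mul_eq_one_iff_eq_inv.2 hba
    have := orderOf_dvd_of_pow_eq_one h4
    rw [ha] at this
    norm_num at this
  have hind : (centralizer {a}).index ≤ 2 := by
    rw [show (centralizer {a}).index = (MulAction.stabilizer (ConjAct P) a).index by
      rw [ConjAct.stabilizer_eq_centralizer]; rfl, MulAction.index_stabilizer]
    refine (Set.ncard_le_ncard (t := ({a, a⁻¹} : Set P)) ?_).trans ?_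
    · intro x hx
      obtain ⟨g, rfl⟩ := hx
      show g • a ∈ _
      rw [ConjAct.smul_def]
      set g' := ConjAct.ofConjAct g
      obtain ⟨i, hi, he⟩ := (IsOfFinOrder.mem_zpowers_iff_mem_range_orderOf (isOfFinOrder_of_finite a)).1
        (hAn.conj_mem a (mem_zpowers a) g') |> fun h => by simpa [ha] using h
      have ho : orderOf (g' * a * g'⁻¹) = 4 := by
        rw [← ha]; exact (MulAut.conj g').orderOf_eq a
      rw [← he] at ho ⊢
      rw [orderOf_pow, ha] at ho
      interval_cases i <;> simp at ho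
      · exact Or.inl (pow_one a)
      · exact Or.inr (eq_inv_of_mul_eq_one_left (by have := pow_orderOf_eq_one a; rw [ha] at this; rwa [← pow_succ]))
    · exact (Set.ncard_insert_le _ _).trans (by simp)
  have hC : 2 ^ 3 ≤ Nat.card (centralizer {a}) := by
    have h1 := (centralizer {a}).card_mul_index
    have h2 : 2 ^ 4 ≤ Nat.card P := hk ▸ Nat.pow_le_pow_right two_pos (by omega)
    nlinarith
  have haC : zpowers a ≤ centralizer {a} := zpowers_le.2 (mem_centralizer_singleton_iff.2 rfl)
  obtain ⟨c, hcC, hca⟩ : ∃ c ∈ centralizer {a}, c ∉ zpowers a := by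
    by_contra h
    push Not at h
    have := card_le_of_le (show centralizer {a} ≤ zpowers a from h)
    rw [hAc] at this; omega
  have hcn : IsMulCommutative (zpowers a ⊔ zpowers c : Subgroup P) := by
    refine H24.isMulCommutative_sup_zpowers inferInstance ?_
    rw [mem_centralizer_iff]
    rintro _ ⟨i, rfl⟩
    exact ((show Commute c a from mem_centralizer_singleton_iff.1 hcC).zpow_right i).symm
  obtain ⟨j, hj⟩ := (hP.to_subgroup (zpowers a ⊔ zpowers c)).exists_card_eq
  have hlt : zpowers a < zpowers a ⊔ zpowers c :=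
    lt_of_le_of_ne le_sup_left fun h => hca (h ▸ mem_sup_right (mem_zpowers c))
  have hj3 : 3 ≤ j := by
    have h1 : Nat.card (zpowers a) < Nat.card (zpowers a ⊔ zpowers c : Subgroup P) := by
      refine lt_of_le_of_ne (card_le_of_le hlt.le) fun h => hlt.ne (eq_of_le_of_card_ge hlt.le h.ge)
    rw [hAc, hj] at h1
    exact (Nat.pow_lt_pow_iff_right one_lt_two).1 h1
  obtain ⟨U, hU⟩ := Sylow.exists_subgroup_card_pow_prime 2 (n := 3) (G := (zpowers a ⊔ zpowers c : Subgroup P)) (hj ▸ pow_dvd_pow 2 hj3)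
  obtain ⟨e⟩ := hiso (U.map (Subgroup.subtype _)) T (by rw [card_map_of_injective (Subgroup.subtype_injective _), hU, hT8]; norm_num)
  refine hTna ⟨⟨fun x y => ?_⟩⟩
  apply e.symm.injective
  rw [map_mul, map_mul]
  apply Subtype.ext
  have h := congrArg Subtype.val (hcn.is_comm.comm ⟨_, map_subtype_le _ (e.symm x).2⟩ ⟨_, map_subtype_le _ (e.symm y).2⟩)
  exact h

/-- `p`-groups whose subgroups of equal order are isomorphic. -/
theorem structure_of_iso (hP : IsPGroup p P)
    (hiso : ∀ H K : Subgroup P, Nat.card H = Nat.card K → Nonempty (H ≃* K)) :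
    IsCyclic P ∨ (IsMulCommutative P ∧ ∀ x : P, x ^ p = 1) ∨
      (p = 2 ∧ Nonempty (P ≃* QuaternionGroup 2)) ∨
      (p ≠ 2 ∧ ¬ IsMulCommutative P ∧ Nat.card P = p ^ 3 ∧ Monoid.exponent P = p) := by
  classical
  obtain ⟨m, hm⟩ := hP.exists_card_eq
  by_cases hnc : IsCyclic P
  · exact Or.inl hnc
  have hm2 : 2 ≤ m := by
    by_contra hlt
    rcases Nat.le_one_iff_eq_zero_or_eq_one.1 (by omega : m ≤ 1) with rfl | rfl
    · have : Subsingleton P := (Nat.card_eq_one_iff_unique.1 (by simpa using hm)).1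
      exact hnc isCyclic_of_subsingleton
    · exact hnc (isCyclic_of_prime_card (p := p) (by simpa using hm))
  right
  by_cases huniq : ∀ H K : Subgroup P, Nat.card H = p → Nat.card K = p → H = K
  · rcases eq_or_ne p 2 with rfl | hp2
    · refine Or.inr (Or.inl ⟨rfl, quaternion_of_unique_involution hm hnc (fun x y hx hy => ?_) hiso⟩)
      have h := huniq _ _ ((Nat.card_zpowers x).trans hx) ((Nat.card_zpowers y).trans hy)
      obtain ⟨i, hi, he⟩ := (IsOfFinOrder.mem_zpowers_iff_mem_range_orderOf (isOfFinOrder_of_finite y)).1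
        (h ▸ mem_zpowers x) |> fun h => by simpa [hy] using h
      interval_cases i
      · rw [pow_zero] at he; rw [← he, orderOf_one] at hx; omega
      · rw [← he, pow_one]
    · exact absurd (H82.isCyclic_of_unique_order hp.out hm le_rfl (by omega) (Or.inl hp2)
        (by simpa using huniq)) hnc
  push Not at huniq
  obtain ⟨H, K, hH, hK, hHK⟩ := huniq
  have : Nontrivial P := Finite.one_lt_card_iff_nontrivial.1 (hm ▸ Nat.one_lt_pow (by omega) hp.out.one_lt)
  obtain ⟨z, -, hzc, hz⟩ := H24.exists_central_orderOf hP (N := (⊤ : Subgroup P)) (by simp)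
  obtain ⟨U, hU, hUz⟩ : ∃ U : Subgroup P, Nat.card U = p ∧ U ≠ zpowers z := by
    by_cases hHz : H = zpowers z
    · exact ⟨K, hK, fun h => hHK (hHz.trans h.symm)⟩
    · exact ⟨H, hH, hHz⟩
  obtain ⟨x, hx⟩ := exists_prime_orderOf_dvd_card' (G := U) p (hU ▸ dvd_rfl)
  have hxU : zpowers (x : P) = U := eq_of_le_of_card_ge (zpowers_le.2 x.2)
    (by rw [hU, Nat.card_zpowers, Subgroup.orderOf_coe, hx])
  set E := zpowers z ⊔ U with hE
  have hzx : U ≤ normalizer ((zpowers z : Subgroup P) : Set P) :=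
    haveI := H24.normal_of_le_center (zpowers_le.2 hzc)
    le_normalizer_of_normal
  have hzcomm : IsMulCommutative E := by
    rw [hE, ← hxU]
    refine H24.isMulCommutative_sup_zpowers inferInstance ?_
    rw [mem_centralizer_iff]
    rintro _ ⟨i, rfl⟩
    exact ((show Commute (x : P) z from mem_center_iff.1 hzc x).zpow_right i).symm
  have hEexp : ∀ e ∈ E, e ^ p = 1 := by
    intro e he
    have he' : e ∈ ((zpowers z ⊔ U : Subgroup P) : Set P) := he
    rw [coe_mul_of_right_le_normalizer_left _ _ hzx] at he'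
    obtain ⟨u, hu, w, hw, rfl⟩ := he'
    have hu1 : u ^ p = 1 := orderOf_dvd_iff_pow_eq_one.1 (((Nat.card_zpowers z).trans hz) ▸ (zpowers z).orderOf_dvd_natCard hu)
    have hw1 : w ^ p = 1 := orderOf_dvd_iff_pow_eq_one.1 (hU ▸ U.orderOf_dvd_natCard hw)
    have hc : Commute u w := congrArg Subtype.val (hzcomm.is_comm.comm ⟨u, mem_sup_left hu⟩ ⟨w, mem_sup_right hw⟩)
    rw [hc.mul_pow, hu1, hw1, one_mul]
  have hEc : Nat.card E = p ^ 2 := by
    obtain ⟨j, hj⟩ := (hP.to_subgroup E).exists_card_eq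
    have hle : Nat.card E ≤ p ^ 2 := (card_sup_le hzx).trans (by rw [Nat.card_zpowers, hz, hU, sq])
    have hlt : p < Nat.card E := by
      rw [← hU]
      refine lt_of_le_of_ne (card_le_of_le le_sup_right) fun h => hUz ?_
      have hEU : U = E := eq_of_le_of_card_ge le_sup_right h.ge
      exact (eq_of_le_of_card_ge (hEU ▸ le_sup_left : zpowers z ≤ U) (by rw [hU, Nat.card_zpowers, hz])).symm
    rw [hj] at hle hlt ⊢
    have h1 := (Nat.pow_le_pow_iff_right hp.out.one_lt).1 hle
    have h2 : 1 < j := (Nat.pow_lt_pow_iff_right hp.out.one_lt).1 (by rwa [pow_one])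
    congr 1; omega
  have hexp : ∀ g : P, g ^ p = 1 := by
    intro g
    by_contra hg
    obtain ⟨j, -, hj⟩ := (Nat.dvd_prime_pow hp.out).1 (hm ▸ orderOf_dvd_natCard g)
    have hj2 : 2 ≤ j := by
      by_contra h
      exact hg (orderOf_dvd_iff_pow_eq_one.1 (hj ▸ (pow_dvd_pow p (by omega : j ≤ 1)).trans (pow_one p).dvd))
    have hg' : orderOf (g ^ p ^ (j - 2)) = p ^ 2 := by
      rw [orderOf_pow' g (pow_ne_zero _ hp.out.ne_zero), hj, Nat.gcd_eq_right (pow_dvd_pow p (by omega)),
        Nat.pow_div (by omega) hp.out.pos]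
      congr 1; omega
    obtain ⟨e⟩ := hiso (zpowers (g ^ p ^ (j - 2))) E (by rw [Nat.card_zpowers, hg', hEc])
    set y : zpowers (g ^ p ^ (j - 2)) := ⟨_, mem_zpowers _⟩
    have hy : y ^ p = 1 := e.injective (by
      rw [map_pow, map_one]; exact Subtype.ext (hEexp _ (e y).2))
    have h1 := orderOf_dvd_of_pow_eq_one hy
    rw [← Subgroup.orderOf_coe, hg'] at h1
    have := Nat.le_of_dvd hp.out.pos h1
    have := hp.out.two_le
    nlinarith
  by_cases hcomm : IsMulCommutative P
  · exact Or.inl ⟨hcomm, hexp⟩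
  have hp2 : p ≠ 2 := by
    rintro rfl
    refine hcomm ⟨⟨fun a b => ?_⟩⟩
    have hinv : ∀ a : P, a⁻¹ = a := fun a => inv_eq_of_mul_eq_one_right (by rw [← sq]; exact hexp a)
    rw [← hinv (a * b), mul_inv_rev, hinv, hinv]
  refine Or.inr (Or.inr ⟨hp2, hcomm, ?_, ?_⟩)
  swap
  · exact Nat.dvd_antisymm (Monoid.exponent_dvd_of_forall_pow_eq_one hexp) (hz ▸ Monoid.order_dvd_exponent z)
  rw [hm]
  congr 1
  have hm3 : 3 ≤ m := by
    by_contra hlt
    exact hcomm (IsPGroup.isMulCommutative_of_card_eq_prime_sq (p := p) (by rw [hm]; congr 1; omega))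
  by_contra hm4
  obtain ⟨K, hKn, -, hKc⟩ := H24.exists_normal_le_card (N := (⊤ : Subgroup P)) hP
    (card_top.trans hm) (j := 2) hm2
  have hKab : IsMulCommutative K := IsPGroup.isMulCommutative_of_card_eq_prime_sq hKc
  -- a large centralizer
  have hC : ∃ a : P, p ^ 3 ≤ Nat.card (centralizer {a}) ∧ K ≤ centralizer {a} ∧ centralizer {a} ≤ centralizer (K : Set P) := by
    obtain ⟨z', hz'K, hz'c, hz'⟩ := H24.exists_central_orderOf hP (N := K) (fun h => by
      rw [h, card_bot] at hKc; exact (Nat.one_lt_pow two_ne_zero hp.out.one_lt).ne hKc)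
    obtain ⟨a, haK, haz⟩ : ∃ a ∈ K, a ∉ zpowers z' := by
      by_contra h
      push Not at h
      have := card_le_of_le (show K ≤ zpowers z' from h)
      rw [hKc, Nat.card_zpowers, hz'] at this
      have := hp.out.two_le
      nlinarith
    have hKa : zpowers z' ⊔ zpowers a = K := by
      obtain ⟨j, hj⟩ := (hP.to_subgroup (zpowers z' ⊔ zpowers a)).exists_card_eq
      refine eq_of_le_of_card_ge (sup_le (zpowers_le.2 hz'K) (zpowers_le.2 haK)) ?_
      have hlt : Nat.card (zpowers z') < Nat.card (zpowers z' ⊔ zpowers a : Subgroup P) :=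
        lt_of_le_of_ne (card_le_of_le le_sup_left) fun h =>
          haz ((eq_of_le_of_card_ge le_sup_left h.ge).symm ▸ mem_sup_right (mem_zpowers a))
      rw [Nat.card_zpowers, hz', hj] at hlt
      rw [hKc, hj]
      have h2 : 1 < j := (Nat.pow_lt_pow_iff_right hp.out.one_lt).1 (by rwa [pow_one])
      exact Nat.pow_le_pow_right hp.out.pos h2
    refine ⟨a, ?_, fun y hy => mem_centralizer_singleton_iff.2 (congrArg Subtype.val (hKab.is_comm.comm ⟨y, hy⟩ ⟨a, haK⟩)), ?_⟩
    swap
    · rw [le_centralizer_iff, ← hKa]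
      refine sup_le (zpowers_le.2 (center_le_centralizer _ hz'c)) (zpowers_le.2 ?_)
      exact fun y hy => mem_centralizer_singleton_iff.1 hy
    have hind : (centralizer {a}).index ≤ p := by
      rw [show (centralizer {a}).index = (MulAction.stabilizer (ConjAct P) a).index by
        rw [ConjAct.stabilizer_eq_centralizer]; rfl, MulAction.index_stabilizer]
      -- the conjugates lie in one coset of a central subgroup of order `p`
      obtain ⟨N, hNn, hNle, hNz, hNc⟩ : ∃ N : Subgroup P, N.Normal ∧ N ≤ K ∧ N = zpowers z' ∧ Nat.card N = p :=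
        ⟨_, H24.normal_of_le_center (zpowers_le.2 hz'c), zpowers_le.2 hz'K, rfl, (Nat.card_zpowers z').trans hz'⟩
      refine (Set.ncard_le_ncard (t := (fun n : P => n * a) '' (N : Set P)) ?_).trans
        ((Set.ncard_image_le (Set.toFinite _)).trans (by rw [← Nat.card_coe_set_eq]; exact hNc.le))
      intro y hy
      obtain ⟨g, rfl⟩ := hy
      refine ⟨⁅ConjAct.ofConjAct g, a⁆, ?_, (H24.conj_eq_comm_mul _ _).symm⟩
      let φ := QuotientGroup.mk' N
      rw [SetLike.mem_coe, ← QuotientGroup.eq_one_iff]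
      have hKφ : K.map φ ≤ center (P ⧸ N) := by
        have : (K.map φ).Normal := hKn.map φ (QuotientGroup.mk'_surjective N)
        have hcard : Nat.card (K.map φ) = p := by
          have h1 := N.subgroupOf K |>.card_mul_index
          rw [Nat.card_congr (subgroupOfEquivOfLe hNle).toEquiv, hNc, hKc, sq] at h1
          have h2 : Nat.card (K.map φ) = (N.subgroupOf K).index := by
            rw [← card_top (G := K.map φ), ← MonoidHom.range_eq_top.2 (φ.subgroupMap_surjective K), ← index_ker]
            congr 1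
            ext y
            rw [MonoidHom.mem_ker, mem_subgroupOf, ← QuotientGroup.eq_one_iff]
            exact ⟨fun h => congrArg Subtype.val h, fun h => Subtype.ext h⟩
          rw [h2]; exact Nat.eq_of_mul_eq_mul_left hp.out.pos h1
        have hne : K.map φ ≠ ⊥ := fun h => by rw [h, card_bot] at hcard; exact hp.out.ne_one hcard.symm
        obtain ⟨w, hwK, hwc, hw⟩ := H24.exists_central_orderOf (hP.to_quotient N) hne
        have : zpowers w = K.map φ := eq_of_le_of_card_ge (zpowers_le.2 hwK) (by rw [hcard, Nat.card_zpowers, hw])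
        exact this ▸ zpowers_le.2 hwc
      show φ ⁅_, a⁆ = 1
      rw [map_commutatorElement, commutatorElement_eq_one_iff_mul_comm]
      exact mem_center_iff.1 (hKφ (mem_map_of_mem φ haK)) _
    have h1 := (centralizer {a}).card_mul_index
    rw [hm] at h1
    have h2 : p ^ 4 ≤ p ^ m := Nat.pow_le_pow_right hp.out.pos (by omega)
    by_contra hlt
    have h3 : Nat.card (centralizer {a}) * (centralizer {a}).index < p ^ 3 * p :=
      (Nat.mul_le_mul_left _ hind).trans_lt (Nat.mul_lt_mul_of_pos_right (not_le.1 hlt) hp.out.pos)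
    rw [h1, ← pow_succ] at h3
    exact lt_irrefl _ (h3.trans_le h2)
  obtain ⟨a, hCa, hKa, haK⟩ := hC
  obtain ⟨c, hcC, hcK⟩ : ∃ c ∈ centralizer {a}, c ∉ K := by
    by_contra h
    push Not at h
    have := card_le_of_le (show centralizer {a} ≤ K from h)
    rw [hKc] at this
    have := Nat.pow_lt_pow_right hp.out.one_lt (show 2 < 3 by norm_num)
    omega
  have hA : IsMulCommutative (K ⊔ zpowers c : Subgroup P) := H24.isMulCommutative_sup_zpowers hKab (haK hcC)
  obtain ⟨j, hj⟩ := (hP.to_subgroup (K ⊔ zpowers c)).exists_card_eq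
  have hj3 : 3 ≤ j := by
    have h1 : Nat.card K < Nat.card (K ⊔ zpowers c : Subgroup P) :=
      lt_of_le_of_ne (card_le_of_le le_sup_left) fun h =>
        hcK ((eq_of_le_of_card_ge le_sup_left h.ge).symm ▸ mem_sup_right (mem_zpowers c))
    rw [hKc, hj] at h1
    exact (Nat.pow_lt_pow_iff_right hp.out.one_lt).1 h1
  obtain ⟨U₀, hU₀⟩ := Sylow.exists_subgroup_card_pow_prime p (n := 3) (G := (K ⊔ zpowers c : Subgroup P)) (hj ▸ pow_dvd_pow p hj3)
  have hab3 : ∀ V : Subgroup P, Nat.card V = p ^ 3 → ∀ u ∈ V, ∀ v ∈ V, u * v = v * u := by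
    intro V hV u hu v hv
    obtain ⟨e⟩ := hiso V (U₀.map (Subgroup.subtype _)) (by rw [card_map_of_injective (Subgroup.subtype_injective _), hU₀, hV])
    have : e (⟨u, hu⟩ * ⟨v, hv⟩) = e (⟨v, hv⟩ * ⟨u, hu⟩) := by
      rw [map_mul, map_mul]
      apply Subtype.ext
      have h := congrArg Subtype.val (hA.is_comm.comm ⟨_, map_subtype_le _ (e ⟨u, hu⟩).2⟩ ⟨_, map_subtype_le _ (e ⟨v, hv⟩).2⟩)
      exact h
    exact congrArg Subtype.val (e.injective this)
  -- an element of the second centre
  have hZtop : center P ≠ ⊤ := fun h => hcomm ⟨⟨fun u v => mem_center_iff.1 (h ▸ mem_top v) u⟩⟩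
  obtain ⟨M, -, hZM, -, hMc, hcomZ⟩ := H24.exists_normal_between hP (le_top : center P ≤ ⊤) hZtop
  obtain ⟨u, huM, huZ⟩ : ∃ u ∈ M, u ∉ center P := by
    by_contra h
    push Not at h
    have := card_le_of_le (show M ≤ center P from h)
    rw [hMc] at this
    have := hp.out.two_le
    have := Nat.card_pos (α := center P)
    nlinarith
  apply huZ
  rw [mem_center_iff]
  intro v
  set c' := ⁅v, u⁆ with hc'
  have hc'Z : c' ∈ center P := hcomZ (commutator_mem_commutator (mem_top v) huM)
  have hord : ∀ g : P, Nat.card (zpowers g) ≤ p := fun g => by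
    rw [Nat.card_zpowers]; exact Nat.le_of_dvd hp.out.pos (orderOf_dvd_of_pow_eq_one (hexp g))
  have hn1 : zpowers u ≤ normalizer ((zpowers c' : Subgroup P) : Set P) :=
    haveI := H24.normal_of_le_center (zpowers_le.2 hc'Z)
    le_normalizer_of_normal
  have hn2 : zpowers v ≤ normalizer ((zpowers c' ⊔ zpowers u : Subgroup P) : Set P) := by
    rw [zpowers_le, mem_normalizer_iff_map_conj_eq]
    refine eq_of_le_of_card_ge ?_ (card_map_of_injective (MulAut.conj v).injective).ge
    rw [Subgroup.map_sup, MonoidHom.map_zpowers, MonoidHom.map_zpowers]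
    refine sup_le (zpowers_le.2 ?_) (zpowers_le.2 ?_)
    · refine mem_sup_left ?_
      show v * c' * v⁻¹ ∈ _
      rw [mem_center_iff.1 hc'Z v, mul_inv_cancel_right]; exact mem_zpowers _
    · show v * u * v⁻¹ ∈ _
      rw [H24.conj_eq_comm_mul]
      exact mul_mem (mem_sup_left (mem_zpowers _)) (mem_sup_right (mem_zpowers _))
  set W := zpowers c' ⊔ zpowers u ⊔ zpowers v
  have hW : Nat.card W ≤ p ^ 3 := by
    refine (card_sup_le hn2).trans ((Nat.mul_le_mul ((card_sup_le hn1).trans (Nat.mul_le_mul (hord _) (hord _))) (hord v)).trans ?_)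
    rw [pow_three, mul_assoc]
  obtain ⟨i, hi⟩ := (hP.to_subgroup W).exists_card_eq
  obtain ⟨V, hV, hWV⟩ := Sylow.exists_subgroup_card_pow_prime_le p (hm ▸ pow_dvd_pow p hm3) W hi
    ((Nat.pow_le_pow_iff_right hp.out.one_lt).1 (hi ▸ hW))
  exact hab3 V hV v (hWV (mem_sup_right (mem_zpowers v))) u (hWV (mem_sup_left (mem_sup_right (mem_zpowers u))))

end Cfsg.Agent.H86
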