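import Cfsg.Agent.H86.ConjSubgroups
import Cfsg.Agent.H86.IsoSubgroups
import Cfsg.Agent.H84.PSolvable

/-!
`p`-soluble normal subgroups of groups with conjugate `p`-subgroups of equal order.
-/

namespace Cfsg.Agent.H86

open Subgroup

universe u

variable {G : Type u} [Group G] [Finite G] {p : ℕ} [hp : Fact p.Prime]

theorem iso_of_conj (hC : ∀ H K : Subgroup G, IsPGroup p H → IsPGroup p K → Nat.card H = Nat.card K → Cj H K)
    {P : Subgroup G} (hP : IsPGroup p P) (H K : Subgroup P) (h : Nat.card H = Nat.card K) :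
    Nonempty (H ≃* K) := by
  have hinj := P.subtype_injective
  obtain ⟨g, hg⟩ := hC (H.map P.subtype) (K.map P.subtype) ((hP.to_subgroup H).map _)
    ((hP.to_subgroup K).map _) (by rw [card_map_of_injective hinj, card_map_of_injective hinj, h])
  exact ⟨(Subgroup.equivMapOfInjective H _ hinj).trans <|
    (Subgroup.equivMapOfInjective _ _ (MulAut.conj g).injective).trans <|
    (MulEquiv.subgroupCongr hg.symm).trans (Subgroup.equivMapOfInjective K _ hinj).symm⟩

theorem cyclic_or_le_normal_abelian (hp2 : p ≠ 2)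
    (hC : ∀ H K : Subgroup G, IsPGroup p H → IsPGroup p K → Nat.card H = Nat.card K → Cj H K)
    (P : Sylow p G) (A : Subgroup G) [A.Normal] (hAp : IsPGroup p A) (hA1 : A ≠ ⊥) :
    IsCyclic (P : Subgroup G) ∨ (P : Subgroup G) ≤ A := by
  rcases structure_of_iso P.2 (iso_of_conj hC P.2) with h | h | h | h
  · exact Or.inl h
  rotate_left
  · exact absurd h.1 hp2
  all_goals right
  all_goals
    have hexp : ∀ x : (P : Subgroup G), x ^ p = 1 := by
      first
        | exact h.2
        | exact fun x => by
            have := Monoid.pow_exponent_eq_one x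
            rwa [h.2.2.2] at this
    intro x hx
    rcases eq_or_ne x 1 with rfl | hx1
    · exact one_mem A
    have hxo : orderOf x = p := orderOf_eq_prime (congrArg Subtype.val (hexp ⟨x, hx⟩)) hx1
    obtain ⟨y, hy⟩ : ∃ y : A, orderOf y = p := exists_prime_orderOf_dvd_card' p
      ((hAp.card_eq_or_dvd).resolve_left fun h => hA1 (eq_bot_of_card_eq A h))
    have hy' : orderOf (y : G) = p := by rw [Subgroup.orderOf_coe, hy]
    refine le_of_cj_normal (H := zpowers (y : G)) (hC (zpowers (y : G)) (zpowers x) ?_ ?_ ?_) (zpowers_le.2 y.2) (mem_zpowers x)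
    · exact IsPGroup.of_card (n := 1) (by rw [Nat.card_zpowers, hy', pow_one])
    · exact IsPGroup.of_card (n := 1) (by rw [Nat.card_zpowers, hxo, pow_one])
    · rw [Nat.card_zpowers, Nat.card_zpowers, hxo, hy']

theorem abelian_sylow_of_pSolvable_normal (hp2 : p ≠ 2)
    (hC : ∀ H K : Subgroup G, IsPGroup p H → IsPGroup p K → Nat.card H = Nat.card K → Cj H K)
    (P : Sylow p G) (H : Subgroup G) [H.Normal] (hsolv : Cfsg.IsPSolvable p H) (hdiv : p ∣ Nat.card H) :
    IsMulCommutative (P : Subgroup G) ∧ ((P : Subgroup G) ≤ H ∨ IsCyclic (P : Subgroup G)) := by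
  have := H19.pPrimeCore_characteristic p H
  set M := (Cfsg.pPrimeCore p H).map H.subtype with hM
  haveI hMn : M.Normal := ConjAct.normal_of_characteristic_of_normal
  have hMH : M ≤ H := map_subtype_le _
  have hMc : (Nat.card M).Coprime p := by
    rw [hM, card_map_of_injective H.subtype_injective]; exact H19.pPrimeCore_coprime p
  set φ := QuotientGroup.mk' M with hφdef
  have hφ : Function.Surjective φ := QuotientGroup.mk'_surjective M
  have hker : φ.ker = M := QuotientGroup.ker_mk' M
  set Hb := H.map φ with hHb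
  haveI hHbn : Hb.Normal := (inferInstance : H.Normal).map φ hφ
  have : Nontrivial Hb := by
    rw [Subgroup.nontrivial_iff_ne_bot]
    intro h
    rw [hHb, Subgroup.map_eq_bot_iff, hker] at h
    exact hp.out.ne_one (Nat.eq_one_of_dvd_coprimes hMc (hdiv.trans (card_dvd_of_le h)) dvd_rfl)
  have hOp' : Cfsg.pPrimeCore p Hb = ⊥ := by
    have := H19.pPrimeCore_characteristic p Hb
    set Y := (Cfsg.pPrimeCore p Hb).map Hb.subtype with hY
    haveI : Y.Normal := ConjAct.normal_of_characteristic_of_normal
    have hYH : Y.comap φ ≤ H := by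
      refine (comap_mono (map_subtype_le _)).trans ?_
      rw [hHb, comap_map_eq, hker, sup_eq_left.2 hMH]
    have hcop : (Nat.card ((Y.comap φ).subgroupOf H)).Coprime p := by
      rw [Nat.card_congr (subgroupOfEquivOfLe hYH).toEquiv, hφdef, H19.card_comap_mk, hY,
        card_map_of_injective Hb.subtype_injective]
      exact Nat.Coprime.mul_left (by first | exact hMc | exact H19.pPrimeCore_coprime p)
        (by first | exact hMc | exact H19.pPrimeCore_coprime p)
    have hle : Y.comap φ ≤ M := by
      have h1 := map_mono (f := H.subtype) (H19.le_pPrimeCore (N := (Y.comap φ).subgroupOf H) inferInstance hcop)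
      rwa [map_subgroupOf_eq_of_le hYH] at h1
    have h2 := map_mono (f := φ) hle
    rw [map_comap_eq_self_of_surjective hφ, hY] at h2
    rw [← map_eq_bot_iff_of_injective _ Hb.subtype_injective]
    exact le_bot_iff.1 (h2.trans (le_of_eq ((Subgroup.map_eq_bot_iff M).2 hker.ge)))
  have hOp : Cfsg.pCore p Hb ≠ ⊥ :=
    (H84.pCore_ne_bot_or_pPrimeCore_ne_bot (H84.isPSolvable_of_surjective (φ.subgroupMap H)
      (φ.subgroupMap_surjective H) hsolv)).resolve_right (fun h => h hOp')
  have := H19.pCore_characteristic p Hb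
  set N := (Cfsg.pCore p Hb).map Hb.subtype with hN
  haveI : N.Normal := ConjAct.normal_of_characteristic_of_normal
  have hNp : IsPGroup p N := (H19.pCore_isPGroup p).map _
  have hN1 : N ≠ ⊥ := fun h => hOp ((map_eq_bot_iff_of_injective _ Hb.subtype_injective).1 h)
  set A := (center N).map N.subtype with hA
  haveI : A.Normal := ConjAct.normal_of_characteristic_of_normal
  have hAp : IsPGroup p A := (hNp.to_subgroup _).map _
  have : Nontrivial N := (nontrivial_iff_ne_bot N).2 hN1
  have hA1 : A ≠ ⊥ := fun h => by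
    have := hNp.center_nontrivial
    exact (nontrivial_iff_ne_bot _).1 this ((map_eq_bot_iff_of_injective _ N.subtype_injective).1 h)
  have hAab : ∀ a ∈ A, ∀ b ∈ A, a * b = b * a := by
    rintro _ ⟨a, ha, rfl⟩ _ ⟨b, hb, rfl⟩
    exact congrArg Subtype.val (mem_center_iff.1 hb a)
  have hAH : A ≤ Hb := (map_subtype_le _).trans (map_subtype_le _)
  have hbot : φ.ker ⊓ (P : Subgroup G) = ⊥ := by
    rw [hker, inf_comm]; exact H19.inf_eq_bot_of_isPGroup_coprime P.2 hMc
  set e : (P : Subgroup G) →* (P.mapSurjective hφ : Subgroup (G ⧸ M)) :=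
    (MulEquiv.subgroupCongr (Sylow.coe_mapSurjective hφ P).symm).toMonoidHom.comp (φ.subgroupMap (P : Subgroup G))
  have he : Function.Injective e := by
    refine (MulEquiv.injective (MulEquiv.subgroupCongr (Sylow.coe_mapSurjective hφ P).symm)).comp
      ((injective_iff_map_eq_one (φ.subgroupMap (P : Subgroup G))).2 fun x hx => ?_)
    have : (x : G) ∈ φ.ker ⊓ (P : Subgroup G) := ⟨congrArg Subtype.val hx, x.2⟩
    rw [hbot, mem_bot] at this
    exact Subtype.ext this
  rcases cyclic_or_le_normal_abelian hp2 (fun U W => cj_quotient hC M) (P.mapSurjective hφ) A hAp hA1 with h | h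
  · have hc : IsCyclic (P : Subgroup G) := isCyclic_of_injective e he
    exact ⟨IsCyclic.isMulCommutative, Or.inr hc⟩
  · refine ⟨?_, Or.inl ?_⟩
    · constructor; constructor
      intro x y
      apply he
      rw [map_mul, map_mul]
      exact Subtype.ext (hAab _ (h (e x).2) _ (h (e y).2))
    · intro x hx
      have hxA : φ x ∈ A := h (by rw [Sylow.coe_mapSurjective]; exact mem_map_of_mem φ hx)
      have : x ∈ Hb.comap φ := hAH hxA
      rwa [hHb, comap_map_eq, hker, sup_eq_left.2 hMH] at this

end Cfsg.Agent.H86
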