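import Mathlib.LinearAlgebra.Matrix.Charpoly.FiniteField
import Mathlib.Data.Nat.Prime.Basic

/-!
No regular graph of valency at least three has exactly one common neighbour for every two vertices.
-/

set_option autoImplicit false

namespace Cfsg.Agent.H86

open Matrix Finset

theorem no_regular_friendship {V : Type*} [Fintype V] [Nonempty V] (R : V → V → Prop) (k : ℕ)
    (hk : 3 ≤ k) (hirr : ∀ x, ¬ R x x) (hsym : ∀ x y, R x y → R y x)
    (hdeg : ∀ x, Nat.card {y // R x y} = k) (hone : ∀ x y, x ≠ y → ∃! w, R x w ∧ R y w) : False := by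
  classical
  obtain ⟨r, hr, hrk⟩ := Nat.exists_prime_and_dvd (show k - 1 ≠ 1 by omega)
  have := Fact.mk hr
  have hk1 : (k : ZMod r) = 1 := by
    have h := (ZMod.natCast_eq_zero_iff (k - 1) r).2 hrk
    rw [Nat.cast_sub (by omega), Nat.cast_one, sub_eq_zero] at h
    exact h
  let A : Matrix V V (ZMod r) := Matrix.of fun x y => if R x y then 1 else 0
  let J : Matrix V V (ZMod r) := Matrix.of fun _ _ => 1
  have hdeg' : ∀ x, (univ.filter fun y => R x y).card = k := fun x => by
    rw [← hdeg x, Nat.card_eq_fintype_card, Fintype.card_subtype]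
  have hAA : A * A = J := by
    ext x y
    simp only [A, J, Matrix.mul_apply, Matrix.of_apply, mul_ite, mul_one, mul_zero]
    rw [sum_congr rfl (fun w _ => show (if R w y then if R x w then (1 : ZMod r) else 0 else 0) =
      if R x w ∧ R y w then 1 else 0 by
        by_cases h1 : R w y
        · simp [h1, hsym _ _ h1]
        · have h2 : ¬ R y w := fun h => h1 (hsym y w h)
          simp [h1, h2]), sum_boole]
    by_cases hxy : x = y
    · subst hxy
      simp only [and_self, hdeg', hk1]
    · obtain ⟨w, hw, huniq⟩ := hone x y hxy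
      rw [show (univ.filter fun z => R x z ∧ R y z) = {w} from eq_singleton_iff_unique_mem.2
        ⟨mem_filter.2 ⟨mem_univ _, hw⟩, fun z hz => huniq z (mem_filter.1 hz).2⟩, card_singleton,
        Nat.cast_one]
  have hAJ : A * J = J := by
    ext x y
    simp only [A, J, Matrix.mul_apply, Matrix.of_apply, mul_one, sum_boole, hdeg', hk1]
  have hpow : ∀ j, A ^ (j + 2) = J := by
    intro j
    induction j with
    | zero => rw [pow_two, hAA]
    | succ j ih => rw [show j + 1 + 2 = (j + 2) + 1 by omega, pow_succ', ih, hAJ]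
  have hJJ : J * J = J := by
    calc J * J = A * A * J := by rw [hAA]
      _ = A * (A * J) := mul_assoc _ _ _
      _ = J := by rw [hAJ, hAJ]
  obtain ⟨v⟩ := (inferInstance : Nonempty V)
  have hcard : (Fintype.card V : ZMod r) = 1 := by
    have := congrFun (congrFun hJJ v) v
    simpa [J, Matrix.mul_apply] using this
  have htr := ZMod.trace_pow_card A
  have htA : A.trace = 0 := by simp [A, Matrix.trace, hirr]
  obtain ⟨j, hj⟩ : ∃ j, r = j + 2 := ⟨r - 2, by have := hr.two_le; omega⟩
  rw [htA, zero_pow hr.ne_zero] at htr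
  have hAr : A ^ r = J := by
    calc A ^ r = A ^ (j + 2) := congrArg (A ^ ·) hj
      _ = J := hpow j
  rw [hAr] at htr
  simp [J, Matrix.trace, hcard] at htr

end Cfsg.Agent.H86
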