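import Mathlib.GroupTheory.Sylow
import Mathlib.GroupTheory.Solvable
import Mathlib.GroupTheory.IndexNormal
import Mathlib.Algebra.CharP.Algebra
import Mathlib.LinearAlgebra.Eigenspace.Semisimple
import Mathlib.LinearAlgebra.Eigenspace.Triangularizable
import Mathlib.FieldTheory.IsAlgClosed.Basic
import Mathlib.FieldTheory.Separable
import Mathlib.Algebra.CharP.Lemmas
import Mathlib.Data.Nat.Log

/-!
Derived length of linear `p`-groups: at most `log₂ n + 1`.
-/

namespace Cfsg.Agent.H86

open Module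
open scoped commutatorElement

universe u v w

/-- If `C` contains the derived group, the derived series of `P` descends into that of `C`. -/
theorem derivedSeries_succ_le_map {P : Type*} [Group P] (C : Subgroup P) (hC : commutator P ≤ C) (k : ℕ) :
    derivedSeries P (k + 1) ≤ (derivedSeries C k).map C.subtype := by
  induction k with
  | zero =>
    rw [derivedSeries_one, derivedSeries_zero, ← MonoidHom.range_eq_map, Subgroup.range_subtype]
    exact hC
  | succ k ih =>
    rw [derivedSeries_succ P (k + 1), derivedSeries_succ C k, Subgroup.map_commutator]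
    exact Subgroup.commutator_mono ih ih

variable {K : Type u} [Field K] {V : Type v} [AddCommGroup V] [Module K V]

/-- The representation on an invariant subspace. -/
def restrictRep {P : Type*} [Monoid P] (ρ : P →* End K V) (W : Submodule K V)
    (hW : ∀ g, ∀ x ∈ W, ρ g x ∈ W) : P →* End K W where
  toFun g := (ρ g).restrict (hW g)
  map_one' := LinearMap.ext fun x => Subtype.ext (by simp [LinearMap.restrict_apply])
  map_mul' g h := LinearMap.ext fun x => Subtype.ext (by simp [LinearMap.restrict_apply])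

/-- The representation on a quotient by an invariant subspace. -/
def quotientRep {P : Type*} [Monoid P] (ρ : P →* End K V) (W : Submodule K V)
    (hW : ∀ g, ∀ x ∈ W, ρ g x ∈ W) : P →* End K (V ⧸ W) where
  toFun g := W.mapQ W (ρ g) fun x hx => hW g x hx
  map_one' := Submodule.linearMap_qext _ (LinearMap.ext fun x => by simp)
  map_mul' g h := Submodule.linearMap_qext _ (LinearMap.ext fun x => by simp)

/-- The elements acting trivially form a subgroup. -/
def actTrivially {P : Type*} [Group P] (ρ : P →* End K V) : Subgroup P where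
  carrier := {g | ρ g = 1}
  one_mem' := map_one ρ
  mul_mem' {a b} ha hb := by
    show ρ (a * b) = 1
    rw [map_mul, ha, hb, one_mul]
  inv_mem' {a} ha := by
    show ρ a⁻¹ = 1
    have h := map_mul ρ a a⁻¹
    rwa [mul_inv_cancel, map_one, show ρ a = 1 from ha, one_mul, eq_comm] at h

/-- A `p`-group in characteristic `p` fixes a nonzero vector. -/
theorem exists_fixed_vector {P : Type*} [Group P] [Finite P] {p : ℕ} [hp : Fact p.Prime] [CharP K p]
    (hP : IsPGroup p P) [FiniteDimensional K V] [Nontrivial V] (ρ : P →* End K V) :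
    ∃ x : V, x ≠ 0 ∧ ∀ g, ρ g x = x := by
  suffices key : ∀ n, ∀ H : Subgroup P, Nat.card H = n → ∃ x : V, x ≠ 0 ∧ ∀ g ∈ H, ρ g x = x by
    obtain ⟨x, hx, h⟩ := key _ ⊤ rfl
    exact ⟨x, hx, fun g => h g (Subgroup.mem_top g)⟩
  intro n
  induction n using Nat.strong_induction_on with
  | _ n ih =>
  intro H hn
  obtain ⟨a, ha⟩ := (hP.to_subgroup H).exists_card_eq
  rcases a with - | a
  · obtain ⟨x, hx⟩ := exists_ne (0 : V)
    refine ⟨x, hx, fun g hg => ?_⟩
    rw [pow_zero] at ha
    have : g = 1 := Subgroup.mem_bot.1 (H.eq_bot_of_card_eq ha ▸ hg)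
    rw [this, map_one]; rfl
  obtain ⟨M, hM⟩ := Sylow.exists_subgroup_card_pow_prime p (n := a) (G := H)
    (ha ▸ pow_dvd_pow p (Nat.le_succ a))
  have hidx : M.index = p := by
    have := M.card_mul_index
    rw [hM, ha, pow_succ] at this
    exact Nat.eq_of_mul_eq_mul_left (pow_pos hp.out.pos a) this
  have hMn : M.Normal := Subgroup.normal_of_index_eq_minFac_card (by
    rw [hidx, ha, hp.out.pow_minFac (Nat.succ_ne_zero a)])
  obtain ⟨g, hg⟩ : ∃ g : H, g ∉ M := by
    by_contra hc
    push Not at hc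
    rw [(Subgroup.eq_top_iff' M).2 hc, Subgroup.index_top] at hidx
    exact hp.out.ne_one hidx.symm
  let M' := M.map H.subtype
  let F : Submodule K V :=
    { carrier := {x | ∀ m ∈ M', ρ m x = x}
      add_mem' := fun {x y} hx hy m hm => by rw [map_add, hx m hm, hy m hm]
      zero_mem' := fun m hm => map_zero _
      smul_mem' := fun c x hx m hm => by rw [map_smul, hx m hm] }
  have hcard : Nat.card M' < n := by
    rw [Subgroup.card_map_of_injective H.subtype_injective, hM, ← hn, ha]
    exact Nat.pow_lt_pow_right hp.out.one_lt (Nat.lt_succ_self a)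
  obtain ⟨x₀, hx₀, hx₀F⟩ := ih _ hcard M' rfl
  have hgF : ∀ x ∈ F, ρ (g : P) x ∈ F := by
    rintro x hx _ ⟨m, hm, rfl⟩
    have h1 : g⁻¹ * m * g ∈ M := by simpa using hMn.conj_mem m hm g⁻¹
    have h2 := hx _ (Subgroup.mem_map_of_mem H.subtype h1)
    calc ρ (m : P) (ρ (g : P) x) = ρ (g : P) (ρ ((g : P)⁻¹ * m * g) x) := by
          rw [← Module.End.mul_apply, ← map_mul, ← Module.End.mul_apply (ρ (g : P)), ← map_mul]
          congr 2; group
      _ = ρ (g : P) x := by rw [show ((g : P)⁻¹ * m * g) = H.subtype (g⁻¹ * m * g) from rfl, h2]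
  set T : End K F := (ρ (g : P)).restrict hgF with hT
  have hTp : T ^ p = 1 := by
    have hgp : g ^ p ∈ M := by
      rw [← hidx]; exact Subgroup.pow_index_mem M g
    refine LinearMap.ext fun x => Subtype.ext ?_
    have h3 : ∀ k : ℕ, ((T ^ k) x : V) = ρ ((g : P) ^ k) x := by
      intro k
      induction k with
      | zero => simp
      | succ k ihk =>
        rw [pow_succ', Module.End.mul_apply, hT, LinearMap.restrict_apply, pow_succ', map_mul, Module.End.mul_apply]
        exact congrArg (ρ (g : P)) ihk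
    rw [h3]
    exact x.2 _ ⟨g ^ p, hgp, by simp⟩
  -- `T - 1` is nilpotent
  have : Nontrivial F := ⟨⟨⟨x₀, hx₀F⟩, 0, fun h => hx₀ (congrArg Subtype.val h)⟩⟩
  have : CharP (End K F) p := charP_of_injective_algebraMap' K p
  have hnil : (T - 1) ^ p = 0 := by
    rw [sub_pow_char_of_commute p (Commute.one_right T), hTp, one_pow, sub_self]
  have hker : LinearMap.ker (T - 1) ≠ ⊥ := by
    intro hb
    have hinj : Function.Injective ⇑(T - 1) := LinearMap.ker_eq_bot.1 hb
    have hpi : Function.Injective ⇑((T - 1) ^ p) := by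
      rw [Module.End.coe_pow]; exact hinj.iterate p
    rw [hnil] at hpi
    obtain ⟨x, y, hxy⟩ := exists_pair_ne F
    exact hxy (hpi rfl)
  obtain ⟨x, hx, hx0⟩ := Submodule.exists_mem_ne_zero_of_ne_bot hker
  refine ⟨(x : V), fun h => hx0 (Subtype.ext h), ?_⟩
  have hgx : ρ (g : P) x = x := by
    have := LinearMap.mem_ker.1 hx
    rw [LinearMap.sub_apply, Module.End.one_apply, sub_eq_zero] at this
    exact congrArg Subtype.val this
  let S : Subgroup H :=
    { carrier := {h | ρ (h : P) x = x}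
      one_mem' := by simp
      mul_mem' := fun {a b} (ha : ρ (a : P) x = x) (hb : ρ (b : P) x = x) => by
        show ρ ((a : P) * b) x = x
        rw [map_mul, Module.End.mul_apply, hb, ha]
      inv_mem' := fun {a} (ha : ρ (a : P) x = x) => by
        show ρ (a : P)⁻¹ x = x
        nth_rewrite 1 [← ha]
        rw [← Module.End.mul_apply, ← map_mul, inv_mul_cancel, map_one, Module.End.one_apply] }
  have hMS : M ≤ S := fun m hm => x.2 _ (Subgroup.mem_map_of_mem H.subtype hm)
  have hS : S = ⊤ := by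
    rw [← Subgroup.index_eq_one]
    rcases (Nat.dvd_prime hp.out).1 (hidx ▸ Subgroup.index_dvd_of_le hMS) with h | h
    · exact h
    · exfalso
      have : M = S := Subgroup.eq_of_le_of_card_ge hMS (by
        have e1 := M.card_mul_index; have e2 := S.card_mul_index
        rw [hidx] at e1; rw [h, ← e1] at e2
        exact (Nat.eq_of_mul_eq_mul_right hp.out.pos e2).le)
      exact hg (this ▸ (show g ∈ S from hgx))
  intro h hh
  exact (hS ▸ Subgroup.mem_top _ : (⟨h, hh⟩ : H) ∈ S)

/-- Invariant subspaces of every dimension exist in characteristic `p`. -/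
theorem exists_invariant_finrank {P : Type*} [Group P] [Finite P] {p : ℕ} [hp : Fact p.Prime] [CharP K p]
    (hP : IsPGroup p P) [FiniteDimensional K V] (ρ : P →* End K V) :
    ∀ j, j ≤ finrank K V → ∃ W : Submodule K V, finrank K W = j ∧ ∀ g, ∀ x ∈ W, ρ g x ∈ W
  | 0, _ => ⟨⊥, finrank_bot K V, fun g x hx => by rw [Submodule.mem_bot] at hx; simp [hx]⟩
  | j + 1, hj => by
    obtain ⟨W, hWj, hW⟩ := exists_invariant_finrank hP ρ j (by omega)
    have hlt : finrank K W < finrank K V := by omega
    have : Nontrivial (V ⧸ W) := by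
      rw [← Module.finrank_pos_iff (R := K)]
      have := W.finrank_quotient_add_finrank; omega
    obtain ⟨x, hx0, hx⟩ := exists_fixed_vector hP (quotientRep ρ W hW)
    obtain ⟨y, rfl⟩ := Submodule.Quotient.mk_surjective W x
    have hyW : y ∉ W := fun h => hx0 ((Submodule.Quotient.mk_eq_zero W).2 h)
    refine ⟨W ⊔ (K ∙ y), ?_, fun g z hz => ?_⟩
    · rw [sup_comm]
      have h1 := Submodule.finrank_sup_add_finrank_inf_eq (K ∙ y) W
      have hy0 : y ≠ 0 := fun h => hyW (h ▸ W.zero_mem)
      have h2 : (K ∙ y) ⊓ W = ⊥ := by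
        rw [eq_bot_iff]
        rintro z ⟨hz, hzW⟩
        obtain ⟨c, rfl⟩ := Submodule.mem_span_singleton.1 hz
        by_cases hc : c = 0
        · simp [hc]
        · exact absurd ((W.smul_mem_iff hc).1 hzW) hyW
      rw [h2, finrank_bot, finrank_span_singleton hy0, hWj] at h1
      omega
    · obtain ⟨a, ha, b, hb, rfl⟩ := Submodule.mem_sup.1 hz
      obtain ⟨c, rfl⟩ := Submodule.mem_span_singleton.1 hb
      rw [map_add, map_smul]
      have h3 : ρ g y - y ∈ W := (Submodule.Quotient.eq W).1 (hx g)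
      have h4 : ρ g y = (ρ g y - y) + y := by abel
      rw [h4, smul_add, ← add_assoc]
      exact Submodule.add_mem_sup (W.add_mem (hW g a ha) (W.smul_mem c h3))
        (Submodule.smul_mem _ c (Submodule.mem_span_singleton_self y))

/-- In characteristic `p` the derived length is at most the ceiling of the logarithm. -/
theorem derived_trivial_charP {p : ℕ} [hp : Fact p.Prime] [CharP K p] (k : ℕ) :
    ∀ (V : Type v) [AddCommGroup V] [Module K V] [FiniteDimensional K V], finrank K V ≤ 2 ^ k →
      ∀ (P : Type w) [Group P] [Finite P], IsPGroup p P → ∀ ρ : P →* End K V,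
        ∀ x ∈ derivedSeries P k, ρ x = 1 := by
  induction k with
  | zero =>
    intro V _ _ _ hd P _ _ hP ρ g _
    rcases subsingleton_or_nontrivial V with hs | hn
    · exact LinearMap.ext fun x => Subsingleton.elim _ _
    obtain ⟨x, hx0, hx⟩ := exists_fixed_vector hP ρ
    refine LinearMap.ext fun y => ?_
    have h1 : finrank K V = 1 := le_antisymm hd Module.finrank_pos
    obtain ⟨c, rfl⟩ := exists_smul_eq_of_finrank_eq_one h1 hx0 y
    rw [map_smul, hx, Module.End.one_apply]
  | succ k ih =>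
    intro V _ _ _ hd P _ _ hP ρ g hg
    obtain ⟨W, hWd, hW⟩ := exists_invariant_finrank hP ρ (min (2 ^ k) (finrank K V)) (min_le_right _ _)
    have hq : finrank K (V ⧸ W) ≤ 2 ^ k := by
      have := W.finrank_quotient_add_finrank; rw [pow_succ] at hd; omega
    have hw : finrank K W ≤ 2 ^ k := hWd.trans_le (min_le_left _ _)
    -- elements of the `k`-th derived group centralize both factors
    have key : ∀ h ∈ derivedSeries P k, (∀ y ∈ W, ρ h y = y) ∧ ∀ y : V, ρ h y - y ∈ W := by
      intro h hh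
      have e1 := ih W hw P hP (restrictRep ρ W hW) h hh
      have e2 := ih (V ⧸ W) hq P hP (quotientRep ρ W hW) h hh
      refine ⟨fun y hy => congrArg Subtype.val (LinearMap.congr_fun e1 ⟨y, hy⟩), fun y => ?_⟩
      have e3 := LinearMap.congr_fun e2 (Submodule.Quotient.mk y)
      exact (Submodule.Quotient.eq W).1 e3
    have hle : derivedSeries P (k + 1) ≤ actTrivially ρ := by
      rw [derivedSeries_succ, Subgroup.commutator_le]
      intro a ha b hb
      obtain ⟨ha1, ha2⟩ := key a ha
      obtain ⟨hb1, hb2⟩ := key b hb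
      have hc : ρ a * ρ b = ρ b * ρ a := by
        refine LinearMap.ext fun y => ?_
        rw [Module.End.mul_apply, Module.End.mul_apply]
        have e1 := ha1 _ (hb2 y)
        have e2 := hb1 _ (ha2 y)
        rw [map_sub] at e1 e2
        calc ρ a (ρ b y) = (ρ b y - y) + ρ a y := sub_eq_iff_eq_add.1 e1
          _ = (ρ a y - y) + ρ b y := by abel
          _ = ρ b (ρ a y) := (sub_eq_iff_eq_add.1 e2).symm
      show ρ ⁅a, b⁆ = 1
      rw [commutatorElement_def, map_mul, map_mul, map_mul, hc, mul_assoc (ρ b) (ρ a), ← map_mul ρ a,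
        mul_inv_cancel, map_one, mul_one, ← map_mul, mul_inv_cancel, map_one]
    exact hle hg

/-- In coprime characteristic a `p`-group acting linearly has derived length at most `log₂ n + 1`. -/
theorem derived_trivial_coprime [IsAlgClosed K] {p : ℕ} [hp : Fact p.Prime] (hpK : (p : K) ≠ 0) (n : ℕ) :
    ∀ (V : Type v) [AddCommGroup V] [Module K V] [FiniteDimensional K V], finrank K V = n →
      ∀ (P : Type w) [Group P] [Finite P], IsPGroup p P → ∀ ρ : P →* End K V,
        ∀ x ∈ derivedSeries P (Nat.log 2 n + 1), ρ x = 1 := by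
  induction n using Nat.strong_induction_on with
  | _ n ih =>
  intro V _ _ _ hn P _ _ hP ρ x hx
  have hdiag : ∀ g : P, ⨆ μ : K, (ρ g).eigenspace μ = ⊤ := by
    intro g
    obtain ⟨k, hk⟩ := hP g
    have hss : (ρ g).IsSemisimple :=
      Module.End.isSemisimple_of_squarefree_aeval_eq_zero
        (Polynomial.separable_X_pow_sub_C (1 : K) (n := p ^ k) (by rw [Nat.cast_pow]; exact pow_ne_zero k hpK) one_ne_zero).squarefree
        (by rw [map_sub, map_pow, Polynomial.aeval_X, Polynomial.aeval_C, map_one, ← map_pow, hk, map_one, sub_self])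
    simp_rw [← hss.isFinitelySemisimple.maxGenEigenspace_eq_eigenspace]
    exact Module.End.iSup_maxGenEigenspace_eq_top (ρ g)
  -- a central nonscalar image
  by_cases hcen : ∃ z : P, (∀ g, Commute (ρ g) (ρ z)) ∧ ∀ μ : K, (ρ z).eigenspace μ ≠ ⊤
  · obtain ⟨z, hz, hzne⟩ := hcen
    have hle : derivedSeries P (Nat.log 2 n + 1) ≤ actTrivially ρ := by
      intro g hg
      show ρ g = 1
      rw [← sub_eq_zero, ← LinearMap.ker_eq_top, ← top_le_iff, ← hdiag z, iSup_le_iff]
      intro μ y hy
      have hinv : ∀ g, ∀ y ∈ (ρ z).eigenspace μ, ρ g y ∈ (ρ z).eigenspace μ := by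
        intro g y hy
        rw [Module.End.mem_eigenspace_iff] at hy ⊢
        rw [← Module.End.mul_apply, ← (hz g).eq, Module.End.mul_apply, hy, map_smul]
      have hlt : finrank K ((ρ z).eigenspace μ) < n := hn ▸ Submodule.finrank_lt (hzne μ)
      have e := ih _ hlt _ rfl P hP (restrictRep ρ _ hinv) g
        (derivedSeries_antitone _ (Nat.add_le_add_right (Nat.log_mono_right hlt.le) 1) hg)
      rw [LinearMap.mem_ker, LinearMap.sub_apply, sub_eq_zero]
      exact congrArg Subtype.val (LinearMap.congr_fun e ⟨y, hy⟩)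
    exact hle hx
  push Not at hcen
  -- now central images are scalars
  by_cases hab : ∀ a g : P, Commute (ρ g) (ρ a)
  · have h1 : derivedSeries P 1 ≤ actTrivially ρ := by
      rw [derivedSeries_one, commutator_def, Subgroup.commutator_le]
      intro a _ b _
      show ρ ⁅a, b⁆ = 1
      rw [commutatorElement_def, map_mul, map_mul, map_mul, (hab b a).eq, mul_assoc (ρ b) (ρ a), ← map_mul ρ a,
        mul_inv_cancel, map_one, mul_one, ← map_mul, mul_inv_cancel, map_one]
    exact h1 (derivedSeries_antitone _ (Nat.le_add_left 1 _) hx)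
  let Z : Subgroup P :=
    { carrier := {a | ∀ g, Commute (ρ g) (ρ a)}
      one_mem' := fun g => by rw [map_one]; exact Commute.one_right _
      mul_mem' := fun {a b} ha hb g => by rw [map_mul]; exact (ha g).mul_right (hb g)
      inv_mem' := fun {a} ha g => by
        show ρ g * ρ a⁻¹ = ρ a⁻¹ * ρ g
        calc ρ g * ρ a⁻¹ = ρ a⁻¹ * (ρ a * ρ g) * ρ a⁻¹ := by
              rw [← mul_assoc (ρ a⁻¹), ← map_mul ρ a⁻¹, inv_mul_cancel, map_one, one_mul]
          _ = ρ a⁻¹ * ρ g := by
              rw [← (ha g).eq, mul_assoc, mul_assoc (ρ g), ← map_mul ρ a, mul_inv_cancel, map_one, mul_one] }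
  have hZn : Z.Normal := by
    refine ⟨fun a ha u g => ?_⟩
    have h1 : ρ (u * a * u⁻¹) = ρ a := by
      rw [map_mul, map_mul, (ha u).eq, mul_assoc, ← map_mul, mul_inv_cancel, map_one, mul_one]
    rw [h1]; exact ha g
  have hZne : Z ≠ ⊤ := fun h => hab fun a g => (h ▸ Subgroup.mem_top a : a ∈ Z) g
  have : Nontrivial (P ⧸ Z) := QuotientGroup.nontrivial_iff.2 hZne
  have hcq := (hP.to_quotient Z).center_nontrivial
  obtain ⟨⟨a', ha'⟩, ha1⟩ := exists_ne (1 : Subgroup.center (P ⧸ Z))
  obtain ⟨a, rfl⟩ := QuotientGroup.mk'_surjective Z a'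
  have haZ : a ∉ Z := fun h => ha1 (Subtype.ext ((QuotientGroup.eq_one_iff a).2 h))
  have hsc : ∀ g : P, ∃ c : K, c ≠ 0 ∧ ρ g * ρ a = c • (ρ a * ρ g) := by
    intro g
    have h1 : ⁅g, a⁆ ∈ Z := by
      rw [← QuotientGroup.eq_one_iff]
      show QuotientGroup.mk' Z ⁅g, a⁆ = 1
      rw [map_commutatorElement, commutatorElement_eq_one_iff_mul_comm]
      exact Subgroup.mem_center_iff.1 ha' _
    obtain ⟨μ, hμ⟩ := hcen _ h1
    have hμ' : ∀ y, ρ ⁅g, a⁆ y = μ • y := fun y => Module.End.mem_eigenspace_iff.1 (hμ ▸ Submodule.mem_top)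
    have e : ρ g * ρ a = μ • (ρ a * ρ g) := by
      refine LinearMap.ext fun y => ?_
      rw [LinearMap.smul_apply, ← hμ', ← map_mul, ← map_mul, ← Module.End.mul_apply, ← map_mul]
      congr 2
      rw [commutatorElement_def]; group
    rcases subsingleton_or_nontrivial V with hs | hnt
    · exact ⟨1, one_ne_zero, LinearMap.ext fun y => Subsingleton.elim _ _⟩
    refine ⟨μ, fun h0 => ?_, e⟩
    obtain ⟨y, hy⟩ := exists_ne (0 : V)
    have h1 := hμ' y
    rw [h0, zero_smul] at h1
    apply hy
    calc y = ρ (⁅g, a⁆⁻¹ * ⁅g, a⁆) y := by rw [inv_mul_cancel, map_one, Module.End.one_apply]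
      _ = 0 := by rw [map_mul, Module.End.mul_apply, h1, map_zero]
  let C : Subgroup P :=
    { carrier := {g | Commute (ρ g) (ρ a)}
      one_mem' := by show Commute (ρ 1) (ρ a); rw [map_one]; exact Commute.one_left _
      mul_mem' := fun {g h} hg hh => by show Commute (ρ (g * h)) (ρ a); rw [map_mul]; exact hg.mul_left hh
      inv_mem' := fun {g} (hg : ρ g * ρ a = ρ a * ρ g) => by
        show ρ g⁻¹ * ρ a = ρ a * ρ g⁻¹
        calc ρ g⁻¹ * ρ a = ρ g⁻¹ * (ρ a * ρ g) * ρ g⁻¹ := by
              rw [mul_assoc, mul_assoc (ρ a), ← map_mul ρ g, mul_inv_cancel, map_one, mul_one]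
          _ = ρ a * ρ g⁻¹ := by
              rw [← hg, ← mul_assoc (ρ g⁻¹), ← map_mul ρ g⁻¹, inv_mul_cancel, map_one, one_mul] }
  have hC : commutator P ≤ C := by
    rw [commutator_def, Subgroup.commutator_le]
    intro g _ h _
    obtain ⟨c, hc0, hc⟩ := hsc g
    obtain ⟨d, hd0, hd⟩ := hsc h
    show ρ ⁅g, h⁆ * ρ a = ρ a * ρ ⁅g, h⁆
    have hcomm : ρ (g * h) * ρ a = ρ a * ((c * d) • ρ (g * h)) := by
      rw [map_mul, mul_assoc, hd, mul_smul_comm, ← mul_assoc, hc, smul_mul_assoc, smul_smul, mul_comm d c,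
        mul_assoc, mul_smul_comm]
    have hcomm' : ρ (h * g) * ρ a = ρ a * ((c * d) • ρ (h * g)) := by
      rw [map_mul, mul_assoc, hc, mul_smul_comm, ← mul_assoc, hd, smul_mul_assoc, smul_smul,
        mul_assoc, mul_smul_comm]
    have e : ⁅g, h⁆ * (h * g) = g * h := by rw [commutatorElement_def]; group
    have e2 : ρ ⁅g, h⁆ * ρ a * ((c * d) • ρ (h * g)) = ρ a * ρ ⁅g, h⁆ * ((c * d) • ρ (h * g)) := by
      rw [mul_assoc, ← hcomm', ← mul_assoc, ← map_mul, e, hcomm, mul_assoc (ρ a),
        mul_smul_comm (c * d) (ρ ⁅g, h⁆), ← map_mul, e]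
    have e3 : ((c * d) • ρ (h * g)) * ((c * d)⁻¹ • ρ (h * g)⁻¹) = 1 := by
      rw [smul_mul_smul_comm, mul_inv_cancel₀ (mul_ne_zero hc0 hd0), ← map_mul, mul_inv_cancel, map_one, one_smul]
    have e4 := congrArg (· * ((c * d)⁻¹ • ρ (h * g)⁻¹)) e2
    simp only [mul_assoc, e3, mul_one] at e4
    exact e4
  obtain ⟨h, hh⟩ : ∃ h, h ∉ C := by
    by_contra hc
    push Not at hc
    exact haZ fun g => hc g
  obtain ⟨c, hc0, hc⟩ := hsc h
  have hc1 : c ≠ 1 := fun h1 => hh (by rw [h1, one_smul] at hc; exact hc)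
  have hsmall : ∀ μ : K, 2 * finrank K ((ρ a).eigenspace μ) ≤ n := by
    intro μ
    by_cases hμ : μ = 0
    · subst hμ
      have hb : (ρ a).eigenspace 0 = ⊥ := by
        rw [eq_bot_iff]
        intro y hy
        rw [Module.End.mem_eigenspace_iff, zero_smul] at hy
        rw [Submodule.mem_bot]
        calc y = ρ (a⁻¹ * a) y := by rw [inv_mul_cancel, map_one, Module.End.one_apply]
          _ = 0 := by rw [map_mul, Module.End.mul_apply, hy, map_zero]
      rw [hb, finrank_bot]; omega
    have hne : c⁻¹ * μ ≠ μ := fun h1 => hc1 (by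
      have h2 := mul_eq_right₀ hμ |>.1 h1
      exact inv_eq_one.1 h2)
    have hmap : ((ρ a).eigenspace μ).map (ρ h) ≤ (ρ a).eigenspace (c⁻¹ * μ) := by
      rintro _ ⟨y, hy, rfl⟩
      rw [SetLike.mem_coe, Module.End.mem_eigenspace_iff] at hy
      rw [Module.End.mem_eigenspace_iff]
      have h3 := LinearMap.congr_fun hc y
      rw [LinearMap.smul_apply, Module.End.mul_apply, Module.End.mul_apply, hy, map_smul] at h3
      rw [mul_smul, h3, smul_smul, inv_mul_cancel₀ hc0, one_smul]
    have hinj : Function.Injective (ρ h) := fun y z hyz => by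
      have h4 : ρ (h⁻¹ * h) y = ρ (h⁻¹ * h) z := by rw [map_mul, Module.End.mul_apply, hyz, ← Module.End.mul_apply]
      simpa using h4
    have h5 : finrank K ((ρ a).eigenspace μ) ≤ finrank K ((ρ a).eigenspace (c⁻¹ * μ)) := by
      rw [(Submodule.equivMapOfInjective (ρ h) hinj _).finrank_eq]
      exact Submodule.finrank_mono hmap
    have hdis : Disjoint ((ρ a).eigenspace μ) ((ρ a).eigenspace (c⁻¹ * μ)) :=
      (ρ a).eigenspaces_iSupIndep.pairwiseDisjoint hne.symm
    have h6 := Submodule.finrank_sup_add_finrank_inf_eq ((ρ a).eigenspace μ) ((ρ a).eigenspace (c⁻¹ * μ))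
    rw [hdis.eq_bot, finrank_bot] at h6
    have h7 := Submodule.finrank_le ((ρ a).eigenspace μ ⊔ (ρ a).eigenspace (c⁻¹ * μ))
    omega
  have hn2 : 2 ≤ n := by
    by_contra hlt
    apply hh
    have hall : ∀ μ : K, (ρ a).eigenspace μ = ⊥ := fun μ =>
      Submodule.finrank_eq_zero.1 (by have := hsmall μ; omega)
    have h8 := hdiag a
    simp only [hall, iSup_bot] at h8
    have : Subsingleton (Submodule K V) := subsingleton_iff_bot_eq_top.1 h8
    have : Subsingleton V := (Submodule.subsingleton_iff K).1 this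
    exact LinearMap.ext fun y => Subsingleton.elim _ _
  have hlog : Nat.log 2 n = Nat.log 2 (n / 2) + 1 := by
    rw [Nat.log_div_base, Nat.sub_add_cancel (Nat.log_pos one_lt_two hn2)]
  obtain ⟨⟨x', hxC⟩, hx', rfl⟩ := derivedSeries_succ_le_map C hC (Nat.log 2 n) hx
  rw [← sub_eq_zero, ← LinearMap.ker_eq_top, ← top_le_iff, ← hdiag a, iSup_le_iff]
  intro μ y hy
  have hinv : ∀ g : C, ∀ y ∈ (ρ a).eigenspace μ, ρ.comp C.subtype g y ∈ (ρ a).eigenspace μ := by
    intro g y hy
    rw [Module.End.mem_eigenspace_iff] at hy ⊢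
    show ρ a (ρ (g : P) y) = μ • ρ (g : P) y
    rw [← Module.End.mul_apply, ← (show ρ (g : P) * ρ a = ρ a * ρ (g : P) from g.2), Module.End.mul_apply, hy, map_smul]
  have hle2 : finrank K ((ρ a).eigenspace μ) ≤ n / 2 := by have := hsmall μ; omega
  have hlt : finrank K ((ρ a).eigenspace μ) < n := by omega
  rw [hlog] at hx'
  have e := ih _ hlt _ rfl C (hP.to_subgroup C) (restrictRep (ρ.comp C.subtype) _ hinv) ⟨x', hxC⟩
    (derivedSeries_antitone _ (Nat.add_le_add_right (Nat.log_mono_right hle2) 1) hx')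
  rw [LinearMap.mem_ker, LinearMap.sub_apply, sub_eq_zero]
  exact congrArg Subtype.val (LinearMap.congr_fun e ⟨y, hy⟩)

end Cfsg.Agent.H86
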