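import Cfsg.Agent.H86.ThreeCounts
import Cfsg.Agent.H25.Burnside

/-!
Groups in which the numbers of elements of each order take three values are solvable.
-/

set_option autoImplicit false

namespace Cfsg.Agent.H86.ThreeEven

open Finset

variable {G : Type*} [Group G] [Finite G]

theorem solvable_of_primeFactors {p q : ℕ} (hp : p.Prime) (hq : q.Prime) (hpq : p ≠ q)
    (h : (Nat.card G).primeFactors ⊆ {p, q}) : Group.IsSolvable G := by
  have hc := Nat.prod_factorization_pow_eq_self (n := Nat.card G) Nat.card_pos.ne'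
  rw [Finsupp.prod, Nat.support_factorization,
    prod_subset (f := fun r => r ^ (Nat.card G).factorization r) h (fun r _ hr => by
      rw [← Nat.support_factorization, Finsupp.notMem_support_iff] at hr
      rw [hr, pow_zero]), prod_pair hpq] at hc
  exact H25.isSolvable_of_card_eq_mul_pow hp hq hc.symm

theorem solvable_of_card_primeFactors (h : (Nat.card G).primeFactors.card ≤ 2) :
    Group.IsSolvable G := by
  rcases (show (Nat.card G).primeFactors.card = 0 ∨ (Nat.card G).primeFactors.card = 1 ∨
      (Nat.card G).primeFactors.card = 2 by omega) with h0 | h1 | h2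
  · exact solvable_of_primeFactors Nat.prime_two Nat.prime_three (by norm_num)
      (by rw [card_eq_zero.1 h0]; exact empty_subset _)
  · obtain ⟨p, hp⟩ := card_eq_one.1 h1
    have hpp := Nat.prime_of_mem_primeFactors (hp ▸ mem_singleton_self p)
    by_cases h2 : p = 2
    · exact solvable_of_primeFactors hpp Nat.prime_three (by omega) (by rw [hp]; simp)
    · exact solvable_of_primeFactors hpp Nat.prime_two h2 (by rw [hp]; simp)
  · obtain ⟨p, q, hpq, hs⟩ := card_eq_two.1 h2
    exact solvable_of_primeFactors (Nat.prime_of_mem_primeFactors (n := Nat.card G) (by rw [hs]; simp))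
      (Nat.prime_of_mem_primeFactors (n := Nat.card G) (by rw [hs]; simp)) hpq hs.le

/-- The count of elements of order `m ≥ 3` is `0`, `a` or `b`. -/
def Vals (G : Type*) [Group G] (a b : ℕ) : Prop :=
  ∀ m, 3 ≤ m → orderCount G m = 0 ∨ orderCount G m = a ∨ orderCount G m = b

omit [Finite G] in
theorem Vals.symm {a b : ℕ} (h : Vals G a b) : Vals G b a :=
  fun m hm => (h m hm).imp_right Or.symm

theorem cast_two_ne {p : ℕ} (hp : p.Prime) (hp2 : p ≠ 2) : (2 : ZMod p) ≠ 0 := by
  intro h
  have h2 : p ∣ 2 := (ZMod.natCast_eq_zero_iff 2 p).1 (by exact_mod_cast h)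
  exact hp2 ((Nat.prime_dvd_prime_iff_eq hp Nat.prime_two).1 h2)

theorem three_le_prime {p : ℕ} (hp : p.Prime) (hp2 : p ≠ 2) : 3 ≤ p := by
  have := hp.two_le; omega

theorem three_le_mul {p q : ℕ} (hp : p.Prime) (hq : q.Prime) : 3 ≤ p * q := by
  nlinarith [hp.two_le, hq.two_le]

/-- All the orders at least three have the same count: two odd primes are impossible. -/
theorem no_two_odd_single {b : ℕ} (h : Vals G b b) {p q : ℕ} (hp : p.Prime) (hq : q.Prime)
    (hpq : p ≠ q) (hp2 : p ≠ 2) (hq2 : q ≠ 2) (hpd : p ∣ Nat.card G) (hqd : q ∣ Nat.card G) :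
    False := by
  have := Fact.mk hp
  have val : ∀ r : ℕ, r.Prime → r ≠ 2 → r ∣ Nat.card G → orderCount G r = b := fun r hr hr2 hrd => by
    rcases h r (three_le_prime hr hr2) with e | e | e
    · exact absurd (e ▸ dvd_zero r) (not_dvd_orderCount_prime hr hrd)
    · exact e
    · exact e
  have hb : ((b : ℕ) : ZMod p) = -1 := val p hp hp2 hpd ▸ cast_orderCount_prime hp hpd
  have hs := cast_sum_orderCount (G := G) (p := p) (mul_ne_zero hp.ne_zero hq.ne_zero)
    (((Nat.coprime_primes hp hq).2 hpq).mul_dvd_of_dvd_of_dvd hpd hqd) (dvd_mul_right p q)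
  rw [sum_divisors_prime_mul hp hq hpq, orderCount_one, val p hp hp2 hpd, val q hq hq2 hqd] at hs
  push_cast at hs
  have hv : ((orderCount G (p * q) : ℕ) : ZMod p) = 1 := by linear_combination hs - 2 * hb
  rcases h _ (three_le_mul hp hq) with e | e | e <;> rw [e] at hv
  · rw [Nat.cast_zero] at hv; exact zero_ne_one hv
  · rw [hb] at hv; exact cast_two_ne hp hp2 (by linear_combination -hv)
  · rw [hb] at hv; exact cast_two_ne hp hp2 (by linear_combination -hv)

/-! ### A unique involution -/

variable (h1 : orderCount G 2 = 1)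

omit [Finite G] in
include h1 in
theorem exists_involution : ∃ z : G, orderOf z = 2 ∧ (∀ x : G, orderOf x = 2 → x = z) ∧
    ∀ x : G, Commute x z := by
  obtain ⟨⟨hu⟩, ⟨⟨z, hz⟩⟩⟩ := Nat.card_eq_one_iff_unique.1 h1
  have huniq : ∀ x : G, orderOf x = 2 → x = z := fun x hx =>
    congrArg Subtype.val (hu ⟨x, hx⟩ ⟨z, hz⟩)
  refine ⟨z, hz, huniq, fun x => ?_⟩
  have := huniq (x * z * x⁻¹) (((MulAut.conj x).orderOf_eq z).trans hz)
  exact mul_inv_eq_iff_eq_mul.1 this

omit [Finite G] in
theorem orderOf_mul_involution {m : ℕ} (hm : Odd m) {y z : G} (hz : orderOf z = 2)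
    (huniq : ∀ x : G, orderOf x = 2 → x = z) (hc : Commute y z) (hy : orderOf y = 2 * m) :
    orderOf (y * z) = m := by
  have hm0 : m ≠ 0 := fun h => by rw [h] at hm; simp at hm
  have hym : y ^ m = z := huniq _ (by
    rw [orderOf_pow' y hm0, hy, Nat.gcd_eq_right (dvd_mul_left m 2),
      Nat.mul_div_cancel _ (Nat.pos_of_ne_zero hm0)])
  have hz2 : z ^ 2 = 1 := hz ▸ pow_orderOf_eq_one z
  have hzm : z ^ m = z := by
    obtain ⟨k, rfl⟩ := hm
    rw [pow_succ, pow_mul, hz2, one_pow, one_mul]
  refine Nat.dvd_antisymm (orderOf_dvd_of_pow_eq_one ?_) ?_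
  · rw [hc.mul_pow, hym, hzm, ← sq, hz2]
  · have h := pow_orderOf_eq_one (y * z)
    rw [hc.mul_pow] at h
    have h2 : y ^ (2 * orderOf (y * z)) = 1 := by
      have := congrArg (· ^ 2) h
      simp only [one_pow] at this
      rw [(hc.pow_pow _ _).mul_pow, ← pow_mul, ← pow_mul, mul_comm _ 2, pow_mul z, hz2, one_pow,
        mul_one] at this
      exact this
    rw [← orderOf_dvd_iff_pow_eq_one, hy] at h2
    exact Nat.dvd_of_mul_dvd_mul_left two_pos h2

include h1 in
theorem orderCount_two_mul {m : ℕ} (hm : Odd m) : orderCount G (2 * m) = orderCount G m := by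
  obtain ⟨z, hz, huniq, hc⟩ := exists_involution h1
  have hz2 : z * z = 1 := by rw [← sq, ← hz, pow_orderOf_eq_one]
  exact Nat.card_congr
    { toFun := fun y => ⟨y.1 * z, orderOf_mul_involution hm hz huniq (hc _) y.2⟩
      invFun := fun x => ⟨x.1 * z, by
        rw [(hc x.1).orderOf_mul_eq_mul_orderOf_of_coprime (by rw [x.2, hz]; exact Nat.coprime_two_right.2 hm),
          x.2, hz, mul_comm]⟩
      left_inv := fun y => Subtype.ext (by simp [mul_assoc, hz2])
      right_inv := fun x => Subtype.ext (by simp [mul_assoc, hz2]) }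

theorem orderCount_four (h1 : orderCount G 2 = 1) (h4 : 4 ∣ Nat.card G) :
    orderCount G 4 % 4 = 2 := by
  have h := dvd_sum_orderCount (G := G) (by norm_num : (4 : ℕ) ≠ 0) h4
  rw [show (4 : ℕ).divisors = {1, 2, 4} from rfl, sum_insert (by decide), sum_pair (by decide),
    orderCount_one, h1] at h
  omega

theorem four_dvd_totient_mul {p q : ℕ} (hp : p.Prime) (hq : q.Prime) (hpq : p ≠ q) (hp2 : p ≠ 2)
    (hq2 : q ≠ 2) : 4 ∣ (p * q).totient := by
  rw [Nat.totient_mul ((Nat.coprime_primes hp hq).2 hpq), show (4 : ℕ) = 2 * 2 from rfl]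
  exact mul_dvd_mul (even_totient_of_three_le (three_le_prime hp hp2))
    (even_totient_of_three_le (three_le_prime hq hq2))

theorem four_dvd_totient_four_mul {n : ℕ} (hn : Odd n) (h3 : 3 ≤ n) : 4 ∣ (4 * n).totient := by
  rw [Nat.totient_mul (by exact (Nat.coprime_two_left.2 hn).pow_left 2)]
  exact mul_dvd_mul (show 2 ∣ Nat.totient 4 from dvd_of_eq rfl) (even_totient_of_three_le h3)

/-- With a unique involution and `4 ∣ |G|`: two odd primes are impossible. -/
theorem no_two_odd_four {a b : ℕ} (h1 : orderCount G 2 = 1) (h : Vals G a b)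
    (h4 : 4 ∣ Nat.card G) (ha : orderCount G 4 = a) {p q : ℕ} (hp : p.Prime) (hq : q.Prime)
    (hpq : p ≠ q) (hp2 : p ≠ 2) (hq2 : q ≠ 2) (hpd : p ∣ Nat.card G) (hqd : q ∣ Nat.card G) :
    False := by
  have ha4 : a % 4 = 2 := ha ▸ orderCount_four h1 h4
  -- counts at orders with totient divisible by four
  have big : ∀ m, 4 ∣ m.totient → 3 ≤ m → orderCount G m = 0 ∨ orderCount G m = b := by
    intro m hm h3
    rcases h m h3 with e | e | e
    · exact Or.inl e
    · have := hm.trans (totient_dvd_orderCount (G := G) m)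
      rw [e] at this; omega
    · exact Or.inr e
  -- a prime with count `a` makes `b` congruent to one
  have hb1 : ∀ r : ℕ, r.Prime → r ≠ 2 → r ∣ Nat.card G → orderCount G r = a →
      ((b : ℕ) : ZMod r) = 1 ∧ orderCount G (4 * r) = b := by
    intro r hr hr2 hrd hra
    have := Fact.mk hr
    have hrodd := hr.odd_of_ne_two hr2
    have hcop : Nat.Coprime 4 r := (Nat.coprime_two_left.2 hrodd).pow_left 2
    have hs := cast_sum_orderCount (G := G) (p := r) (mul_ne_zero (by norm_num) hr.ne_zero)
      (hcop.mul_dvd_of_dvd_of_dvd h4 hrd) (dvd_mul_left r 4)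
    rw [sum_divisors_mul_prime (by norm_num) hr ((hr.coprime_iff_not_dvd).1 hcop.symm),
      show (4 : ℕ).divisors = {1, 2, 4} from rfl, sum_insert (by decide), sum_pair (by decide),
      sum_insert (by decide), sum_pair (by decide), orderCount_one, h1, ha, one_mul, hra,
      orderCount_two_mul h1 hrodd, hra] at hs
    push_cast at hs
    have har : ((a : ℕ) : ZMod r) = -1 := hra ▸ cast_orderCount_prime hr hrd
    have hv : ((orderCount G (4 * r) : ℕ) : ZMod r) = 1 := by linear_combination hs - 3 * har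
    rcases big (4 * r) (four_dvd_totient_four_mul hrodd (three_le_prime hr hr2)) (by have := hr.two_le; omega) with e | e
    · rw [e, Nat.cast_zero] at hv; exact absurd hv zero_ne_one
    · exact ⟨e ▸ hv, e⟩
  -- each prime count is `a` or `b`
  have val : ∀ r : ℕ, r.Prime → r ≠ 2 → r ∣ Nat.card G → orderCount G r = a ∨ orderCount G r = b :=
    fun r hr hr2 hrd => (h r (three_le_prime hr hr2)).resolve_left fun e =>
      not_dvd_orderCount_prime hr hrd (e ▸ dvd_zero r)
  have hdvd := ((Nat.coprime_primes hp hq).2 hpq).mul_dvd_of_dvd_of_dvd hpd hqd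
  have hv0 := big (p * q) (four_dvd_totient_mul hp hq hpq hp2 hq2) (three_le_mul hp hq)
  -- mixed classes
  have mixed : ∀ p q : ℕ, p.Prime → q.Prime → p ≠ q → p ≠ 2 → p ∣ Nat.card G → p * q ∣ Nat.card G →
      orderCount G p = a → orderCount G q = b →
      (orderCount G (p * q) = 0 ∨ orderCount G (p * q) = b) → False := by
    intro p q hp hq hpq hp2 hpd hd hpa hqb hv
    have := Fact.mk hp
    have hs := cast_sum_orderCount (G := G) (p := p) (mul_ne_zero hp.ne_zero hq.ne_zero) hd (dvd_mul_right p q)
    rw [sum_divisors_prime_mul hp hq hpq, orderCount_one, hpa, hqb] at hs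
    push_cast at hs
    have hap : ((a : ℕ) : ZMod p) = -1 := hpa ▸ cast_orderCount_prime hp hpd
    have hbp := (hb1 p hp hp2 hpd hpa).1
    have hv' : ((orderCount G (p * q) : ℕ) : ZMod p) = -1 := by linear_combination hs - hap - hbp
    rcases hv with e | e <;> rw [e] at hv'
    · rw [Nat.cast_zero] at hv'; exact neg_ne_zero.2 one_ne_zero hv'.symm
    · rw [hbp] at hv'; exact cast_two_ne hp hp2 (by linear_combination hv')
  rcases val p hp hp2 hpd with hpa | hpb <;> rcases val q hq hq2 hqd with hqa | hqb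
  · -- both in the class of four
    have := Fact.mk hp
    obtain ⟨hbp, h4p⟩ := hb1 p hp hp2 hpd hpa
    have h4q := (hb1 q hq hq2 hqd hqa).2
    have hs := cast_sum_orderCount (G := G) (p := p) (mul_ne_zero hp.ne_zero hq.ne_zero) hdvd (dvd_mul_right p q)
    rw [sum_divisors_prime_mul hp hq hpq, orderCount_one, hpa, hqa] at hs
    push_cast at hs
    have hap : ((a : ℕ) : ZMod p) = -1 := hpa ▸ cast_orderCount_prime hp hpd
    have hv : ((orderCount G (p * q) : ℕ) : ZMod p) = 1 := by linear_combination hs - 2 * hap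
    have hpqb : orderCount G (p * q) = b := hv0.resolve_left fun e => by
      rw [e, Nat.cast_zero] at hv; exact zero_ne_one hv
    have hpodd := hp.odd_of_ne_two hp2
    have hqodd := hq.odd_of_ne_two hq2
    have hcop : Nat.Coprime 4 p := (Nat.coprime_two_left.2 hpodd).pow_left 2
    have hnd : ¬ q ∣ 4 * p := fun h' => (hq.dvd_mul.1 h').elim
      (fun h'' => hq2 ((Nat.prime_dvd_prime_iff_eq hq Nat.prime_two).1 (hq.dvd_of_dvd_pow (show q ∣ 2 ^ 2 from h''))))
      (fun h'' => hpq ((Nat.prime_dvd_prime_iff_eq hq hp).1 h'').symm)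
    have hd : 4 * p * q ∣ Nat.card G := (hq.coprime_iff_not_dvd.2 hnd).symm.mul_dvd_of_dvd_of_dvd
      (hcop.mul_dvd_of_dvd_of_dvd h4 hpd) hqd
    have hS := cast_sum_orderCount (G := G) (p := p) (mul_ne_zero (mul_ne_zero (by norm_num) hp.ne_zero) hq.ne_zero)
      hd ((dvd_mul_left p 4).trans (dvd_mul_right _ q))
    have h4nd := (hp.coprime_iff_not_dvd).1 hcop.symm
    simp only [sum_divisors_mul_prime (mul_ne_zero (by norm_num) hp.ne_zero) hq hnd,
      sum_divisors_mul_prime (by norm_num : (4 : ℕ) ≠ 0) hp h4nd] at hS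
    rw [show (4 : ℕ).divisors = {1, 2, 4} from rfl] at hS
    simp only [sum_insert (show (1 : ℕ) ∉ ({2, 4} : Finset ℕ) by decide), sum_pair (show (2 : ℕ) ≠ 4 by decide),
      orderCount_one, one_mul] at hS
    rw [mul_assoc 2 p q, orderCount_two_mul h1 hpodd, orderCount_two_mul h1 hqodd,
      orderCount_two_mul h1 (hpodd.mul hqodd), h1, ha, hpa, hqa, hpqb, h4p, h4q] at hS
    push_cast at hS
    have hw : ((orderCount G (4 * p * q) : ℕ) : ZMod p) = -1 := by
      linear_combination hS - 5 * hap - 4 * hbp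
    rcases big (4 * p * q) (by rw [mul_assoc]; exact four_dvd_totient_four_mul (hpodd.mul hqodd) (three_le_mul hp hq))
      (by nlinarith [hp.two_le, hq.two_le]) with e | e <;> rw [e] at hw
    · rw [Nat.cast_zero] at hw; exact neg_ne_zero.2 one_ne_zero hw.symm
    · rw [hbp] at hw; exact cast_two_ne hp hp2 (by linear_combination hw)
  · exact mixed p q hp hq hpq hp2 hpd hdvd hpa hqb hv0
  · exact mixed q p hq hp hpq.symm hq2 hqd (mul_comm p q ▸ hdvd) hqa hpb (mul_comm p q ▸ hv0)
  · -- both in the other class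
    have := Fact.mk hp
    have hs := cast_sum_orderCount (G := G) (p := p) (mul_ne_zero hp.ne_zero hq.ne_zero) hdvd (dvd_mul_right p q)
    rw [sum_divisors_prime_mul hp hq hpq, orderCount_one, hpb, hqb] at hs
    push_cast at hs
    have hbp : ((b : ℕ) : ZMod p) = -1 := hpb ▸ cast_orderCount_prime hp hpd
    have hv : ((orderCount G (p * q) : ℕ) : ZMod p) = 1 := by linear_combination hs - 2 * hbp
    rcases hv0 with e | e <;> rw [e] at hv
    · rw [Nat.cast_zero] at hv; exact zero_ne_one hv
    · rw [hbp] at hv; exact cast_two_ne hp hp2 (by linear_combination -hv)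

theorem solvable_of_twoPart {a b : ℕ} (h1 : orderCount G 2 = 1) (h : Vals G a b) (hab : a ≠ b)
    (h2 : 2 ∣ Nat.card G) (h4 : ¬ 4 ∣ Nat.card G) : Group.IsSolvable G := by
  obtain ⟨z, hz, huniq, hc⟩ := exists_involution h1
  have : (Subgroup.zpowers z).Normal := ⟨fun n hn g => by
    obtain ⟨i, rfl⟩ := Subgroup.mem_zpowers_iff.1 hn
    rw [((hc g).zpow_right i).eq, mul_inv_cancel_right]
    exact Subgroup.zpow_mem _ (Subgroup.mem_zpowers z) i⟩
  set Q := G ⧸ Subgroup.zpowers z
  set π := QuotientGroup.mk' (Subgroup.zpowers z)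
  have hQ : 2 * Nat.card Q = Nat.card G := by
    rw [mul_comm, ← hz, ← Nat.card_zpowers, ← Subgroup.index_eq_card, mul_comm, Subgroup.card_mul_index]
  have hodd : Odd (Nat.card Q) := Nat.not_even_iff_odd.1 fun he => h4 (by
    rw [← hQ, show (4 : ℕ) = 2 * 2 from rfl]
    exact Nat.mul_dvd_mul_left 2 (even_iff_two_dvd.1 he))
  have hker : ∀ u : G, π u = 1 → u = 1 ∨ u = z := by
    intro u hu
    have hmem : u ∈ Subgroup.zpowers z := (QuotientGroup.eq_one_iff u).1 hu
    have := Subgroup.orderOf_dvd_natCard _ hmem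
    rw [Nat.card_zpowers, hz, Nat.dvd_prime Nat.prime_two] at this
    exact this.imp orderOf_eq_one_iff.1 (huniq u)
  have hz1 : π z = 1 := (QuotientGroup.eq_one_iff z).2 (Subgroup.mem_zpowers z)
  have himg : ∀ x : G, Odd (orderOf x) → orderOf (π x) = orderOf x := by
    intro x hx
    refine Nat.dvd_antisymm (orderOf_map_dvd π x) (orderOf_dvd_of_pow_eq_one ?_)
    have hk : π (x ^ orderOf (π x)) = 1 := by rw [map_pow, pow_orderOf_eq_one]
    refine (hker _ hk).resolve_right fun e => ?_
    have := orderOf_pow_dvd (x := x) (orderOf (π x))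
    rw [e, hz] at this
    exact Nat.not_even_iff_odd.2 hx (even_iff_two_dvd.2 this)
  have hcount : ∀ w : Q, orderCount Q (orderOf w) = orderCount G (orderOf w) := by
    intro w
    have hm : Odd (orderOf w) := hodd.of_dvd_nat (orderOf_dvd_natCard w)
    refine (Nat.card_congr (Equiv.ofBijective
      (fun x : {x : G // orderOf x = orderOf w} =>
        (⟨π x.1, (himg _ (by rw [x.2]; exact hm)).trans x.2⟩ : {u : Q // orderOf u = orderOf w})) ⟨?_, ?_⟩)).symm
    · rintro ⟨x, hx⟩ ⟨y, hy⟩ e
      have e' : π x = π y := congrArg Subtype.val e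
      rcases hker (x⁻¹ * y) (by rw [map_mul, map_inv, e', inv_mul_cancel]) with h' | h'
      · exact Subtype.ext (inv_mul_eq_one.1 h')
      · exfalso
        have hy' : y = x * z := by rw [← h', mul_inv_cancel_left]
        rw [hy', (hc x).orderOf_mul_eq_mul_orderOf_of_coprime
          (by rw [hx, hz]; exact Nat.coprime_two_right.2 hm), hx, hz] at hy
        have := hm.pos
        omega
    · rintro ⟨u, hu⟩
      obtain ⟨y, rfl⟩ := QuotientGroup.mk'_surjective (Subgroup.zpowers z) u
      have hyw : π (y ^ orderOf w) = 1 := by rw [map_pow, ← hu, pow_orderOf_eq_one]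
      have hle : orderOf w ∣ orderOf y := hu ▸ orderOf_map_dvd π y
      rcases hker _ hyw with h' | h'
      · exact ⟨⟨y, Nat.dvd_antisymm (orderOf_dvd_of_pow_eq_one h') hle⟩, rfl⟩
      · have hyo : orderOf y = 2 * orderOf w := by
          have h2 : y ^ (2 * orderOf w) = 1 := by rw [mul_comm, pow_mul, h', ← hz, pow_orderOf_eq_one]
          obtain ⟨k, hk⟩ := hle
          have hk2 : k ∣ 2 := by
            have := orderOf_dvd_of_pow_eq_one h2
            rw [hk, mul_comm 2] at this
            exact Nat.dvd_of_mul_dvd_mul_left hm.pos this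
          rcases (Nat.dvd_prime Nat.prime_two).1 hk2 with rfl | rfl
          · exfalso
            rw [mul_one] at hk
            have : z = 1 := by rw [← h', ← hk, pow_orderOf_eq_one]
            rw [this, orderOf_one] at hz; exact absurd hz (by norm_num)
          · rw [hk, mul_comm]
        exact ⟨⟨y * z, orderOf_mul_involution hm hz huniq (hc y) hyo⟩, Subtype.ext (by
          show π (y * z) = π y
          rw [map_mul, hz1, mul_one])⟩
  have htv : TwoValued Q a b := by
    refine ⟨hab, fun w hw => ?_⟩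
    have h3 : 3 ≤ orderOf w := by
      have h0 := orderOf_pos w
      have h1' : orderOf w ≠ 1 := fun e => hw (orderOf_eq_one_iff.1 e)
      have h2' : orderOf w ≠ 2 := fun e => Nat.not_even_iff_odd.2 hodd
        (even_iff_two_dvd.2 (e ▸ orderOf_dvd_natCard w))
      omega
    rw [hcount w]
    exact (h _ h3).resolve_left fun e => (orderCount_pos (G := Q) (g := w)).ne' ((hcount w).trans e)
  have : Group.IsSolvable Q := solvable_of_card_primeFactors (card_primeFactors_le_two hodd htv)
  exact Group.isSolvable_of_ker_le_range (Subgroup.zpowers z).subtype π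
    (by rw [QuotientGroup.ker_mk', Subgroup.range_subtype])

/-- Three values of the counts of elements by order: solvability. -/
theorem solvable_three (h : ((fun m : ℕ => orderCount G m) '' Set.range (orderOf : G → ℕ)).ncard = 3) :
    Group.IsSolvable G := by
  set V := (fun m : ℕ => orderCount G m) '' Set.range (orderOf : G → ℕ)
  have h1V : 1 ∈ V := ⟨1, ⟨1, orderOf_one⟩, orderCount_one⟩
  have hd : (V \ {1}).ncard = 2 := by rw [Set.ncard_sdiff_singleton_of_mem h1V, h]
  obtain ⟨a, b, hab, hV⟩ := Set.ncard_eq_two.1 hd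
  have hv : ∀ g : G, orderCount G (orderOf g) = 1 ∨ orderCount G (orderOf g) = a ∨
      orderCount G (orderOf g) = b := by
    intro g
    by_cases e : orderCount G (orderOf g) = 1
    · exact Or.inl e
    · have : orderCount G (orderOf g) ∈ V \ {1} := ⟨⟨_, ⟨g, rfl⟩, rfl⟩, e⟩
      rw [hV] at this
      exact Or.inr this
  have hvals : Vals G a b := by
    intro m hm
    rcases eq_or_ne (orderCount G m) 0 with h0 | h0
    · exact Or.inl h0
    obtain ⟨g, hg⟩ : ∃ g : G, orderOf g = m := by
      by_contra hne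
      push Not at hne
      exact h0 (orderCount_eq_zero hne)
    rcases hv g with e | e
    · exfalso
      have h2 := (even_totient_of_three_le hm).trans (totient_dvd_orderCount (G := G) m)
      rw [← hg, e] at h2; norm_num at h2
    · exact Or.inr (hg ▸ e)
  rcases Nat.even_or_odd (Nat.card G) with he | ho
  · have h2 : 2 ∣ Nat.card G := even_iff_two_dvd.1 he
    have hs2 : orderCount G 2 % 2 = 1 := by
      have := prime_dvd_orderCount_add_one (G := G) Nat.prime_two h2
      omega
    by_contra hns
    -- two odd prime divisors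
    obtain ⟨p, q, hp, hq, hpq, hp2, hq2, hpd, hqd⟩ : ∃ p q : ℕ, p.Prime ∧ q.Prime ∧ p ≠ q ∧ p ≠ 2 ∧
        q ≠ 2 ∧ p ∣ Nat.card G ∧ q ∣ Nat.card G := by
      have h3 : 3 ≤ (Nat.card G).primeFactors.card := by
        by_contra h'
        exact hns (solvable_of_card_primeFactors (by omega))
      have h3' : 1 < ((Nat.card G).primeFactors.erase 2).card := by
        have := pred_card_le_card_erase (s := (Nat.card G).primeFactors) (a := 2)
        omega
      obtain ⟨p, hp, q, hq, hpq⟩ := one_lt_card.1 h3'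
      rw [mem_erase, Nat.mem_primeFactors] at hp hq
      exact ⟨p, q, hp.2.1, hq.2.1, hpq, hp.1, hq.1, hp.2.2.1, hq.2.2.1⟩
    obtain ⟨t, ht⟩ : ∃ t : G, orderOf t = 2 := exists_prime_orderOf_dvd_card' 2 h2
    have hsingle : ∀ a b : ℕ, Vals G a b → a % 2 = 1 → False := by
      intro a b hab' hodd
      refine no_two_odd_single (b := b) (fun m hm => ?_) hp hq hpq hp2 hq2 hpd hqd
      rcases hab' m hm with e | e | e
      · exact Or.inl e
      · have h2' := (even_totient_of_three_le hm).trans (totient_dvd_orderCount (G := G) m)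
        rw [e] at h2'; omega
      · exact Or.inr (Or.inl e)
    rcases hv t with e | e | e <;> rw [ht] at e
    · -- a unique involution
      by_cases h4 : 4 ∣ Nat.card G
      · have h4' := orderCount_four e h4
        rcases hvals 4 (by norm_num) with e4 | e4 | e4
        · rw [e4] at h4'; norm_num at h4'
        · exact no_two_odd_four e hvals h4 e4 hp hq hpq hp2 hq2 hpd hqd
        · exact no_two_odd_four e hvals.symm h4 e4 hp hq hpq hp2 hq2 hpd hqd
      · exact hns (solvable_of_twoPart e hvals hab h2 h4)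
    · exact hsingle a b hvals (e ▸ hs2)
    · exact hsingle b a hvals.symm (e ▸ hs2)
  · refine solvable_of_card_primeFactors (card_primeFactors_le_two ho (a := a) (b := b) ⟨hab, fun g hg => ?_⟩)
    have h3 : 3 ≤ orderOf g := by
      have h0 := orderOf_pos g
      have h1' : orderOf g ≠ 1 := fun e => hg (orderOf_eq_one_iff.1 e)
      have h2' : orderOf g ≠ 2 := fun e => Nat.not_even_iff_odd.2 ho
        (even_iff_two_dvd.2 (e ▸ orderOf_dvd_natCard g))
      omega
    exact (hvals _ h3).resolve_left (orderCount_pos (G := G) (g := g)).ne'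

end Cfsg.Agent.H86.ThreeEven
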