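import Cfsg.Agent.H22.Frobenius
import Cfsg.Agent.H19.MinimalNormal
import Cfsg.Agent.H86.ThreeCountsEven
import Mathlib.GroupTheory.SchurZassenhaus
import Mathlib.GroupTheory.Sylow

/-!
Groups in which every proper subgroup mixing the prime `q` with another prime involves `p`.
-/

set_option autoImplicit false

namespace Cfsg.Agent.H86.Mixed

open Subgroup

universe u

variable {G : Type u} [Group G] [Finite G] {p q : ℕ}

/-- Every proper subgroup that is neither a `q`-group nor a `q'`-group has order divisible by `p`. -/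
def MixedHyp (G : Type u) [Group G] (p q : ℕ) : Prop :=
  ∀ H : Subgroup G, H ≠ ⊤ → ¬ IsPGroup q H → q ∣ Nat.card H → p ∣ Nat.card H

theorem card_sup_dvd {A B : Subgroup G} (h : B ≤ normalizer (A : Set G)) :
    Nat.card ↥(A ⊔ B) ∣ Nat.card A * Nat.card B := by
  set M := A ⊔ B
  have hn : (A.subgroupOf M).Normal :=
    normal_subgroupOf_of_le_normalizer (sup_le le_normalizer h)
  have htop : A.subgroupOf M ⊔ B.subgroupOf M = ⊤ := by
    rw [← subgroupOf_sup le_sup_left le_sup_right, subgroupOf_self]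
  have hmap : (B.subgroupOf M).map (QuotientGroup.mk' (A.subgroupOf M)) = ⊤ := by
    have h1 := congrArg (Subgroup.map (QuotientGroup.mk' (A.subgroupOf M))) htop
    rw [Subgroup.map_sup, QuotientGroup.map_mk'_self, bot_sup_eq,
      map_top_of_surjective _ (QuotientGroup.mk'_surjective _)] at h1
    exact h1
  have h2 : Nat.card (↥M ⧸ A.subgroupOf M) ∣ Nat.card B := by
    rw [← card_top, ← hmap, ← Nat.card_congr (subgroupOfEquivOfLe (le_sup_right : B ≤ M)).toEquiv]
    exact card_map_dvd _ _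
  rw [← (A.subgroupOf M).card_mul_index, Subgroup.index_eq_card,
    Nat.card_congr (subgroupOfEquivOfLe (le_sup_left : A ≤ M)).toEquiv]
  exact mul_dvd_mul_left _ h2

theorem prime_dvd_pgroup_card {r : ℕ} (hr : r.Prime) (hq : q.Prime) {H : Subgroup G}
    (hH : IsPGroup q H) (h : r ∣ Nat.card H) : r = q := by
  have := Fact.mk hq
  obtain ⟨k, hk⟩ := hH.exists_card_eq
  exact (Nat.prime_dvd_prime_iff_eq hr hq).1 (hr.dvd_of_dvd_pow (hk ▸ h))

/-- Two subgroups of order prime to `p`, one normalizing the other, cannot involve both `q` and a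
third prime. -/
theorem not_mixed (hmix : MixedHyp G p q) (hp : p.Prime) (hq : q.Prime) (hpG : p ∣ Nat.card G)
    {A B : Subgroup G} (hB : B ≤ normalizer (A : Set G)) (hpA : ¬ p ∣ Nat.card A)
    (hpB : ¬ p ∣ Nat.card B) (hqM : q ∣ Nat.card A ∨ q ∣ Nat.card B) {r : ℕ} (hr : r.Prime)
    (hrq : r ≠ q) (hrM : r ∣ Nat.card A ∨ r ∣ Nat.card B) : False := by
  have hd := card_sup_dvd hB
  have hp' : ¬ p ∣ Nat.card ↥(A ⊔ B) := fun h => (hp.dvd_mul.1 (h.trans hd)).elim hpA hpB
  refine hp' (hmix _ (fun e => hp' (by rw [e, card_top]; exact hpG)) (fun h => hrq ?_) ?_)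
  · exact prime_dvd_pgroup_card hr hq h (hrM.elim (fun h => h.trans (card_dvd_of_le le_sup_left))
      (fun h => h.trans (card_dvd_of_le le_sup_right)))
  · exact hqM.elim (fun h => h.trans (card_dvd_of_le le_sup_left))
      (fun h => h.trans (card_dvd_of_le le_sup_right))

/-- A `p`-element that moves a point of a subgroup it normalizes. -/
theorem moved [Fact p.Prime] {H : Subgroup G} {x h : G} (hx : x ∈ normalizer (H : Set G))
    (hxp : IsPGroup p (zpowers x)) (hh : h ∈ H) (hne : ¬ Commute x h) :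
    p + 1 ≤ Nat.card H ∧ (Nat.card H = p + 1 →
      ∀ h' ∈ H, h' ≠ 1 → ∃ c ∈ zpowers x, c * h * c⁻¹ = h') := by
  let O : Set G := {y | ∃ c ∈ zpowers x, c * h * c⁻¹ = y}
  let act : MulAction (zpowers x) G :=
    { smul := fun c y => (c : G) * y * (c : G)⁻¹
      one_smul := fun y => show ((1 : zpowers x) : G) * y * ((1 : zpowers x) : G)⁻¹ = y by simp
      mul_smul := fun c d y => show ((c * d : zpowers x) : G) * y * ((c * d : zpowers x) : G)⁻¹ =
        (c : G) * ((d : G) * y * (d : G)⁻¹) * (c : G)⁻¹ by simp [mul_assoc] }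
  have hO : MulAction.orbit (zpowers x) h = O := Set.ext fun y =>
    ⟨fun ⟨c, hc⟩ => ⟨c, c.2, hc⟩, fun ⟨c, hc, e⟩ => ⟨⟨c, hc⟩, e⟩⟩
  obtain ⟨k, hk⟩ := hxp.card_orbit h
  rw [hO, Nat.card_coe_set_eq] at hk
  have hk0 : k ≠ 0 := by
    rintro rfl
    rw [pow_zero] at hk
    obtain ⟨z, hz⟩ := Set.ncard_eq_one.1 hk
    have h1 : h ∈ O := ⟨1, one_mem _, by simp⟩
    have h2 : x * h * x⁻¹ ∈ O := ⟨x, mem_zpowers x, rfl⟩
    rw [hz, Set.mem_singleton_iff] at h1 h2
    exact hne (mul_inv_eq_iff_eq_mul.1 (h2.trans h1.symm))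
  have hh1 : h ≠ 1 := fun e => hne (e ▸ Commute.one_right x)
  have hsub : O ⊆ (H : Set G) \ {1} := by
    rintro _ ⟨c, hc, rfl⟩
    exact ⟨(mem_normalizer_iff.1 (zpowers_le.2 hx hc) h).1 hh, fun e => hh1 (conj_eq_one_iff.1 e)⟩
  have hfin : ((H : Set G) \ {1}).Finite := Set.toFinite _
  have hcard : ((H : Set G) \ {1}).ncard = Nat.card H - 1 := by
    rw [Set.ncard_sdiff_singleton_of_mem (H.one_mem), ← Nat.card_coe_set_eq]
    rfl
  have hple : p ≤ O.ncard := hk ▸ Nat.le_self_pow hk0 p
  have hle := Set.ncard_le_ncard hsub hfin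
  have hpos : 0 < Nat.card H := Nat.card_pos
  refine ⟨by omega, fun he h' hh' h'1 => ?_⟩
  have : O = (H : Set G) \ {1} := Set.eq_of_subset_of_ncard_le hsub (by omega) hfin
  have hm : h' ∈ O := by rw [this]; exact ⟨hh', h'1⟩
  exact hm

/-- Prime power elements of order prime to `q` centralize the `q`-subgroups they normalize, unless
a Sylow subgroup of order `p + 1` is moved transitively. -/
theorem centralizes_or_big (hmix : MixedHyp G p q) [Fact p.Prime] [Fact q.Prime]
    (hpq : p ≠ q) (hpG : p ∣ Nat.card G) (hsmall : q ^ (Nat.card G).factorization q ≤ p + 1)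
    {H : Subgroup G} (hH : IsPGroup q H) {g : G} (hg : g ∈ normalizer (H : Set G))
    (hgq : (orderOf g).Coprime q) :
    g ∈ centralizer (H : Set G) ∨ (Nat.card H = p + 1 ∧ q ^ (Nat.card G).factorization q = p + 1 ∧
      ∃ x ∈ normalizer (H : Set G), IsPGroup p (zpowers x) ∧ ∃ h ∈ H, ¬ Commute x h) := by
  by_cases hbot : H = ⊥
  · left
    rw [mem_centralizer_iff]
    intro y hy
    rw [hbot, SetLike.mem_coe, mem_bot] at hy
    rw [hy, one_mul, mul_one]
  have hp : p.Prime := Fact.out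
  have hq : q.Prime := Fact.out
  have honly : ∀ r : ℕ, r.Prime → r ∣ orderOf g → r = p := by
    intro r hr hrg
    by_contra hrp
    have hrq : r ≠ q := fun e => by
      have := Nat.eq_one_of_dvd_coprimes hgq hrg (e ▸ dvd_rfl)
      exact hr.ne_one this
    obtain ⟨m, hm⟩ := hrg
    have hy : orderOf (g ^ m) = r := by
      have hm0 : m ≠ 0 := by rintro rfl; rw [mul_zero] at hm; exact (orderOf_pos g).ne' hm
      rw [orderOf_pow' g hm0, hm, Nat.gcd_mul_left_left, Nat.mul_div_cancel _ (Nat.pos_of_ne_zero hm0)]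
    have hq1 : q ∣ Nat.card H := by
      obtain ⟨k, hk⟩ := hH.exists_card_eq
      rcases k with - | k
      · exact absurd (H.eq_bot_of_card_eq (by rw [hk, pow_zero])) hbot
      · exact hk ▸ dvd_pow_self q (Nat.succ_ne_zero k)
    refine not_mixed hmix hp hq hpG (A := H) (B := zpowers (g ^ m)) (zpowers_le.2 (pow_mem hg m))
      (fun h => hpq (prime_dvd_pgroup_card hp hq hH h)) ?_ (Or.inl hq1) hr hrq
      (Or.inr (by rw [Nat.card_zpowers, hy]))
    rw [Nat.card_zpowers, hy, Nat.prime_dvd_prime_iff_eq hp hr]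
    exact Ne.symm hrp
  have hgp : IsPGroup p (zpowers g) := by
    refine IsPGroup.of_card (n := (orderOf g).primeFactorsList.length) ?_
    rw [Nat.card_zpowers]
    exact Nat.eq_prime_pow_of_unique_prime_dvd (orderOf_pos g).ne' fun hd hdd => honly _ hd hdd
  by_cases hc : g ∈ centralizer (H : Set G)
  · exact Or.inl hc
  right
  rw [mem_centralizer_iff] at hc
  push Not at hc
  obtain ⟨h, hh, hne⟩ := hc
  have hne' : ¬ Commute g h := fun e => hne e.symm.eq
  obtain ⟨h1, -⟩ := moved hg hgp hh hne'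
  obtain ⟨k, hk⟩ := hH.exists_card_eq
  have hle : Nat.card H ≤ q ^ (Nat.card G).factorization q := by
    rw [hk]
    refine Nat.pow_le_pow_right hq.pos ((hq.pow_dvd_iff_le_factorization Nat.card_pos.ne').1 ?_)
    exact hk ▸ H.card_subgroup_dvd_card
  exact ⟨by omega, by omega, g, hg, hgp, h, hh, hne'⟩

/-- With a normal `q`-complement no third prime occurs. -/
theorem no_third_of_complement (hmix : MixedHyp G p q) [Fact p.Prime] [Fact q.Prime] (hpq : p ≠ q)
    (hpG : p ∣ Nat.card G) (hqG : q ∣ Nat.card G) (hN : Cfsg.HasNormalPComplement q G) {r : ℕ}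
    (hr : r.Prime) (hrG : r ∣ Nat.card G) : r = p ∨ r = q := by
  by_contra hcon
  push Not at hcon
  have := Fact.mk hr
  obtain ⟨Q, K, hK, hKQ⟩ := hN
  have hmul := hKQ.card_mul_card
  obtain ⟨a, ha⟩ := Q.2.exists_card_eq
  have hqK : ¬ q ∣ Nat.card K := by
    intro h
    have hidx : K.index = Nat.card (Q : Subgroup G) := by
      have h1 := K.card_mul_index
      rw [← hmul] at h1
      exact Nat.eq_of_mul_eq_mul_left Nat.card_pos h1
    have h3 : Nat.card (Q : Subgroup G) * q ∣ Nat.card G := by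
      rw [← hmul, mul_comm (Nat.card K)]; exact Nat.mul_dvd_mul_left _ h
    rw [ha, ← pow_succ] at h3
    have h4 := ((Fact.out : q.Prime).pow_dvd_iff_le_factorization Nat.card_pos.ne').1 h3
    have h5 := Q.card_eq_multiplicity
    rw [ha] at h5
    have h6 := Nat.pow_right_injective (Fact.out : q.Prime).two_le h5
    omega
  have hrK : r ∣ Nat.card K := by
    have h1 : r ∣ Nat.card K * Nat.card (Q : Subgroup G) := hmul.symm ▸ hrG
    exact (hr.dvd_mul.1 h1).resolve_right fun h => hcon.2 (prime_dvd_pgroup_card hr Fact.out Q.2 h)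
  obtain ⟨R⟩ : Nonempty (Sylow r K) := inferInstance
  set R' := (R : Subgroup K).map K.subtype
  have htop := R.normalizer_sup_eq_top
  have hdvd : Nat.card G ∣ Nat.card K * Nat.card (normalizer (R' : Set G)) := by
    rw [← card_top (G := G), ← htop, sup_comm]
    refine card_sup_dvd ?_
    rw [normalizer_eq_top (H := K)]
    exact le_top
  have hqN : q ∣ Nat.card (normalizer (R' : Set G)) :=
    ((Fact.out : q.Prime).dvd_mul.1 (hqG.trans hdvd)).resolve_left hqK
  obtain ⟨y, hy⟩ := exists_prime_orderOf_dvd_card' q hqN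
  have hR'card : Nat.card R' = Nat.card (R : Subgroup K) := card_map_of_injective K.subtype_injective
  obtain ⟨k, hk⟩ := R.2.exists_card_eq
  refine not_mixed hmix Fact.out Fact.out hpG (A := R') (B := zpowers (y : G)) (zpowers_le.2 y.2) ?_ ?_
    (Or.inr ?_) hr hcon.2 (Or.inl ?_)
  · rw [hR'card, hk]
    exact fun h => hcon.1 ((Nat.prime_dvd_prime_iff_eq Fact.out hr).1
      ((Fact.out : p.Prime).dvd_of_dvd_pow h)).symm
  · rw [Nat.card_zpowers, orderOf_coe, hy, Nat.prime_dvd_prime_iff_eq Fact.out Fact.out]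
    exact hpq
  · rw [Nat.card_zpowers, orderOf_coe, hy]
  · rw [hR'card]
    exact R.dvd_card_of_dvd_card hrK

theorem hasNormalPComplement_of_no_moved [Fact q.Prime]
    (h : ∀ H : Subgroup G, IsPGroup q H → ∀ g ∈ normalizer (H : Set G), (orderOf g).Coprime q →
      g ∈ centralizer (H : Set G)) : Cfsg.HasNormalPComplement q G := by
  obtain ⟨P⟩ : Nonempty (Sylow q G) := inferInstance
  exact Cfsg.Agent.H22.hasNormalPComplement_of_frobenius
    (Cfsg.Agent.H22.frobeniusCondition_of_sylow P fun H hH g hg hc => h H (P.2.to_le hH) g hg hc)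

end Cfsg.Agent.H86.Mixed
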