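import Cfsg.Agent.H86.MixedCrit

/-!
The three cases of the exceptional configuration.
-/

set_option autoImplicit false

namespace Cfsg.Agent.H86.Mixed

open Subgroup

universe u

variable {G : Type u} [Group G] [Finite G] {p : ℕ} [Fact p.Prime] (C : Crit G p)

omit [Finite G] [Fact p.Prime] in
theorem conj_commute (g : G) {a b : G} (h : Commute a b) : Commute (g * a * g⁻¹) (g * b * g⁻¹) := by
  rw [commute_iff_eq, show g * a * g⁻¹ * (g * b * g⁻¹) = g * (a * b) * g⁻¹ by group, h.eq]; group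

omit [Finite G] [Fact p.Prime] in
theorem pow_mem_centralizer {x : G} (k : ℕ) {a : G} (h : Commute x a) : Commute (x ^ k) a := h.pow_left k

omit [Finite G] [Fact p.Prime] in
theorem commute_conj_inv {t x w : G} (ht : t * t = 1) (hinv : t * x * t⁻¹ = x⁻¹) (h : Commute x w) :
    Commute x (t * w * t⁻¹) := by
  have h1 := conj_commute t h
  rw [hinv] at h1
  have := h1.inv_left
  rwa [inv_inv] at this

omit [Finite G] [Fact p.Prime] in
theorem sq_ne_of_inv {t x : G} (hinv : t * x * t⁻¹ = x⁻¹) (h : Commute t x) : x * x = 1 := by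
  have h1 : t * x * t⁻¹ = x := conj_eq_iff_commute.2 h
  rw [h1] at hinv
  nth_rewrite 2 [hinv]
  rw [mul_inv_cancel]

omit [Finite G] [Fact p.Prime] in
theorem smul_sylow_iff {g : G} {P : Sylow p G} :
    g • P = P ↔ g ∈ normalizer ((P : Subgroup G) : Set G) := Sylow.smul_eq_iff_mem_normalizer

omit [Finite G] [Fact p.Prime] in
theorem commute_of_both {s t w : G} (hs : Commute t w) (hts : Commute s w) : Commute (t * s) w :=
  hs.mul_left hts

include C

/-- The centralizer of an element is a `p`-group when it is odd and the element is inverted. -/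
theorem Crit.odd_centralizer {t x : G} (ht : t * t = 1) (ht1 : t ≠ 1) (hinv : t * x * t⁻¹ = x⁻¹)
    (hx : IsPGroup p (zpowers x)) (hx1 : x ≠ 1)
    (hno : ∀ w, w * w = 1 → Commute x w → w = 1) :
    IsPGroup p (centralizer ({x} : Set G)) ∧ ∀ P : Sylow p G, x ∈ (P : Subgroup G) →
      (P : Subgroup G) = centralizer ({x} : Set G) := by
  set M := normalizer (zpowers x : Set G)
  have hM : M ≠ ⊤ := C.hloc _ hx (zpowers_ne_bot.2 hx1)
  have htM : t ∈ M := by
    rw [mem_normalizer_iff]
    have key : ∀ y ∈ zpowers x, t * y * t⁻¹ ∈ zpowers x := by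
      intro y hy
      obtain ⟨i, rfl⟩ := mem_zpowers_iff.1 hy
      rw [← conj_zpow, hinv]
      exact zpow_mem (inv_mem (mem_zpowers _)) i
    refine fun y => ⟨key y, fun h => ?_⟩
    have := key _ h
    rwa [show t * (t * y * t⁻¹) * t⁻¹ = (t * t) * y * (t * t)⁻¹ by group, ht, one_mul, inv_one, mul_one] at this
  have h2 : 2 ∣ Nat.card M := orderOf_involution ht ht1 ▸ M.orderOf_dvd_natCard htM
  have hCM : centralizer ({x} : Set G) ≤ M := by
    show centralizer ({x} : Set G) ≤ normalizer (zpowers x : Set G)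
    rw [← centralizer_closure, ← zpowers_eq_closure]
    exact centralizer_le_normalizer _
  have hC : IsPGroup p (centralizer ({x} : Set G)) := by
    refine IsPGroup.of_card (n := (Nat.card (centralizer ({x} : Set G))).primeFactorsList.length) ?_
    refine Nat.eq_prime_pow_of_unique_prime_dvd Nat.card_pos.ne' fun {r} hr hrd => ?_
    refine (C.hsmall M hM h2 r hr (hrd.trans (card_dvd_of_le hCM))).resolve_left fun e => ?_
    subst e
    obtain ⟨w, hw⟩ := exists_prime_orderOf_dvd_card' 2 hrd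
    have hw2 : (w : G) * w = 1 := by
      rw [← sq, ← hw, ← Subgroup.orderOf_coe, pow_orderOf_eq_one]
    have hw1 := hno w hw2 (mem_centralizer_singleton_iff.1 w.2 : (w : G) * x = x * w).symm
    rw [← Subgroup.orderOf_coe, hw1, orderOf_one] at hw
    norm_num at hw
  refine ⟨hC, fun P hxP => ?_⟩
  exact (P.3 hC fun a ha => mem_centralizer_singleton_iff.2 (C.comm_sylow_p P.2 ha hxP).eq).symm

omit C in
omit [Finite G] [Fact p.Prime] in
theorem exists_maximalPred {α : Type*} [Finite α] (s : Set α) (f : α → ℕ) (hs : s.Nonempty) :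
    ∃ a ∈ s, ∀ b ∈ s, f b ≤ f a :=
  s.exists_max_image f (Set.toFinite s) hs

/-- Some Sylow subgroup is centralized by a nontrivial `p`-element: impossible. -/
theorem Crit.caseA {S₀ : Sylow 2 G} {y₀ : G} (hy₀ : IsPGroup p (zpowers y₀)) (hy₀1 : y₀ ≠ 1)
    (hy₀S : ∀ h ∈ (S₀ : Subgroup G), Commute y₀ h) : False := by
  have hevery : ∀ S : Sylow 2 G, ∃ y : G, IsPGroup p (zpowers y) ∧ y ≠ 1 ∧
      ∀ h ∈ (S : Subgroup G), Commute y h := by
    intro S
    obtain ⟨g, hg⟩ := C.sylow_conj (S := S₀) (S' := S)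
    refine ⟨g * y₀ * g⁻¹, pgroup_zpowers_conj hy₀ g, fun e => hy₀1 (conj_eq_one_iff.1 e), fun h hh => ?_⟩
    have h1 : g⁻¹ * h * g ∈ (S₀ : Subgroup G) := by
      rw [hg]; simpa [mul_assoc] using hh
    have := conj_commute g (hy₀S _ h1)
    simpa [mul_assoc] using this
  -- centralizers of such elements normalize the Sylow subgroup
  have hcen : ∀ (S : Sylow 2 G) (y : G), IsPGroup p (zpowers y) → y ≠ 1 →
      (∀ h ∈ (S : Subgroup G), Commute y h) → centralizer ({y} : Set G) ≤ normalizer ((S : Subgroup G) : Set G) := by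
    intro S y hy hy1 hyS
    obtain ⟨n, hn, hnp, htr⟩ := C.htrans S
    set N := normalizer ((S : Subgroup G) : Set G)
    have hyN : y ∈ N := centralizer_le_normalizer _ (mem_centralizer_iff.2 fun a ha => (hyS a ha).symm.eq)
    obtain ⟨P₁, hP₁⟩ := (hy.comap_of_injective N.subtype N.subtype_injective).exists_le_sylow
    obtain ⟨P₂, hP₂⟩ := (hnp.comap_of_injective N.subtype N.subtype_injective).exists_le_sylow
    obtain ⟨d, hd⟩ := MulAction.exists_smul_eq N P₂ P₁
    have hn₁ : d * ⟨n, hn⟩ * d⁻¹ ∈ (P₁ : Subgroup N) := by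
      rw [← hd, Sylow.coe_subgroup_smul]
      exact smul_mem_pointwise_smul _ _ _ (hP₂ (show (⟨n, hn⟩ : N) ∈ (zpowers n).comap N.subtype from mem_zpowers n))
    have hy₁ : (⟨y, hyN⟩ : N) ∈ (P₁ : Subgroup N) :=
      hP₁ (show (⟨y, hyN⟩ : N) ∈ (zpowers y).comap N.subtype from mem_zpowers y)
    have hcomm : Commute y ((d : G) * n * (d : G)⁻¹) :=
      C.comm_sylow_p (P₁.2.map N.subtype) ⟨_, hy₁, rfl⟩ ⟨_, hn₁, rfl⟩
    refine C.le_normalizer_sylow S (C.centralizer_pel_ne_top hy hy1)
      (fun a ha => mem_centralizer_singleton_iff.2 (hyS a ha).symm.eq)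
      (n := (d : G) * n * (d : G)⁻¹) (mem_centralizer_singleton_iff.2 hcomm.symm.eq)
      (N.mul_mem (N.mul_mem d.2 hn) (N.inv_mem d.2)) (pgroup_zpowers_conj hnp _) ?_
    intro h hh hh1 h' hh' hh'1
    have hd' := mem_normalizer_iff''.1 d.2
    obtain ⟨c, hc, e⟩ := htr ((d : G)⁻¹ * h * d) ((hd' h).1 hh)
      (fun e => hh1 (by
        have : (d : G) * ((d : G)⁻¹ * h * d) * (d : G)⁻¹ = 1 := by rw [e, mul_one, mul_inv_cancel]
        simpa [mul_assoc] using this))
      ((d : G)⁻¹ * h' * d) ((hd' h').1 hh')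
      (fun e => hh'1 (by
        have : (d : G) * ((d : G)⁻¹ * h' * d) * (d : G)⁻¹ = 1 := by rw [e, mul_one, mul_inv_cancel]
        simpa [mul_assoc] using this))
    obtain ⟨i, rfl⟩ := mem_zpowers_iff.1 hc
    refine ⟨(d : G) * n ^ i * (d : G)⁻¹, ⟨i, conj_zpow⟩, ?_⟩
    calc (d : G) * n ^ i * (d : G)⁻¹ * h * ((d : G) * n ^ i * (d : G)⁻¹)⁻¹
        = (d : G) * (n ^ i * ((d : G)⁻¹ * h * d) * (n ^ i)⁻¹) * (d : G)⁻¹ := by group
      _ = h' := by rw [e]; group
  -- elements commuting with an involution of `S` centralize `S`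
  have hA2 : ∀ (S : Sylow 2 G) (t : G), t ∈ (S : Subgroup G) → t ≠ 1 → ∀ x : G, IsPGroup p (zpowers x) →
      Commute x t → ∀ h ∈ (S : Subgroup G), Commute x h := by
    intro S t ht ht1 x hx hxt h hh
    obtain ⟨y, hy, hy1, hyS⟩ := hevery S
    obtain ⟨K, hK, -, -, hKm⟩ := C.involution_core (C.hsq S t ht) ht1
    have hxy : Commute x y := C.comm_sylow_p hK (hKm x hxt hx) (hKm y (hyS t ht) hy)
    exact C.fix_one S hx (hcen S y hy hy1 hyS (mem_centralizer_singleton_iff.2 hxy.eq)) ht ht1 hxt hh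
  have hA3 : ∀ (S : Sylow 2 G), ∀ t ∈ (S : Subgroup G), t ≠ 1 → ∀ s : G, s * s = 1 → Commute s t →
      s ∈ (S : Subgroup G) := by
    intro S t ht ht1 s hs hst
    obtain ⟨y, hy, hy1, hyS⟩ := hevery S
    have hsup : IsPGroup 2 (zpowers t ⊔ zpowers s : Subgroup G) := by
      refine (two_group_zpowers (C.hsq S t ht)).to_sup_of_normal_left' (two_group_zpowers hs) (zpowers_le.2 ?_)
      refine centralizer_le_normalizer _ (mem_centralizer_iff.2 fun a ha => ?_)
      obtain ⟨i, rfl⟩ := mem_zpowers_iff.1 ha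
      exact (hst.symm.zpow_left i).eq
    obtain ⟨S', hS'⟩ := C.exists_sylow hsup
    have hsS' : s ∈ (S' : Subgroup G) := hS' (mem_sup_right (mem_zpowers s))
    have hyS' := hA2 S' t (hS' (mem_sup_left (mem_zpowers t))) ht1 y hy (hyS t ht)
    exact C.sylow_unique S (le_refl _) S'.2
      (fun a ha => hcen S y hy hy1 hyS (mem_centralizer_singleton_iff.2 (hyS' a ha).symm.eq)) hsS'
  obtain ⟨S⟩ : Nonempty (Sylow 2 G) := inferInstance
  obtain ⟨t, htS, ht1⟩ := C.exists_involution S
  have ht := C.hsq S t htS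
  obtain ⟨s, hs, hne⟩ := C.exists_noncommuting hA3 S htS ht1
  obtain ⟨⟨hinv, hx2⟩, hcase⟩ := C.dihedral hs ht hne
  have hxts : t * (t * s) = s := by rw [← mul_assoc, ht, one_mul]
  set x := t * s with hx
  rcases hcase with ⟨⟨k, hw, hw1⟩, -⟩ | hxp
  · -- a common involution
    have hwt : Commute (x ^ k) t := by
      have h1 : t * x ^ k * t⁻¹ = x ^ k := by rw [← conj_pow, hinv, inv_pow, inv_of_sq hw]
      exact (conj_eq_iff_commute.1 h1).symm
    have hws : Commute (x ^ k) s := hxts ▸ hwt.mul_right (Commute.pow_self x k)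
    have hwS := hA3 S t htS ht1 _ hw hwt
    exact hne (C.comm_sylow S (hA3 S _ hwS hw1 s hs hws.symm) htS)
  · have hx1 : x ≠ 1 := fun e => hx2 (by rw [e, mul_one])
    have hno : ∀ w, w * w = 1 → Commute x w → w = 1 := by
      intro w hw hxw
      by_contra hw1
      obtain ⟨S', hS'⟩ := C.exists_sylow_mem hw
      have hxS := hA2 S' w hS' hw1 x hxp hxw
      have hle := hcen S' x hxp hx1 hxS
      have htN : t ∈ normalizer ((S' : Subgroup G) : Set G) := by
        rw [mem_normalizer_iff]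
        have key : ∀ a ∈ (S' : Subgroup G), t * a * t⁻¹ ∈ (S' : Subgroup G) := by
          intro a ha
          have h1 : Commute x (t * a * t⁻¹) := commute_conj_inv ht hinv (hxS a ha)
          have h2 : t * a * t⁻¹ * (t * a * t⁻¹) = 1 := by
            rw [show t * a * t⁻¹ * (t * a * t⁻¹) = t * (a * a) * t⁻¹ by group, C.hsq S' a ha, mul_one, mul_inv_cancel]
          exact C.mem_of_normalizes S' h2 (hle (mem_centralizer_singleton_iff.2 h1.symm.eq))
        refine fun a => ⟨key a, fun h => ?_⟩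
        have := key _ h
        rwa [show t * (t * a * t⁻¹) * t⁻¹ = (t * t) * a * (t * t)⁻¹ by group, ht, one_mul, inv_one, mul_one] at this
      exact hx2 (sq_ne_of_inv hinv (hxS t (C.mem_of_normalizes S' ht htN)).symm)
    obtain ⟨hC, hPC⟩ := C.odd_centralizer ht ht1 hinv hxp hx1 hno
    obtain ⟨P, hP⟩ := hxp.exists_le_sylow
    have hP' := hPC P (hP (mem_zpowers x))
    obtain ⟨y, hy, hy1, hyS⟩ := hevery S
    obtain ⟨P₀, hP₀⟩ := hy.exists_le_sylow
    obtain ⟨g, hg⟩ := MulAction.exists_smul_eq G P₀ P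
    set y' := g * y * g⁻¹
    have hy'P : y' ∈ (P : Subgroup G) := by
      rw [← hg, Sylow.coe_subgroup_smul]
      exact smul_mem_pointwise_smul _ (MulAut.conj g) _ (hP₀ (mem_zpowers y))
    obtain ⟨S', hS'⟩ : ∃ S' : Sylow 2 G, ∀ h ∈ (S' : Subgroup G), Commute y' h := by
      refine ⟨g • S, fun h hh => ?_⟩
      rw [Sylow.coe_subgroup_smul] at hh
      obtain ⟨a, ha, rfl⟩ := hh
      exact conj_commute g (hyS a ha)
    have hy'1 : y' ≠ 1 := fun e => hy1 (conj_eq_one_iff.1 e)
    have hy'p := pgroup_zpowers_conj hy g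
    have hcxy : Commute x y' := (C.comm_sylow_p P.2 hy'P (hP (mem_zpowers x))).symm
    have hty' : t * y' * t⁻¹ ∈ (P : Subgroup G) := by
      rw [hP', mem_centralizer_singleton_iff]
      exact (commute_conj_inv ht hinv hcxy).symm.eq
    set z := y' * (t * y' * t⁻¹) with hz
    have hzP : z ∈ (P : Subgroup G) := (P : Subgroup G).mul_mem hy'P hty'
    have hzt : Commute z t := by
      refine (conj_eq_iff_commute.1 ?_).symm
      calc t * z * t⁻¹ = (t * y' * t⁻¹) * ((t * t) * y' * (t * t)⁻¹) := by rw [hz]; group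
        _ = (t * y' * t⁻¹) * y' := by rw [ht, one_mul, inv_one, mul_one]
        _ = z := (C.comm_sylow_p P.2 hty' hy'P).eq
    by_cases hz1 : z = 1
    · have hinv' : t * y' * t⁻¹ = y'⁻¹ := (inv_eq_of_mul_eq_one_right hz1).symm
      have hle := hcen S' y' hy'p hy'1 hS'
      have htN : t ∈ normalizer ((S' : Subgroup G) : Set G) := by
        rw [mem_normalizer_iff]
        have key : ∀ a ∈ (S' : Subgroup G), t * a * t⁻¹ ∈ (S' : Subgroup G) := by
          intro a ha
          have h1 : Commute y' (t * a * t⁻¹) := commute_conj_inv ht hinv' (hS' a ha)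
          have h2 : t * a * t⁻¹ * (t * a * t⁻¹) = 1 := by
            rw [show t * a * t⁻¹ * (t * a * t⁻¹) = t * (a * a) * t⁻¹ by group, C.hsq S' a ha, mul_one, mul_inv_cancel]
          exact C.mem_of_normalizes S' h2 (hle (mem_centralizer_singleton_iff.2 h1.symm.eq))
        refine fun a => ⟨key a, fun h => ?_⟩
        have := key _ h
        rwa [show t * (t * a * t⁻¹) * t⁻¹ = (t * t) * a * (t * t)⁻¹ by group, ht, one_mul, inv_one, mul_one] at this
      exact hy'1 (eq_one_of_sq C.hpodd hy'p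
        (sq_ne_of_inv hinv' (hS' t (C.mem_of_normalizes S' ht htN)).symm))
    · have hzS := hA2 S t htS ht1 z (pgroup_of_mem P.2 hzP) hzt
      have hxN : x ∈ normalizer ((S : Subgroup G) : Set G) :=
        hcen S z (pgroup_of_mem P.2 hzP) hz1 hzS
          (mem_centralizer_singleton_iff.2 (C.comm_sylow_p P.2 (hP (mem_zpowers x)) hzP).eq)
      have h1 : x * t * x⁻¹ * t ∈ (S : Subgroup G) :=
        (S : Subgroup G).mul_mem ((mem_normalizer_iff.1 hxN t).1 htS) htS
      have h2 : x * t * x⁻¹ * t = x * x := by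
        calc x * t * x⁻¹ * t = x * (t * (t * x * t⁻¹) * t) := by rw [hinv]; group
          _ = x * ((t * t) * x * (t⁻¹ * t)) := by group
          _ = x * x := by rw [ht, inv_mul_cancel, one_mul, mul_one]
      rw [h2] at h1
      have h3 := C.hsq S _ h1
      have hxx : IsPGroup p (zpowers (x * x)) :=
        hxp.to_le (zpowers_le.2 (mul_mem (mem_zpowers x) (mem_zpowers x)))
      exact hx2 (eq_one_of_sq C.hpodd hxx h3)

/-- Elements centralized by no full Sylow subgroup lie in a unique Sylow `p`-subgroup. -/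
theorem Crit.sylow_p_unique (hB : ∀ (S : Sylow 2 G) (y : G), IsPGroup p (zpowers y) →
      (∀ h ∈ (S : Subgroup G), Commute y h) → y = 1) {y w : G} (hy : IsPGroup p (zpowers y)) (hy1 : y ≠ 1)
    (hw : w * w = 1) (hw1 : w ≠ 1) (hyw : Commute y w) :
    ∃ P : Sylow p G, y ∈ (P : Subgroup G) ∧ (∀ P' : Sylow p G, y ∈ (P' : Subgroup G) → P' = P) ∧
      ∀ x : G, Commute x y → IsPGroup p (zpowers x) → x ∈ (P : Subgroup G) := by
  have hwC : w ∈ centralizer ({y} : Set G) := mem_centralizer_singleton_iff.2 hyw.symm.eq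
  obtain ⟨K, hK, -, -, hKm⟩ := C.hasComplement (C.centralizer_pel_ne_top hy hy1)
    (orderOf_involution hw hw1 ▸ Subgroup.orderOf_dvd_natCard _ hwC)
    (fun S hS x hx hxN hxp h hh => by
      exact absurd (hB S y hy fun a ha => (mem_centralizer_singleton_iff.1 (hS ha) : a * y = y * a).symm) hy1)
  have hKm' : ∀ x : G, Commute x y → IsPGroup p (zpowers x) → x ∈ K := fun x hx hxp =>
    hKm x (mem_centralizer_singleton_iff.2 hx.eq) hxp
  obtain ⟨P, hP⟩ := hy.exists_le_sylow
  have hle : ∀ P' : Sylow p G, y ∈ (P' : Subgroup G) → (P' : Subgroup G) = K := fun P' hy' =>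
    (P'.3 hK fun a ha => hKm' a (C.comm_sylow_p P'.2 ha hy') (pgroup_of_mem P'.2 ha)).symm
  refine ⟨P, hP (mem_zpowers y), fun P' hy' => Sylow.ext ((hle P' hy').trans (hle P (hP (mem_zpowers y))).symm), ?_⟩
  intro x hx hxp
  rw [hle P (hP (mem_zpowers y))]
  exact hKm' x hx hxp

/-- No involution is centralized by a nontrivial `p`-element: impossible. -/
theorem Crit.caseB1 (hB1 : ∀ t y : G, t * t = 1 → t ≠ 1 → IsPGroup p (zpowers y) → Commute y t → y = 1) :
    False := by
  classical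
  have := Fintype.ofFinite G
  have hCt : ∀ (S : Sylow 2 G), ∀ t ∈ (S : Subgroup G), t ≠ 1 →
      centralizer ({t} : Set G) = (S : Subgroup G) := by
    intro S t ht ht1
    have hle := C.mem_centralizer_sylow S ht
    have hM := C.centralizer_involution_ne_top (C.hsq S t ht) ht1
    have h2 : 2 ∣ Nat.card (centralizer ({t} : Set G)) := (C.two_dvd_sylow S).trans (card_dvd_of_le hle)
    refine (S.3 ?_ hle)
    refine IsPGroup.of_card (n := (Nat.card (centralizer ({t} : Set G))).primeFactorsList.length) ?_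
    refine Nat.eq_prime_pow_of_unique_prime_dvd Nat.card_pos.ne' fun {r} hr hrd => ?_
    refine (C.hsmall _ hM h2 r hr hrd).resolve_right fun e => ?_
    subst e
    obtain ⟨y, hy⟩ := exists_prime_orderOf_dvd_card' r hrd
    rw [← Subgroup.orderOf_coe] at hy
    have := hB1 t y (C.hsq S t ht) ht1 (IsPGroup.of_card (n := 1) (by rw [Nat.card_zpowers, hy, pow_one]))
      (mem_centralizer_singleton_iff.1 y.2 : (y : G) * t = t * y)
    rw [this, orderOf_one] at hy
    exact hr.ne_one hy.symm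
  have hA3 : ∀ (S : Sylow 2 G), ∀ t ∈ (S : Subgroup G), t ≠ 1 → ∀ s : G, s * s = 1 → Commute s t →
      s ∈ (S : Subgroup G) := fun S t ht ht1 s _ hst => by
    rw [← hCt S t ht ht1, mem_centralizer_singleton_iff]; exact hst.eq
  -- structure of the dihedral configurations
  have hpair : ∀ s t : G, s * s = 1 → t * t = 1 → t ≠ 1 → ¬ Commute s t →
      ∃ P : Sylow p G, t * s ∈ (P : Subgroup G) ∧ t * s ≠ 1 ∧ t ∈ normalizer ((P : Subgroup G) : Set G) ∧
        ∀ P' : Sylow p G, t * s ∈ (P' : Subgroup G) → P' = P := by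
    intro s t hs ht ht1 hne
    obtain ⟨⟨hinv, hx2⟩, hcase⟩ := C.dihedral hs ht hne
    have hxts : t * (t * s) = s := by rw [← mul_assoc, ht, one_mul]
    set x := t * s
    rcases hcase with ⟨⟨k, hw, hw1⟩, -⟩ | hxp
    · exfalso
      have hwt : Commute (x ^ k) t := by
        have h1 : t * x ^ k * t⁻¹ = x ^ k := by rw [← conj_pow, hinv, inv_pow, inv_of_sq hw]
        exact (conj_eq_iff_commute.1 h1).symm
      have hws : Commute (x ^ k) s := hxts ▸ hwt.mul_right (Commute.pow_self x k)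
      obtain ⟨S, hS⟩ := C.exists_sylow_mem hw
      exact hne (C.comm_sylow S (hA3 S _ hS hw1 s hs hws.symm) (hA3 S _ hS hw1 t ht hwt.symm))
    · have hx1 : x ≠ 1 := fun e => hx2 (by rw [e, mul_one])
      obtain ⟨hC, hPC⟩ := C.odd_centralizer ht ht1 hinv hxp hx1 (fun w hw hxw => by
        by_contra hw1; exact hx1 (hB1 w x hw hw1 hxp hxw))
      obtain ⟨P, hP⟩ := hxp.exists_le_sylow
      refine ⟨P, hP (mem_zpowers x), hx1, ?_, fun P' hP' => Sylow.ext ((hPC P' hP').trans (hPC P (hP (mem_zpowers x))).symm)⟩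
      rw [mem_normalizer_iff]
      have key : ∀ a ∈ (P : Subgroup G), t * a * t⁻¹ ∈ (P : Subgroup G) := by
        intro a ha
        rw [hPC P (hP (mem_zpowers x)), mem_centralizer_singleton_iff]
        exact (commute_conj_inv ht hinv (C.comm_sylow_p P.2 (hP (mem_zpowers x)) ha)).symm.eq
      refine fun a => ⟨key a, fun h => ?_⟩
      have := key _ h
      rwa [show t * (t * a * t⁻¹) * t⁻¹ = (t * t) * a * (t * t)⁻¹ by group, ht, one_mul, inv_one, mul_one] at this
  -- involutions normalizing a Sylow subgroup invert it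
  have hinvert : ∀ (P : Sylow p G) (t : G), t * t = 1 → t ≠ 1 → t ∈ normalizer ((P : Subgroup G) : Set G) →
      ∀ a ∈ (P : Subgroup G), t * a * t⁻¹ = a⁻¹ := by
    intro P t ht ht1 htP a ha
    have hta := (mem_normalizer_iff.1 htP a).1 ha
    have hz : a * (t * a * t⁻¹) = 1 := by
      refine hB1 t _ ht ht1 (pgroup_of_mem P.2 ((P : Subgroup G).mul_mem ha hta)) (conj_eq_iff_commute.1 ?_).symm
      calc t * (a * (t * a * t⁻¹)) * t⁻¹ = (t * a * t⁻¹) * ((t * t) * a * (t * t)⁻¹) := by group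
        _ = (t * a * t⁻¹) * a := by rw [ht, one_mul, inv_one, mul_one]
        _ = a * (t * a * t⁻¹) := (C.comm_sylow_p P.2 hta ha).eq
    exact (inv_eq_of_mul_eq_one_right hz).symm
  obtain ⟨S⟩ : Nonempty (Sylow 2 G) := inferInstance
  obtain ⟨t₀, ht₀S, ht₀1⟩ := C.exists_involution S
  have ht₀ := C.hsq S t₀ ht₀S
  obtain ⟨s₀, hs₀, hne₀⟩ := C.exists_noncommuting hA3 S ht₀S ht₀1
  obtain ⟨P₀, hx₀, hx₀1, ht₀P, -⟩ := hpair s₀ t₀ hs₀ ht₀ ht₀1 hne₀
  have hPne : ∀ P : Sylow p G, ∃ a ∈ (P : Subgroup G), a ≠ 1 := fun P =>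
    (P : Subgroup G).bot_or_exists_ne_one.resolve_left (P.ne_bot_of_dvd_card C.hpG)
  have hodd : ∀ (P : Sylow p G), ∀ a ∈ (P : Subgroup G), a * a = 1 → a = 1 := fun P a ha h =>
    eq_one_of_sq C.hpodd (pgroup_of_mem P.2 ha) h
  set n := Nat.card (P₀ : Subgroup G) with hn
  have hPcard : ∀ P : Sylow p G, Nat.card (P : Subgroup G) = n := fun P => Nat.card_congr (P.equiv P₀).toEquiv
  let Inv := {s : G // s * s = 1 ∧ s ≠ 1}
  -- the involutions normalizing a given Sylow subgroup
  have hinvP : ∀ P : Sylow p G,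
      Nat.card {s : Inv // (s : G) ∈ normalizer ((P : Subgroup G) : Set G)} = n ∧
      Nat.card (normalizer ((P : Subgroup G) : Set G)) = 2 * n := by
    intro P
    obtain ⟨g, hg⟩ := MulAction.exists_smul_eq G P₀ P
    set t := g * t₀ * g⁻¹
    have ht : t * t = 1 := by rw [show t * t = g * (t₀ * t₀) * g⁻¹ by simp [t, mul_assoc], ht₀, mul_one, mul_inv_cancel]
    have ht1 : t ≠ 1 := fun e => ht₀1 (conj_eq_one_iff.1 e)
    have htP : t ∈ normalizer ((P : Subgroup G) : Set G) := by
      rw [mem_normalizer_iff]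
      intro a
      rw [← hg, Sylow.coe_subgroup_smul, mem_pointwise_smul_iff_inv_smul_mem, mem_pointwise_smul_iff_inv_smul_mem]
      simp only [MulAut.smul_def, MulAut.inv_def, MulAut.conj_symm_apply, t]
      rw [mem_normalizer_iff.1 ht₀P (g⁻¹ * a * g)]
      group
    set M := normalizer ((P : Subgroup G) : Set G)
    have hM : M ≠ ⊤ := C.hloc _ P.2 (P.ne_bot_of_dvd_card C.hpG)
    have h2 : 2 ∣ Nat.card M := orderOf_involution ht ht1 ▸ M.orderOf_dvd_natCard htP
    have hprod : ∀ s : G, s * s = 1 → s ≠ 1 → s ∈ M → t * s ∈ (P : Subgroup G) := by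
      intro s hs hs1 hsM
      have hc : ∀ a ∈ (P : Subgroup G), Commute (t * s) a := fun a ha => by
        refine conj_eq_iff_commute.1 ?_
        calc t * s * a * (t * s)⁻¹ = t * (s * a * s⁻¹) * t⁻¹ := by group
          _ = a := by
            rw [hinvert P s hs hs1 hsM a ha, hinvert P t ht ht1 htP _ ((P : Subgroup G).inv_mem ha), inv_inv]
      obtain ⟨a, ha, ha1⟩ := hPne P
      by_cases hcs : Commute s t
      · have h3 : t * s * (t * s) = 1 := by
          calc t * s * (t * s) = t * (s * t) * s := by group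
            _ = t * (t * s) * s := by rw [hcs.eq]
            _ = (t * t) * (s * s) := by group
            _ = 1 := by rw [ht, hs, mul_one]
        by_cases h4 : t * s = 1
        · rw [h4]; exact one_mem _
        · exact absurd (hB1 _ a h3 h4 (pgroup_of_mem P.2 ha) (hc a ha).symm) ha1
      · obtain ⟨-, hcase⟩ := C.dihedral hs ht hcs
        rcases hcase with ⟨⟨k, hw, hw1⟩, -⟩ | hxp
        · exact absurd (hB1 _ a hw hw1 (pgroup_of_mem P.2 ha) ((hc a ha).pow_left k).symm) ha1
        · have hsup : IsPGroup p (zpowers (t * s) ⊔ (P : Subgroup G) : Subgroup G) :=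
            hxp.to_sup_of_normal_right' P.2 (zpowers_le.2 (M.mul_mem htP hsM))
          exact P.3 hsup le_sup_right ▸ mem_sup_left (mem_zpowers _)
    have hPM : (P : Subgroup G) ≤ M := le_normalizer
    have hsinv : ∀ a ∈ (P : Subgroup G), t * a * (t * a) = 1 := fun a ha => by
      calc t * a * (t * a) = (t * a * t⁻¹) * ((t * t) * a) := by group
        _ = a⁻¹ * a := by rw [hinvert P t ht ht1 htP a ha, ht, one_mul]
        _ = 1 := inv_mul_cancel a
    have hne1 : ∀ a ∈ (P : Subgroup G), t * a ≠ 1 := fun a ha e => by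
      have h1 : t = a⁻¹ := eq_inv_of_mul_eq_one_left e
      exact ht1 (hodd P t (h1 ▸ (P : Subgroup G).inv_mem ha) ht)
    constructor
    · rw [← hPcard P]
      refine Nat.card_congr
        { toFun := fun s => ⟨t * s.1.1, hprod _ s.1.2.1 s.1.2.2 s.2⟩
          invFun := fun a => ⟨⟨t * a, hsinv a a.2, hne1 a a.2⟩, M.mul_mem htP (hPM a.2)⟩
          left_inv := fun s => Subtype.ext (Subtype.ext (by simp [← mul_assoc, ht]))
          right_inv := fun a => Subtype.ext (by simp [← mul_assoc, ht]) }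
    · have hcM : ∀ g ∈ M, ∃ a ∈ (P : Subgroup G), ∃ e : G, (e = 1 ∨ e = t) ∧ a * e = g := by
        intro g hg
        have hs : g * t * g⁻¹ * (g * t * g⁻¹) = 1 := by
          rw [show g * t * g⁻¹ * (g * t * g⁻¹) = g * (t * t) * g⁻¹ by group, ht, mul_one, mul_inv_cancel]
        have hb := hprod _ hs (fun e => ht1 (conj_eq_one_iff.1 e)) (M.mul_mem (M.mul_mem hg htP) (M.inv_mem hg))
        set b := t * (g * t * g⁻¹) with hb'
        obtain ⟨k, hk⟩ : ∃ k : ℕ, (b ^ k) * (b ^ k) = b := by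
          obtain ⟨i, hi⟩ := P.2.exists_card_eq
          have hdvd : orderOf b ∣ p ^ i := hi ▸ (P : Subgroup G).orderOf_dvd_natCard hb
          obtain ⟨l, hl⟩ := ((Fact.out : p.Prime).odd_of_ne_two C.hpodd).pow (n := i)
          refine ⟨l + 1, ?_⟩
          rw [← pow_add, show l + 1 + (l + 1) = p ^ i + 1 by omega, pow_succ, orderOf_dvd_iff_pow_eq_one.1 hdvd, one_mul]
        have hc : b ^ k ∈ (P : Subgroup G) := pow_mem hb k
        have hgt : g * t * g⁻¹ = t * b := by rw [hb', ← mul_assoc t t, ht, one_mul]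
        set g' := b ^ k * g
        have hg't : Commute g' t := by
          refine conj_eq_iff_commute.1 ?_
          calc g' * t * g'⁻¹ = b ^ k * (g * t * g⁻¹) * (b ^ k)⁻¹ := by simp [g', mul_assoc]
            _ = b ^ k * (t * b) * (b ^ k)⁻¹ := by rw [hgt]
            _ = t * (t⁻¹ * (b ^ k) * t) * b * (b ^ k)⁻¹ := by group
            _ = t * (b ^ k)⁻¹ * b * (b ^ k)⁻¹ := by
              have h' := hinvert P t ht ht1 htP _ hc
              rw [show t⁻¹ * (b ^ k) * t = t * (b ^ k) * t⁻¹ by rw [inv_of_sq ht], h']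
            _ = t * ((b ^ k)⁻¹ * (b ^ k * b ^ k) * (b ^ k)⁻¹) := by rw [hk]; group
            _ = t := by group
        obtain ⟨S', hS'⟩ := C.exists_sylow_mem ht
        have hg'S : g' ∈ (S' : Subgroup G) := by
          rw [← hCt S' t hS' ht1, mem_centralizer_singleton_iff]; exact hg't.eq
        refine ⟨(b ^ k)⁻¹, (P : Subgroup G).inv_mem hc, g', ?_, by simp [g', ← mul_assoc]⟩
        by_cases hg'1 : g' = 1
        · exact Or.inl hg'1
        · right
          have h5 := hprod g' (C.hsq S' g' hg'S) hg'1 (M.mul_mem (hPM hc) hg)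
          have h6 : t * g' = 1 := hodd P _ h5 (C.hsq S' _ ((S' : Subgroup G).mul_mem hS' hg'S))
          rw [← inv_eq_of_mul_eq_one_right h6, inv_of_sq ht]
      rw [← hPcard P, mul_comm, ← Nat.card_eq_fintype_card.trans (Fintype.card_bool), ← Nat.card_prod]
      refine (Nat.card_congr (Equiv.ofBijective (fun x : ↥(P : Subgroup G) × Bool =>
        (⟨(x.1 : G) * bif x.2 then t else 1, M.mul_mem (hPM x.1.2) (by cases x.2; exact M.one_mem; exact htP)⟩ : M))
          ⟨?_, ?_⟩)).symm
      · rintro ⟨a, e⟩ ⟨b, f⟩ h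
        have h' : (a : G) * (bif e then t else 1) = (b : G) * bif f then t else 1 := congrArg Subtype.val h
        have htP' : t ∉ (P : Subgroup G) := fun hm => ht1 (hodd P t hm ht)
        rcases e <;> rcases f <;> simp only [cond_true, cond_false, mul_one] at h'
        · exact congrArg (·, false) (Subtype.ext h')
        · exact absurd (show t ∈ (P : Subgroup G) by
            have := (P : Subgroup G).mul_mem ((P : Subgroup G).inv_mem b.2) a.2
            rwa [h', inv_mul_cancel_left] at this) htP'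
        · exact absurd (show t ∈ (P : Subgroup G) by
            have := (P : Subgroup G).mul_mem ((P : Subgroup G).inv_mem a.2) b.2
            rwa [← h', inv_mul_cancel_left] at this) htP'
        · exact congrArg (·, true) (Subtype.ext (mul_right_cancel h'))
      · rintro ⟨g, hg⟩
        obtain ⟨a, ha, e, he, rfl⟩ := hcM g hg
        rcases he with rfl | rfl
        · exact ⟨(⟨a, ha⟩, false), rfl⟩
        · exact ⟨(⟨a, ha⟩, true), rfl⟩
  -- counting
  let l := Nat.card {P : Sylow p G // t₀ ∈ normalizer ((P : Subgroup G) : Set G)}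
  have hl : ∀ t : Inv, Nat.card {P : Sylow p G // (t : G) ∈ normalizer ((P : Subgroup G) : Set G)} = l := by
    rintro ⟨t, ht, ht1⟩
    obtain ⟨g, hg⟩ := C.involution_conj ht₀ ht₀1 ht ht1
    refine (Nat.card_congr (Equiv.subtypeEquiv (MulAction.toPerm g) fun P => ?_)).symm
    show t₀ ∈ normalizer ((P : Subgroup G) : Set G) ↔ t ∈ normalizer (((g • P : Sylow p G) : Subgroup G) : Set G)
    rw [← hg, smul_sylow_iff.symm, smul_sylow_iff.symm, smul_smul,
      inv_mul_cancel_right, mul_smul, smul_left_cancel_iff]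
  have hdouble : Nat.card Inv * l = Nat.card (Sylow p G) * n := by
    have h1 : Nat.card ((t : Inv) × {P : Sylow p G // (t : G) ∈ normalizer ((P : Subgroup G) : Set G)}) =
        Nat.card ((P : Sylow p G) × {t : Inv // (t : G) ∈ normalizer ((P : Subgroup G) : Set G)}) :=
      Nat.card_congr
        { toFun := fun x => ⟨x.2.1, x.1, x.2.2⟩
          invFun := fun x => ⟨x.2.1, x.1, x.2.2⟩
          left_inv := fun x => rfl
          right_inv := fun x => rfl }
    rw [Nat.card_sigma, Nat.card_sigma, Finset.sum_congr rfl (fun t _ => hl t),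
      Finset.sum_congr rfl (fun P _ => (hinvP P).1), Finset.sum_const, Finset.sum_const, smul_eq_mul,
      smul_eq_mul, Finset.card_univ, Finset.card_univ, ← Nat.card_eq_fintype_card, ← Nat.card_eq_fintype_card] at h1
    exact h1
  have hgS : Nat.card G = Nat.card (Sylow p G) * (2 * n) := by
    rw [P₀.card_eq_index_normalizer, ← (hinvP P₀).2, mul_comm]
    exact (card_mul_index _).symm
  have hgI : Nat.card G = Nat.card Inv * (p + 1) := by
    have hC0 := hCt S t₀ ht₀S ht₀1
    have h1 : Nat.card Inv = (centralizer ({t₀} : Set G)).index := by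
      rw [centralizer_eq_comap_stabilizer]
      refine Eq.trans ?_ (index_comap_of_surjective (MulAction.stabilizer (ConjAct G) t₀)
        (f := (ConjAct.toConjAct : G ≃* ConjAct G).toMonoidHom) (ConjAct.toConjAct : G ≃* ConjAct G).surjective).symm
      rw [MulAction.index_stabilizer]
      rw [← Nat.card_coe_set_eq]
      refine Nat.card_congr (Equiv.subtypeEquivRight fun s => ⟨fun hs => ?_, ?_⟩)
      · obtain ⟨g, hg⟩ := C.involution_conj ht₀ ht₀1 hs.1 hs.2
        exact ⟨ConjAct.toConjAct g, hg⟩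
      · rintro ⟨g, rfl⟩
        show (ConjAct.ofConjAct g * t₀ * (ConjAct.ofConjAct g)⁻¹) * _ = 1 ∧ _
        refine ⟨?_, fun e => ht₀1 (conj_eq_one_iff.1 e)⟩
        show ConjAct.ofConjAct g * t₀ * (ConjAct.ofConjAct g)⁻¹ * (ConjAct.ofConjAct g * t₀ * (ConjAct.ofConjAct g)⁻¹) = 1
        rw [show ∀ a : G, a * t₀ * a⁻¹ * (a * t₀ * a⁻¹) = a * (t₀ * t₀) * a⁻¹ from fun a => by group, ht₀,
          mul_one, mul_inv_cancel]
    rw [h1, hC0, ← C.hcard S, mul_comm, card_mul_index]
  have hl2 : 2 * l = p + 1 := by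
    have hpos : 0 < Nat.card Inv := Nat.pos_of_ne_zero fun h0 => by
      rw [h0, zero_mul] at hgI; exact Nat.card_pos.ne' hgI
    refine Nat.eq_of_mul_eq_mul_left hpos ?_
    rw [← hgI, hgS, mul_left_comm, hdouble]; ring
  -- the decomposition of the involutions
  have hsplit : Nat.card Inv = Nat.card {s : Inv // Commute (s : G) t₀} + Nat.card {s : Inv // ¬ Commute (s : G) t₀} := by
    rw [← Nat.card_sum, Nat.card_congr (Equiv.sumCompl (fun s : Inv => Commute (s : G) t₀))]
  have hcomm : Nat.card {s : Inv // Commute (s : G) t₀} = p := by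
    have h1 : Nat.card {s : Inv // Commute (s : G) t₀} = Nat.card {a : (S : Subgroup G) // a ≠ 1} := Nat.card_congr
      { toFun := fun s => ⟨⟨s.1.1, hA3 S t₀ ht₀S ht₀1 s.1.1 s.1.2.1 s.2⟩, fun e => s.1.2.2 (congrArg Subtype.val e)⟩
        invFun := fun a => ⟨⟨a.1.1, C.hsq S _ a.1.2, fun e => a.2 (Subtype.ext e)⟩, C.comm_sylow S a.1.2 ht₀S⟩
        left_inv := fun s => rfl
        right_inv := fun a => rfl }
    rw [h1, Nat.card_eq_fintype_card, Fintype.card_subtype_compl, Fintype.card_subtype_eq,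
      ← Nat.card_eq_fintype_card, C.hcard S, Nat.add_sub_cancel]
  have hnc : Nat.card {s : Inv // ¬ Commute (s : G) t₀} = l * (n - 1) := by
    let f : ((P : {P : Sylow p G // t₀ ∈ normalizer ((P : Subgroup G) : Set G)}) ×
        {a : ((P : Sylow p G) : Subgroup G) // a ≠ 1}) → {s : Inv // ¬ Commute (s : G) t₀} := fun x =>
      ⟨⟨t₀ * (x.2.1 : G), by
          calc t₀ * (x.2.1 : G) * (t₀ * x.2.1) = (t₀ * x.2.1 * t₀⁻¹) * ((t₀ * t₀) * x.2.1) := by group
            _ = (x.2.1 : G)⁻¹ * x.2.1 := by rw [hinvert x.1.1 t₀ ht₀ ht₀1 x.1.2 _ x.2.1.2, ht₀, one_mul]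
            _ = 1 := inv_mul_cancel _,
          fun e => ht₀1 (hodd x.1.1 t₀ (Eq.subst (motive := fun z : G => z ∈ (x.1.1 : Subgroup G)) (eq_inv_of_mul_eq_one_left e).symm (inv_mem x.2.1.2)) ht₀)⟩,
        fun hc => x.2.2 (Subtype.ext (hodd x.1.1 _ x.2.1.2 (by
          have hc' : Commute t₀ (x.2.1 : G) := by
            have h1 := (Commute.refl t₀).mul_right hc.symm
            rwa [← mul_assoc, ht₀, one_mul] at h1
          exact sq_ne_of_inv (hinvert x.1.1 t₀ ht₀ ht₀1 x.1.2 _ x.2.1.2) hc')))⟩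
    have hf : Function.Bijective f := by
      constructor
      · rintro ⟨⟨P, hP⟩, ⟨a, ha⟩, ha1⟩ ⟨⟨P', hP'⟩, ⟨a', ha'⟩, ha'1⟩ h
        have he : a = a' := mul_left_cancel (congrArg (fun s : {s : Inv // ¬ Commute (s : G) t₀} => (s : G)) h)
        subst he
        have hs := (f ⟨⟨P, hP⟩, ⟨a, ha⟩, ha1⟩).1.2.1
        obtain ⟨P'', -, -, -, huniq⟩ := hpair (t₀ * a) t₀ hs ht₀ ht₀1 (f ⟨⟨P, hP⟩, ⟨a, ha⟩, ha1⟩).2
        have e : t₀ * (t₀ * a) = a := by rw [← mul_assoc, ht₀, one_mul]
        rw [e] at huniq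
        have hPP : P = P' := (huniq P ha).trans (huniq P' ha').symm
        subst hPP
        rfl
      · rintro ⟨⟨s, hs, hs1⟩, hne⟩
        obtain ⟨P, hxP, hx1, htP, -⟩ := hpair s t₀ hs ht₀ ht₀1 hne
        refine ⟨⟨⟨P, htP⟩, ⟨t₀ * s, hxP⟩, fun e => hx1 (congrArg Subtype.val e)⟩, ?_⟩
        refine Subtype.ext (Subtype.ext ?_)
        show t₀ * (t₀ * s) = s
        rw [← mul_assoc, ht₀, one_mul]
    rw [← Nat.card_congr (Equiv.ofBijective f hf), Nat.card_sigma,
      Finset.sum_congr rfl (fun P _ => show Nat.card {a : ((P.1 : Sylow p G) : Subgroup G) // a ≠ 1} = n - 1 by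
        rw [Nat.card_eq_fintype_card, Fintype.card_subtype_compl, Fintype.card_subtype_eq,
          ← Nat.card_eq_fintype_card, hPcard P.1]),
      Finset.sum_const, smul_eq_mul, Finset.card_univ, ← Nat.card_eq_fintype_card]
  -- conclusion
  have hp' : p.Prime := Fact.out
  have hpl : ¬ p ∣ l := fun h => by
    have h' : p ∣ p + 1 := hl2 ▸ h.mul_left 2
    exact hp'.ne_one (Nat.dvd_one.1 ((Nat.dvd_add_right dvd_rfl).1 h'))
  have hpn1 : ¬ p ∣ n - 1 := fun h => by
    have h1 : p ∣ n := P₀.dvd_card_of_dvd_card C.hpG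
    have h2 : 0 < n := Nat.card_pos
    have := Nat.dvd_sub h1 h
    rw [show n - (n - 1) = 1 by omega] at this
    exact hp'.ne_one (Nat.dvd_one.1 this)
  have hpI : p ∣ Nat.card Inv := by
    refine (hp'.dvd_mul.1 (hgI ▸ C.hpG)).resolve_right fun h => ?_
    exact hp'.ne_one (Nat.dvd_one.1 ((Nat.dvd_add_right dvd_rfl).1 h))
  rw [hsplit, hcomm, hnc, Nat.dvd_add_right dvd_rfl] at hpI
  exact (hp'.dvd_mul.1 hpI).elim hpl hpn1

/-- Some involution is centralized by a nontrivial `p`-element but no Sylow subgroup is: impossible. -/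
theorem Crit.caseB2 (hB : ∀ (S : Sylow 2 G) (y : G), IsPGroup p (zpowers y) →
      (∀ h ∈ (S : Subgroup G), Commute y h) → y = 1) {t₀ y₀ : G} (ht₀ : t₀ * t₀ = 1) (ht₀1 : t₀ ≠ 1)
    (hy₀ : IsPGroup p (zpowers y₀)) (hy₀1 : y₀ ≠ 1) (hy₀t : Commute y₀ t₀) : False := by
  classical
  have := Fintype.ofFinite G
  let Home : G → Sylow p G → Prop := fun t P =>
    ∃ y : G, y ≠ 1 ∧ Commute y t ∧ y ∈ (P : Subgroup G)
  have hhome : ∀ t : G, t * t = 1 → t ≠ 1 → ∃ P, Home t P ∧ (∀ P', Home t P' → P' = P) ∧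
      ∀ y, IsPGroup p (zpowers y) → Commute y t → y ∈ (P : Subgroup G) := by
    intro t ht ht1
    obtain ⟨g, hg⟩ := C.involution_conj ht₀ ht₀1 ht ht1
    set y := g * y₀ * g⁻¹
    have hy : IsPGroup p (zpowers y) := pgroup_zpowers_conj hy₀ g
    have hy1 : y ≠ 1 := fun e => hy₀1 (conj_eq_one_iff.1 e)
    have hyt : Commute y t := hg ▸ conj_commute g hy₀t
    obtain ⟨K, hK, -, -, hKm⟩ := C.involution_core ht ht1
    obtain ⟨P, hyP, huniq, hall⟩ := C.sylow_p_unique hB hy hy1 ht ht1 hyt
    have hPall : ∀ z, IsPGroup p (zpowers z) → Commute z t → z ∈ (P : Subgroup G) := fun z hz hzt =>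
      hall z (C.comm_sylow_p hK (hKm z hzt hz) (hKm y hyt hy)) hz
    refine ⟨P, ⟨y, hy1, hyt, hyP⟩, ?_, hPall⟩
    rintro P' ⟨z, hz1, hzt, hzP'⟩
    have hzp := pgroup_of_mem P'.2 hzP'
    obtain ⟨P'', -, huniq', -⟩ := C.sylow_p_unique hB hzp hz1 ht ht1 hzt
    exact (huniq' P' hzP').trans (huniq' P (hPall z hzp hzt)).symm
  have huniqH : ∀ t : G, t * t = 1 → t ≠ 1 → ∀ P P' : Sylow p G, Home t P → Home t P' → P = P' := by
    intro t ht ht1 P P' h h'
    obtain ⟨P₁, -, hu, -⟩ := hhome t ht ht1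
    exact (hu P h).trans (hu P' h').symm
  have hHconj : ∀ (g t : G) (P : Sylow p G), Home t P → Home (g * t * g⁻¹) (g • P) := by
    rintro g t P ⟨y, hy1, hyt, hyP⟩
    refine ⟨g * y * g⁻¹, fun e => hy1 (conj_eq_one_iff.1 e), conj_commute g hyt, ?_⟩
    rw [Sylow.coe_subgroup_smul]
    exact smul_mem_pointwise_smul _ (MulAut.conj g) _ hyP
  -- two involutions of a Sylow subgroup never share
  have hshare : ∀ (S : Sylow 2 G) (u v : G), u ∈ (S : Subgroup G) → v ∈ (S : Subgroup G) → u ≠ 1 → v ≠ 1 →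
      u ≠ v → ∀ P, Home u P → Home v P → False := by
    intro S u v hu hv hu1 hv1 huv P hPu hPv
    obtain ⟨n, hn, hnp, htr⟩ := C.htrans S
    obtain ⟨c, hc, hcv⟩ := htr u hu hu1 v hv hv1
    have hcfix : c • P = P := huniqH v (C.hsq S v hv) hv1 _ _ (hcv ▸ hHconj c u P hPu) hPv
    have hcN : c ∈ normalizer ((S : Subgroup G) : Set G) := zpowers_le.2 hn hc
    have hcp : IsPGroup p (zpowers c) := hnp.to_le (zpowers_le.2 hc)
    have hne : ¬ Commute c u := fun h => huv (by rw [← hcv, h.eq, mul_inv_cancel_right])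
    have htr2 : ∀ h ∈ (S : Subgroup G), h ≠ 1 → ∃ d ∈ zpowers c, d * u * d⁻¹ = h :=
      fun h hh hh1 => (moved hcN hcp hu hne).2 (C.hcard S) h hh hh1
    have hall : ∀ h ∈ (S : Subgroup G), h ≠ 1 → Home h P := by
      intro h hh hh1
      obtain ⟨d, hd, rfl⟩ := htr2 h hh hh1
      have hdfix : d • P = P :=
        (zpowers_le (H := MulAction.stabilizer G P)).2 hcfix hd
      have := hHconj d u P hPu
      rwa [hdfix] at this
    -- the Sylow subgroup normalizes `P`
    have hSP : (S : Subgroup G) ≤ normalizer ((P : Subgroup G) : Set G) := by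
      intro h hh
      rw [← smul_sylow_iff]
      have h1 : h * u * h⁻¹ = u := conj_eq_iff_commute.2 (C.comm_sylow S hh hu)
      exact huniqH u (C.hsq S u hu) hu1 _ _ (h1 ▸ hHconj h u P hPu) hPu
    have hcM : c ∈ normalizer ((P : Subgroup G) : Set G) := smul_sylow_iff.1 hcfix
    have hle := C.le_normalizer_sylow S (C.hloc _ P.2 (P.ne_bot_of_dvd_card C.hpG)) hSP hcM hcN hcp
      (fun h hh hh1 h' hh' hh'1 => by
        obtain ⟨d, hd, e⟩ := htr2 h hh hh1
        obtain ⟨d', hd', e'⟩ := htr2 h' hh' hh'1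
        refine ⟨d' * d⁻¹, mul_mem hd' (inv_mem hd), ?_⟩
        rw [← e, ← e']; group)
    obtain ⟨a, ha, ha1⟩ := (P : Subgroup G).bot_or_exists_ne_one.resolve_left (P.ne_bot_of_dvd_card C.hpG)
    refine ha1 (hB S a (pgroup_of_mem P.2 ha) fun h hh => ?_)
    have h1 : a * h * a⁻¹ ∈ (S : Subgroup G) := (mem_normalizer_iff.1 (hle (le_normalizer ha)) h).1 hh
    have h2 : a * h * a⁻¹ * h⁻¹ ∈ (P : Subgroup G) := by
      rw [show a * h * a⁻¹ * h⁻¹ = a * (h * a⁻¹ * h⁻¹) by group]
      exact (P : Subgroup G).mul_mem ha ((mem_normalizer_iff.1 (hSP hh) _).1 ((P : Subgroup G).inv_mem ha))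
    have h3 := eq_one_of_sq C.hpodd (pgroup_of_mem P.2 h2)
      (C.hsq S _ ((S : Subgroup G).mul_mem h1 ((S : Subgroup G).inv_mem hh)))
    exact conj_eq_iff_commute.1 (mul_inv_eq_one.1 h3)
  -- Sylow subgroups have order four
  have hfour : ∀ S : Sylow 2 G, Nat.card (S : Subgroup G) = 4 := by
    intro S
    obtain ⟨t, htS, ht1⟩ := C.exists_involution S
    have ht := C.hsq S t htS
    obtain ⟨K, hK, -, hKn, hKm⟩ := C.involution_core ht ht1
    obtain ⟨y₁, hy₁⟩ : ∃ y, y ∈ K ∧ y ≠ 1 ∧ Commute y t := by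
      obtain ⟨P, ⟨y, hy1, hyt, hyP⟩, -, -⟩ := hhome t ht ht1
      exact ⟨y, hKm y hyt (pgroup_of_mem P.2 hyP), hy1, hyt⟩
    let f : G → ℕ := fun y => Nat.card ↥((S : Subgroup G) ⊓ centralizer ({y} : Set G))
    obtain ⟨y, ⟨hyK, hy1, hyt⟩, hmax⟩ :=
      Set.exists_max_image {y | y ∈ K ∧ y ≠ 1 ∧ Commute y t} f (Set.toFinite _) ⟨y₁, hy₁⟩
    set B := (S : Subgroup G) ⊓ centralizer ({y} : Set G)
    have hyp := pgroup_of_mem hK hyK
    obtain ⟨s₁, hs₁, hs₁B⟩ : ∃ s ∈ (S : Subgroup G), ¬ Commute y s := by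
      by_contra hcon
      push Not at hcon
      exact hy1 (hB S y hyp hcon)
    have hinvB : ∀ s ∈ (S : Subgroup G), ¬ Commute y s → s * y * s⁻¹ = y⁻¹ := by
      intro s hs hns
      have hsy : s * y * s⁻¹ ∈ K :=
        (mem_normalizer_iff.1 (hKn (C.mem_centralizer_sylow S htS hs)) y).1 hyK
      by_contra hne
      set z := y * (s * y * s⁻¹) with hz
      have hzK : z ∈ K := K.mul_mem hyK hsy
      have hz1 : z ≠ 1 := fun e => hne (inv_eq_of_mul_eq_one_right e).symm
      have hsc : ∀ a ∈ (S : Subgroup G), Commute y a → Commute z a := fun a ha hya => by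
        refine hya.mul_left ?_
        have h1 : s * a * s⁻¹ = a := conj_eq_iff_commute.2 (C.comm_sylow S hs ha)
        have := conj_commute s hya
        rwa [h1] at this
      have hzs : Commute z s := by
        refine (conj_eq_iff_commute.1 ?_).symm
        calc s * z * s⁻¹ = (s * y * s⁻¹) * ((s * s) * y * (s * s)⁻¹) := by rw [hz]; group
          _ = (s * y * s⁻¹) * y := by rw [C.hsq S s hs, one_mul, inv_one, mul_one]
          _ = z := (C.comm_sylow_p hK hsy hyK).eq
      have hlt : B < (S : Subgroup G) ⊓ centralizer ({z} : Set G) := by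
        refine lt_of_le_of_ne (fun a ha => ⟨ha.1, mem_centralizer_singleton_iff.2
          (hsc a ha.1 (mem_centralizer_singleton_iff.1 ha.2 : a * y = y * a).symm).symm.eq⟩) fun e => ?_
        have : s ∈ B := e ▸ ⟨hs, mem_centralizer_singleton_iff.2 hzs.symm.eq⟩
        exact hns (mem_centralizer_singleton_iff.1 this.2 : s * y = y * s).symm
      have h5 := hmax z ⟨hzK, hz1, hsc t htS hyt⟩
      have h6 : Nat.card B < Nat.card ↥((S : Subgroup G) ⊓ centralizer ({z} : Set G)) := by
        refine lt_of_le_of_ne (card_le_of_le hlt.le) fun e => hlt.ne (eq_of_le_of_card_ge hlt.le e.ge)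
      exact absurd h5 (not_le.2 h6)
    -- `B = {1, t}`
    have hB2 : ∀ b ∈ B, b = 1 ∨ b = t := by
      intro b hb
      by_contra hcon
      push Not at hcon
      obtain ⟨P, hP⟩ := hyp.exists_le_sylow
      exact hshare S b t hb.1 htS hcon.1 ht1 hcon.2 P
        ⟨y, hy1, (mem_centralizer_singleton_iff.1 hb.2 : b * y = y * b).symm, hP (mem_zpowers y)⟩
        ⟨y, hy1, hyt, hP (mem_zpowers y)⟩
    have hsub : ((S : Subgroup G) : Set G) ⊆ ({1, t, s₁, s₁ * t} : Set G) := by
      intro s hs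
      by_cases hys : Commute y s
      · rcases hB2 s ⟨hs, mem_centralizer_singleton_iff.2 hys.symm.eq⟩ with rfl | rfl
        · exact Or.inl rfl
        · exact Or.inr (Or.inl rfl)
      · have hb : Commute y (s₁ * s) := by
          refine (conj_eq_iff_commute.1 ?_).symm
          calc s₁ * s * y * (s₁ * s)⁻¹ = s₁ * (s * y * s⁻¹) * s₁⁻¹ := by group
            _ = y := by rw [hinvB s hs hys, ← conj_inv, hinvB s₁ hs₁ hs₁B, inv_inv]
        have e : s = s₁ * (s₁ * s) := by rw [← mul_assoc, C.hsq S s₁ hs₁, one_mul]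
        rcases hB2 _ ⟨(S : Subgroup G).mul_mem hs₁ hs, mem_centralizer_singleton_iff.2 hb.symm.eq⟩ with h | h
        · rw [h, mul_one] at e; exact Or.inr (Or.inr (Or.inl e))
        · rw [h] at e; exact Or.inr (Or.inr (Or.inr e))
    have h4 := C.four_le S
    have h5 := Set.ncard_le_ncard hsub (Set.toFinite _)
    have h6 : ({1, t, s₁, s₁ * t} : Set G).ncard ≤ 4 := by
      refine (Set.ncard_insert_le _ _).trans ?_
      refine Nat.succ_le_succ ((Set.ncard_insert_le _ _).trans ?_)
      refine Nat.succ_le_succ ((Set.ncard_insert_le _ _).trans ?_)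
      rw [Set.ncard_singleton]
    rw [← Nat.card_coe_set_eq] at h5
    exact le_antisymm (h5.trans h6) h4
  -- every nontrivial element is centralized by at most one involution
  have honly : ∀ y w w' : G, IsPGroup p (zpowers y) → y ≠ 1 → w * w = 1 → w ≠ 1 → w' * w' = 1 → w' ≠ 1 →
      Commute y w → Commute y w' → w = w' := by
    intro y w w' hy hy1 hw hw1 hw' hw'1 hyw hyw'
    by_contra hne
    obtain ⟨P, hyP, -, hall⟩ := C.sylow_p_unique hB hy hy1 hw hw1 hyw
    have hHome : ∀ v : G, Commute y v → Home v P := fun v hv => ⟨y, hy1, hv, hyP⟩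
    have hsup : ∀ u v : G, u * u = 1 → v * v = 1 → Commute u v → ∃ S : Sylow 2 G,
        u ∈ (S : Subgroup G) ∧ v ∈ (S : Subgroup G) := by
      intro u v hu hv huv
      have h : IsPGroup 2 (zpowers u ⊔ zpowers v : Subgroup G) := by
        refine (two_group_zpowers hu).to_sup_of_normal_left' (two_group_zpowers hv) (zpowers_le.2 ?_)
        refine centralizer_le_normalizer _ (mem_centralizer_iff.2 fun a ha => ?_)
        obtain ⟨i, rfl⟩ := mem_zpowers_iff.1 ha
        exact (huv.zpow_left i).eq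
      obtain ⟨S, hS⟩ := C.exists_sylow h
      exact ⟨S, hS (mem_sup_left (mem_zpowers u)), hS (mem_sup_right (mem_zpowers v))⟩
    by_cases hc : Commute w' w
    · obtain ⟨S, h1, h2⟩ := hsup w w' hw hw' hc.symm
      exact hshare S w w' h1 h2 hw1 hw'1 hne P (hHome w hyw) (hHome w' hyw')
    · obtain ⟨⟨hinv, hx2⟩, hcase⟩ := C.dihedral hw' hw hc
      rcases hcase with ⟨⟨k, hk, hk1⟩, -⟩ | hxp
      · set x := w * w'
        have hwt : Commute (x ^ k) w := by
          have h1 : w * x ^ k * w⁻¹ = x ^ k := by rw [← conj_pow, hinv, inv_pow, inv_of_sq hk]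
          exact (conj_eq_iff_commute.1 h1).symm
        have hne' : x ^ k ≠ w := fun e => by
          have h1 : Commute x w := e ▸ Commute.self_pow x k
          exact hx2 (sq_ne_of_inv hinv h1.symm)
        obtain ⟨S, h1, h2⟩ := hsup (x ^ k) w hk hw hwt
        exact hshare S _ w h1 h2 hk1 hw1 hne' P (hHome _ ((hyw.mul_right hyw').pow_right k)) (hHome w hyw)
      · have hxP : w * w' ∈ (P : Subgroup G) := hall _ (hyw.mul_right hyw').symm hxp
        obtain ⟨P₁, ⟨y₁, hy₁1, hy₁w, hy₁P⟩, hu₁, hall₁⟩ := hhome w hw hw1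
        have hPP : P = P₁ := hu₁ P (hHome w hyw)
        -- `w` centralizes `P`
        have hwN : w ∈ normalizer ((P : Subgroup G) : Set G) := by
          rw [← smul_sylow_iff]
          have := hHconj w w P (hHome w hyw)
          rw [mul_inv_cancel_right] at this
          exact huniqH w hw hw1 _ _ this (hHome w hyw)
        obtain ⟨S, hwS⟩ := C.exists_sylow_mem hw
        obtain ⟨u, hu, hu1, huw⟩ : ∃ u ∈ (S : Subgroup G), u ≠ 1 ∧ u ≠ w := by
          by_contra hcon
          push Not at hcon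
          have h5 : ((S : Subgroup G) : Set G).ncard ≤ ({1, w} : Set G).ncard := Set.ncard_le_ncard
            (fun a ha => (eq_or_ne a 1).imp id fun h => hcon a ha h) (Set.toFinite _)
          rw [Set.ncard_pair (Ne.symm hw1), ← Nat.card_coe_set_eq] at h5
          have := C.four_le S
          exact absurd (this.trans h5) (by norm_num)
        have hSN : ∀ h ∈ (S : Subgroup G), h ∈ normalizer ((P : Subgroup G) : Set G) := fun h hh => by
          rw [← smul_sylow_iff]
          have := hHconj h w P (hHome w hyw)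
          rw [conj_eq_iff_commute.2 (C.comm_sylow S hh hwS)] at this
          exact huniqH w hw hw1 _ _ this (hHome w hyw)
        have hinvP : ∀ v ∈ (S : Subgroup G), v ≠ 1 → v ≠ w → ∀ a ∈ (P : Subgroup G), v * a * v⁻¹ = a⁻¹ := by
          intro v hv hv1 hvw a ha
          have hva := (mem_normalizer_iff.1 (hSN v hv) a).1 ha
          by_contra hne'
          have hz1 : a * (v * a * v⁻¹) ≠ 1 := fun e => hne' (inv_eq_of_mul_eq_one_right e).symm
          refine hshare S v w hv hwS hv1 hw1 hvw P ⟨_, hz1, ?_, (P : Subgroup G).mul_mem ha hva⟩ (hHome w hyw)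
          refine (conj_eq_iff_commute.1 ?_).symm
          calc v * (a * (v * a * v⁻¹)) * v⁻¹ = (v * a * v⁻¹) * ((v * v) * a * (v * v)⁻¹) := by group
            _ = (v * a * v⁻¹) * a := by rw [C.hsq S v hv, one_mul, inv_one, mul_one]
            _ = a * (v * a * v⁻¹) := (C.comm_sylow_p P.2 hva ha).eq
        have huw1 : u * w ≠ 1 := fun e => huw (by
          rw [eq_inv_of_mul_eq_one_left e, inv_of_sq hw])
        have huwS : u * w ∈ (S : Subgroup G) := (S : Subgroup G).mul_mem hu hwS
        have huww : u * w ≠ w := fun e => hu1 (mul_eq_right.1 e)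
        have hcw : Commute w (w * w') := by
          refine conj_eq_iff_commute.1 ?_
          have e1 := hinvP u hu hu1 huw
          calc w * (w * w') * w⁻¹ = (u * u) * w * (w * w') * ((u * u) * w)⁻¹ := by rw [C.hsq S u hu, one_mul]
            _ = u * ((u * w) * (w * w') * (u * w)⁻¹) * u⁻¹ := by group
            _ = u * (w * w')⁻¹ * u⁻¹ := by rw [hinvP (u * w) huwS huw1 huww _ hxP]
            _ = w * w' := by rw [e1 _ ((P : Subgroup G).inv_mem hxP), inv_inv]
        exact hx2 (sq_ne_of_inv hinv hcw)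
  -- every nontrivial element is centralized by an involution
  have hex : ∀ x : G, IsPGroup p (zpowers x) → x ≠ 1 → ∃ w, w * w = 1 ∧ w ≠ 1 ∧ Commute x w := by
    intro x hx hx1
    obtain ⟨P₁, hP₁⟩ := hx.exists_le_sylow
    obtain ⟨S, hS⟩ := C.exists_sylow_mem ht₀
    obtain ⟨P₂, h₂, hu₂, -⟩ := hhome t₀ ht₀ ht₀1
    obtain ⟨g, hg⟩ := MulAction.exists_smul_eq G P₂ P₁
    set w := g * t₀ * g⁻¹
    have hw : w * w = 1 := by rw [show w * w = g * (t₀ * t₀) * g⁻¹ by simp [w, mul_assoc], ht₀, mul_one, mul_inv_cancel]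
    have hw1 : w ≠ 1 := fun e => ht₀1 (conj_eq_one_iff.1 e)
    have hP₁' : Home w P₁ := hg ▸ hHconj g t₀ P₂ h₂
    -- the Sylow subgroup through `w`
    obtain ⟨S', hwS⟩ := C.exists_sylow_mem hw
    obtain ⟨u, hu, hu1, huw⟩ : ∃ u ∈ (S' : Subgroup G), u ≠ 1 ∧ u ≠ w := by
      by_contra hcon
      push Not at hcon
      have h5 : ((S' : Subgroup G) : Set G).ncard ≤ ({1, w} : Set G).ncard := Set.ncard_le_ncard
        (fun a ha => (eq_or_ne a 1).imp id fun h => hcon a ha h) (Set.toFinite _)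
      rw [Set.ncard_pair (Ne.symm hw1), ← Nat.card_coe_set_eq] at h5
      exact absurd ((C.four_le S').trans h5) (by norm_num)
    have hSN : ∀ h ∈ (S' : Subgroup G), h ∈ normalizer ((P₁ : Subgroup G) : Set G) := fun h hh => by
      rw [← smul_sylow_iff]
      have := hHconj h w P₁ hP₁'
      rw [conj_eq_iff_commute.2 (C.comm_sylow S' hh hwS)] at this
      exact huniqH w hw hw1 _ _ this hP₁'
    have hinvP : ∀ v ∈ (S' : Subgroup G), v ≠ 1 → v ≠ w → ∀ a ∈ (P₁ : Subgroup G), v * a * v⁻¹ = a⁻¹ := by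
      intro v hv hv1 hvw a ha
      have hva := (mem_normalizer_iff.1 (hSN v hv) a).1 ha
      by_contra hne'
      have hz1 : a * (v * a * v⁻¹) ≠ 1 := fun e => hne' (inv_eq_of_mul_eq_one_right e).symm
      refine hshare S' v w hv hwS hv1 hw1 hvw P₁ ⟨_, hz1, ?_, (P₁ : Subgroup G).mul_mem ha hva⟩ hP₁'
      refine (conj_eq_iff_commute.1 ?_).symm
      calc v * (a * (v * a * v⁻¹)) * v⁻¹ = (v * a * v⁻¹) * ((v * v) * a * (v * v)⁻¹) := by group
        _ = (v * a * v⁻¹) * a := by rw [C.hsq S' v hv, one_mul, inv_one, mul_one]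
        _ = a * (v * a * v⁻¹) := (C.comm_sylow_p P₁.2 hva ha).eq
    have huw1 : u * w ≠ 1 := fun e => huw (by rw [eq_inv_of_mul_eq_one_left e, inv_of_sq hw])
    have huwS : u * w ∈ (S' : Subgroup G) := (S' : Subgroup G).mul_mem hu hwS
    have huww : u * w ≠ w := fun e => hu1 (mul_eq_right.1 e)
    have hxP : x ∈ (P₁ : Subgroup G) := hP₁ (mem_zpowers x)
    refine ⟨w, hw, hw1, (conj_eq_iff_commute.1 ?_).symm⟩
    calc w * x * w⁻¹ = (u * u) * w * x * ((u * u) * w)⁻¹ := by rw [C.hsq S' u hu, one_mul]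
      _ = u * ((u * w) * x * (u * w)⁻¹) * u⁻¹ := by group
      _ = u * x⁻¹ * u⁻¹ := by rw [hinvP (u * w) huwS huw1 huww _ hxP]
      _ = x := by rw [hinvP u hu hu1 huw _ ((P₁ : Subgroup G).inv_mem hxP), inv_inv]
  -- the commuting graph
  let V := {s : G // s * s = 1 ∧ s ≠ 1}
  have : Fintype V := Fintype.ofFinite V
  have : Nonempty V := ⟨⟨t₀, ht₀, ht₀1⟩⟩
  let R : V → V → Prop := fun a b => a ≠ b ∧ Commute (a : G) b
  have hdeg : ∀ a : V, Nat.card {b // R a b} = Nat.card {b // R ⟨t₀, ht₀, ht₀1⟩ b} := by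
    rintro ⟨a, ha, ha1⟩
    obtain ⟨g, hg⟩ := C.involution_conj ht₀ ht₀1 ha ha1
    subst hg
    let e : V ≃ V :=
      { toFun := fun b => ⟨g * b * g⁻¹, by
          rw [show g * (b : G) * g⁻¹ * (g * b * g⁻¹) = g * (b * b) * g⁻¹ by group, b.2.1, mul_one, mul_inv_cancel],
          fun h => b.2.2 (conj_eq_one_iff.1 h)⟩
        invFun := fun b => ⟨g⁻¹ * b * g, by
          rw [show g⁻¹ * (b : G) * g * (g⁻¹ * b * g) = g⁻¹ * (b * b) * g by group, b.2.1, mul_one, inv_mul_cancel],
          fun h => b.2.2 (by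
            have : g * (g⁻¹ * (b : G) * g) * g⁻¹ = 1 := by rw [h, mul_one, mul_inv_cancel]
            simpa [mul_assoc] using this)⟩
        left_inv := fun b => Subtype.ext (by simp [mul_assoc])
        right_inv := fun b => Subtype.ext (by simp [mul_assoc]) }
    refine (Nat.card_congr (Equiv.subtypeEquiv e fun b => ?_)).symm
    simp only [R, ne_eq, Subtype.ext_iff, e, Equiv.coe_fn_mk]
    refine and_congr (not_congr ?_) ?_
    · exact ⟨fun h => by subst h; rfl, fun h => Subtype.ext (mul_left_cancel (mul_right_cancel (congrArg Subtype.val h)))⟩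
    · refine ⟨conj_commute g, fun h => ?_⟩
      have := conj_commute g⁻¹ h
      simpa [mul_assoc] using this
  have hfin4 : ∀ a b c : G, a * a = 1 → b * b = 1 → c * c = 1 → a ≠ 1 → b ≠ 1 → c ≠ 1 → a ≠ b →
      c ≠ a → c ≠ b → Commute a b → Commute a c → Commute b c → c = a * b := by
    intro a b c ha hb hc ha1 hb1 hc1 hab hca hcb hcab hcac hcbc
    have hsupab : IsPGroup 2 (zpowers a ⊔ zpowers b : Subgroup G) := by
      refine (two_group_zpowers ha).to_sup_of_normal_left' (two_group_zpowers hb) (zpowers_le.2 ?_)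
      refine centralizer_le_normalizer _ (mem_centralizer_iff.2 fun x hx => ?_)
      obtain ⟨i, rfl⟩ := mem_zpowers_iff.1 hx
      exact (hcab.zpow_left i).eq
    have hsup3 : IsPGroup 2 ((zpowers a ⊔ zpowers b) ⊔ zpowers c : Subgroup G) := by
      refine hsupab.to_sup_of_normal_left' (two_group_zpowers hc) (zpowers_le.2 ?_)
      refine centralizer_le_normalizer _ ?_
      rw [mem_centralizer_iff]
      intro x hx
      have hle : zpowers a ⊔ zpowers b ≤ centralizer ({c} : Set G) :=
        sup_le (zpowers_le.2 (mem_centralizer_singleton_iff.2 hcac.eq))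
          (zpowers_le.2 (mem_centralizer_singleton_iff.2 hcbc.eq))
      exact mem_centralizer_singleton_iff.1 (hle hx)
    obtain ⟨S, hS⟩ := C.exists_sylow hsup3
    have hsub : ({1, a, b, a * b} : Finset G) ⊆ Finset.univ.filter (fun x => x ∈ (S : Subgroup G)) := by
      have haS := hS (mem_sup_left (mem_sup_left (mem_zpowers a)))
      have hbS := hS (mem_sup_left (mem_sup_right (mem_zpowers b)))
      intro x hx
      simp only [Finset.mem_insert, Finset.mem_singleton] at hx
      simp only [Finset.mem_filter, Finset.mem_univ, true_and]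
      rcases hx with rfl | rfl | rfl | rfl
      exacts [one_mem _, haS, hbS, mul_mem haS hbS]
    have hab1 : a * b ≠ 1 := fun e => hab (by rw [eq_inv_of_mul_eq_one_left e, inv_of_sq hb])
    have hcard4 : ({1, a, b, a * b} : Finset G).card = 4 := by
      have e1 : a * b ≠ a := fun e => hb1 (mul_eq_left.1 e)
      have e2 : a * b ≠ b := fun e => ha1 (mul_eq_right.1 e)
      simp [Finset.card_insert_of_notMem, ha1.symm, hb1.symm, hab1.symm, hab, e1.symm, e2.symm]
    have heq := Finset.eq_of_subset_of_card_le hsub (by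
      rw [hcard4, ← Fintype.card_subtype, ← Nat.card_eq_fintype_card, hfour S])
    have hcS : c ∈ ({1, a, b, a * b} : Finset G) := by
      rw [heq]
      simp only [Finset.mem_filter, Finset.mem_univ, true_and]
      exact hS (mem_sup_right (mem_zpowers c))
    simp only [Finset.mem_insert, Finset.mem_singleton, hc1, hca, hcb, false_or] at hcS
    exact hcS
  refine no_regular_friendship R _ ?_ (fun a h => h.1 rfl) (fun a b h => ⟨h.1.symm, h.2.symm⟩) hdeg ?_
  · -- valency at least three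
    obtain ⟨S, hS⟩ := C.exists_sylow_mem ht₀
    obtain ⟨P, hH, -, -⟩ := hhome t₀ ht₀ ht₀1
    obtain ⟨y, hy1, hyt, hyP⟩ := hH
    obtain ⟨u, hu, hu1, hut⟩ : ∃ u ∈ (S : Subgroup G), u ≠ 1 ∧ u ≠ t₀ := by
      by_contra hcon
      push Not at hcon
      have h5 : ((S : Subgroup G) : Set G).ncard ≤ ({1, t₀} : Set G).ncard := Set.ncard_le_ncard
        (fun a ha => (eq_or_ne a 1).imp id fun h => hcon a ha h) (Set.toFinite _)
      rw [Set.ncard_pair (Ne.symm ht₀1), ← Nat.card_coe_set_eq] at h5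
      exact absurd ((C.four_le S).trans h5) (by norm_num)
    have hu2 := C.hsq S u hu
    have hut' : Commute u t₀ := C.comm_sylow S hu hS
    set v := u * t₀ with hv
    have hv2 : v * v = 1 := C.hsq S v ((S : Subgroup G).mul_mem hu hS)
    have hv1 : v ≠ 1 := fun e => hut (by rw [eq_inv_of_mul_eq_one_left e, inv_of_sq ht₀])
    set u' := y * u * y⁻¹ with hu'
    have hu'2 : u' * u' = 1 := by rw [show u' * u' = y * (u * u) * y⁻¹ by simp [u', mul_assoc], hu2, mul_one, mul_inv_cancel]
    have hu'1 : u' ≠ 1 := fun e => hu1 (conj_eq_one_iff.1 e)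
    have hyt' : y * t₀ * y⁻¹ = t₀ := conj_eq_iff_commute.2 hyt
    have hu't : Commute u' t₀ := hyt' ▸ conj_commute y hut'
    have hyp := pgroup_of_mem P.2 hyP
    have hnu : ¬ Commute y u := fun h => hut (honly y u t₀ hyp hy1 hu2 hu1 ht₀ ht₀1 h hyt)
    have hneu : u' ≠ u := fun e => hnu (conj_eq_iff_commute.1 e)
    have hnev : u' ≠ v := by
      intro e
      have h1 : y * v * y⁻¹ = u := by
        calc y * v * y⁻¹ = (y * u * y⁻¹) * (y * t₀ * y⁻¹) := by rw [hv]; group
          _ = v * t₀ := by rw [← hu', e, hyt']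
          _ = u := by rw [hv, mul_assoc, ht₀, mul_one]
      have h2 : Commute (y * y) u := by
        refine conj_eq_iff_commute.1 ?_
        calc y * y * u * (y * y)⁻¹ = y * (y * u * y⁻¹) * y⁻¹ := by group
          _ = u := by rw [← hu', e, h1]
      exact hut (honly (y * y) u t₀ (hyp.to_le (zpowers_le.2 (mul_mem (mem_zpowers y) (mem_zpowers y))))
        (fun h => hy1 (eq_one_of_sq C.hpodd hyp h)) hu2 hu1 ht₀ ht₀1 h2 (hyt.mul_left hyt))
    have hu't0 : u' ≠ t₀ := fun e => hut (mul_left_cancel (mul_right_cancel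
      (show y * u * y⁻¹ = y * t₀ * y⁻¹ by rw [hyt', ← hu', e])))
    let g : Fin 3 → {b // R ⟨t₀, ht₀, ht₀1⟩ b} :=
      ![⟨⟨u, hu2, hu1⟩, fun e => hut (congrArg Subtype.val e).symm, hut'.symm⟩,
        ⟨⟨v, hv2, hv1⟩, fun e => hu1 (mul_eq_right.1 (congrArg Subtype.val e).symm),
          ((hut'.mul_left (Commute.refl t₀))).symm⟩,
        ⟨⟨u', hu'2, hu'1⟩, fun e => hu't0 (congrArg Subtype.val e).symm, hu't.symm⟩]
    have hg : Function.Injective g := by
      have e1 : u ≠ v := fun e => ht₀1 (mul_eq_left.1 e.symm)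
      intro i j h
      have h' : ((g i).1.1 : G) = (g j).1.1 := by rw [h]
      clear h
      fin_cases i <;> fin_cases j <;> simp [g] at h' ⊢ <;>
        first
          | exact e1 h' | exact e1 h'.symm | exact hneu h' | exact hneu h'.symm
          | exact hnev h' | exact hnev h'.symm
    simpa using Nat.card_le_card_of_injective g hg
  · -- exactly one common neighbour
    rintro ⟨t, ht, ht1⟩ ⟨s, hs, hs1⟩ hne
    have hts : t ≠ s := fun e => hne (Subtype.ext e)
    by_cases hc : Commute s t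
    · have hw1 : t * s ≠ 1 := fun e => hts (by rw [eq_inv_of_mul_eq_one_left e, inv_of_sq hs])
      have hw2 : t * s * (t * s) = 1 := by
        calc t * s * (t * s) = t * (s * t) * s := by group
          _ = t * (t * s) * s := by rw [hc.eq]
          _ = (t * t) * (s * s) := by group
          _ = 1 := by rw [ht, hs, mul_one]
      refine ⟨⟨t * s, hw2, hw1⟩, ⟨⟨fun e => hs1 (mul_eq_left.1 (congrArg Subtype.val e).symm),
          (Commute.refl t).mul_right hc.symm⟩, fun e => ht1 (mul_eq_right.1 (congrArg Subtype.val e).symm),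
          hc.mul_right (Commute.refl s)⟩, ?_⟩
      rintro ⟨w, hw, hw'⟩ ⟨⟨h1, h2⟩, h3, h4⟩
      exact Subtype.ext (hfin4 t s w ht hs hw ht1 hs1 hw' hts (fun e => h1 (Subtype.ext e.symm))
        (fun e => h3 (Subtype.ext e.symm)) hc.symm h2 h4)
    · obtain ⟨⟨hinv, hx2⟩, hcase⟩ := C.dihedral hs ht hc
      have hxts : t * (t * s) = s := by rw [← mul_assoc, ht, one_mul]
      set x := t * s with hx
      -- a `p`-element `y` commuting with every common neighbour
      obtain ⟨y, hy, hy1, hyinv, hyc⟩ : ∃ y : G, IsPGroup p (zpowers y) ∧ y ≠ 1 ∧ t * y * t⁻¹ = y⁻¹ ∧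
          y ∈ zpowers x := by
        rcases hcase with ⟨-, h2⟩ | hxp
        · refine ⟨x ^ 2, ?_, by rw [sq]; exact hx2, by rw [← conj_pow, hinv, inv_pow], pow_mem (mem_zpowers x) 2⟩
          obtain ⟨m, hm⟩ := h2
          have ho : orderOf (x ^ 2) = m := by
            rw [orderOf_pow' x two_ne_zero, hm, Nat.gcd_mul_right_left, Nat.mul_div_cancel_left _ two_pos]
          refine IsPGroup.of_card (n := m.primeFactorsList.length) ?_
          rw [Nat.card_zpowers, ho]
          refine Nat.eq_prime_pow_of_unique_prime_dvd (fun h => by rw [h, mul_zero] at hm; exact (orderOf_pos x).ne' hm)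
            fun {r} hr hrm => ?_
          by_contra hrp
          obtain ⟨j, hj⟩ := hrm
          by_cases hr2 : r = 2
          · subst hr2
            have hjne : j ≠ 0 := fun h => by rw [hj, h] at hm; exact (orderOf_pos x).ne' (by simpa using hm)
            have h4 : orderOf (x ^ j) = 4 := by
              rw [orderOf_pow' x hjne, hm, hj, ← mul_assoc, Nat.gcd_mul_left_left,
                Nat.mul_div_cancel _ (Nat.pos_of_ne_zero hjne)]
              all_goals rfl
            have h4p : IsPGroup 2 (zpowers (x ^ j)) := IsPGroup.of_card (n := 2) (by rw [Nat.card_zpowers, h4]; norm_num)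
            obtain ⟨S, hS⟩ := C.exists_sylow h4p
            have h5 : orderOf (x ^ j) ∣ 2 := orderOf_dvd_of_pow_eq_one (by rw [sq]; exact C.hsq S _ (hS (mem_zpowers _)))
            rw [h4] at h5
            norm_num at h5
          · have hy' : orderOf (x ^ (2 * j)) = r := by
              rw [pow_mul, orderOf_pow' (x ^ 2) (fun h => by rw [hj, h, mul_zero, mul_zero] at hm; exact (orderOf_pos x).ne' hm), ho, hj,
                Nat.gcd_mul_left_left, Nat.mul_div_cancel _ (Nat.pos_of_ne_zero (fun h => by rw [hj, h, mul_zero, mul_zero] at hm; exact (orderOf_pos x).ne' hm))]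
            refine not_mixed C.hmix Fact.out Nat.prime_two C.hpG (A := zpowers (x ^ (2 * j))) (B := zpowers t) ?_
              ?_ ?_ (Or.inr (by rw [Nat.card_zpowers, orderOf_involution ht ht1])) hr hr2
              (Or.inl (by rw [Nat.card_zpowers, hy']))
            · rw [zpowers_le, mem_normalizer_iff]
              have key : ∀ a ∈ zpowers (x ^ (2 * j)), t * a * t⁻¹ ∈ zpowers (x ^ (2 * j)) := by
                intro a ha
                obtain ⟨i, rfl⟩ := mem_zpowers_iff.1 ha
                rw [← conj_zpow, ← conj_pow, hinv, inv_pow]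
                exact zpow_mem (inv_mem (mem_zpowers _)) i
              refine fun a => ⟨key a, fun h => ?_⟩
              have := key _ h
              rwa [show t * (t * a * t⁻¹) * t⁻¹ = (t * t) * a * (t * t)⁻¹ by group, ht, one_mul, inv_one, mul_one] at this
            · rw [Nat.card_zpowers, hy', Nat.prime_dvd_prime_iff_eq Fact.out hr]; exact Ne.symm hrp
            · rw [Nat.card_zpowers, orderOf_involution ht ht1, Nat.prime_dvd_prime_iff_eq Fact.out Nat.prime_two]
              exact C.hpodd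
        · exact ⟨x, hxp, fun e => hx2 (by rw [e, mul_one]), hinv, mem_zpowers x⟩
      obtain ⟨w, hw, hw1, hyw⟩ := hex y hy hy1
      have hy2 : ¬ Commute y t := fun h => hy1 (eq_one_of_sq C.hpodd hy (sq_ne_of_inv hyinv h.symm))
      have hwt : Commute w t := by
        have h1 : t * w * t⁻¹ = w := by
          refine honly y _ w hy hy1 ?_ ?_ hw hw1 (commute_conj_inv ht hyinv hyw) hyw
          · rw [show t * w * t⁻¹ * (t * w * t⁻¹) = t * (w * w) * t⁻¹ by group, hw, mul_one, mul_inv_cancel]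
          · exact fun e => hw1 (conj_eq_one_iff.1 e)
        exact (conj_eq_iff_commute.1 h1).symm
      have hwx : Commute w x := by
        have h1 : x * w * x⁻¹ = w := by
          refine honly y _ w hy hy1 ?_ ?_ hw hw1 ?_ hyw
          · rw [show x * w * x⁻¹ * (x * w * x⁻¹) = x * (w * w) * x⁻¹ by group, hw, mul_one, mul_inv_cancel]
          · exact fun e => hw1 (conj_eq_one_iff.1 e)
          · have h2 : x * y * x⁻¹ = y := by
              obtain ⟨i, rfl⟩ := mem_zpowers_iff.1 hyc
              exact conj_eq_iff_commute.2 (Commute.self_zpow x i)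
            have := conj_commute x hyw
            rwa [h2] at this
        exact (conj_eq_iff_commute.1 h1).symm
      have hws : Commute w s := hxts ▸ hwt.mul_right hwx
      have hwt' : w ≠ t := fun e => hy2 (e ▸ hyw)
      have hws' : w ≠ s := fun e => hc (e ▸ hwt)
      refine ⟨⟨w, hw, hw1⟩, ⟨⟨fun e => hwt' (congrArg Subtype.val e).symm, hwt.symm⟩,
        fun e => hws' (congrArg Subtype.val e).symm, hws.symm⟩, ?_⟩
      rintro ⟨w', hw', hw'1⟩ ⟨⟨-, h2⟩, -, h4⟩
      refine Subtype.ext (honly y w' w hy hy1 hw' hw'1 hw hw1 ?_ hyw)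
      obtain ⟨i, rfl⟩ := mem_zpowers_iff.1 hyc
      exact ((hx ▸ h2.mul_left h4) : Commute x w').zpow_left i

/-- The exceptional configuration does not occur. -/
theorem Crit.false : False := by
  by_cases hA : ∃ (S : Sylow 2 G) (y : G), IsPGroup p (zpowers y) ∧ y ≠ 1 ∧ ∀ h ∈ (S : Subgroup G), Commute y h
  · obtain ⟨S, y, hy, hy1, hyS⟩ := hA
    exact C.caseA hy hy1 hyS
  · have hB : ∀ (S : Sylow 2 G) (y : G), IsPGroup p (zpowers y) →
        (∀ h ∈ (S : Subgroup G), Commute y h) → y = 1 := fun S y hy hyS =>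
      by_contra fun hy1 => hA ⟨S, y, hy, hy1, hyS⟩
    by_cases hB1 : ∃ t y : G, t * t = 1 ∧ t ≠ 1 ∧ IsPGroup p (zpowers y) ∧ y ≠ 1 ∧ Commute y t
    · obtain ⟨t, y, ht, ht1, hy, hy1, hyt⟩ := hB1
      exact C.caseB2 hB ht ht1 hy hy1 hyt
    · exact C.caseB1 fun t y ht ht1 hy hyt => by_contra fun hy1 => hB1 ⟨t, y, ht, ht1, hy, hy1, hyt⟩

end Cfsg.Agent.H86.Mixed
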