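import Cfsg.Agent.H86.MixedBasic
import Cfsg.Agent.H86.FriendshipRegular

/-!
The exceptional configuration `p + 1 = |S|` for the mixed prime property: it does not occur.
-/

set_option autoImplicit false

namespace Cfsg.Agent.H86.Mixed

open Subgroup

universe u

variable {G : Type u} [Group G] [Finite G] {p : ℕ}

/-- The exceptional configuration. -/
structure Crit (G : Type u) [Group G] (p : ℕ) : Prop where
  hmix : MixedHyp G p 2
  hpodd : p ≠ 2
  hpG : p ∣ Nat.card G
  third : ∃ r : ℕ, r.Prime ∧ r ≠ 2 ∧ r ≠ p ∧ r ∣ Nat.card G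
  hab : ∀ P : Sylow p G, IsMulCommutative (P : Subgroup G)
  hcard : ∀ S : Sylow 2 G, Nat.card (S : Subgroup G) = p + 1
  hsq : ∀ S : Sylow 2 G, ∀ h ∈ (S : Subgroup G), h * h = 1
  htrans : ∀ S : Sylow 2 G, ∃ n ∈ normalizer ((S : Subgroup G) : Set G), IsPGroup p (zpowers n) ∧
    ∀ h ∈ (S : Subgroup G), h ≠ 1 → ∀ h' ∈ (S : Subgroup G), h' ≠ 1 → ∃ c ∈ zpowers n, c * h * c⁻¹ = h'
  hloc : ∀ V : Subgroup G, IsPGroup p V → V ≠ ⊥ → normalizer (V : Set G) ≠ ⊤
  hsmall : ∀ M : Subgroup G, M ≠ ⊤ → 2 ∣ Nat.card M → ∀ r : ℕ, r.Prime → r ∣ Nat.card M → r = 2 ∨ r = p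

omit [Finite G] in
theorem pgroup_zpowers_conj {x : G} (h : IsPGroup p (zpowers x)) (c : G) :
    IsPGroup p (zpowers (c * x * c⁻¹)) := by
  have := h.map (MulAut.conj c).toMonoidHom
  rwa [MonoidHom.map_zpowers] at this

omit [Finite G] in
theorem pgroup_of_mem {K : Subgroup G} (hK : IsPGroup p K) {x : G} (hx : x ∈ K) :
    IsPGroup p (zpowers x) := hK.to_le (zpowers_le.2 hx)

omit [Finite G] in
theorem two_group_zpowers {w : G} (h : w * w = 1) : IsPGroup 2 (zpowers w) := by
  rintro ⟨y, hy⟩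
  obtain ⟨i, rfl⟩ := mem_zpowers_iff.1 hy
  refine ⟨1, Subtype.ext ?_⟩
  rw [SubmonoidClass.coe_pow, pow_one, sq, ← (Commute.refl w).mul_zpow, h, one_zpow]
  rfl

omit [Finite G] in
theorem conj_eq_iff_commute {x t : G} : x * t * x⁻¹ = t ↔ Commute x t := mul_inv_eq_iff_eq_mul

omit [Finite G] in
theorem orderOf_involution {t : G} (ht : t * t = 1) (ht1 : t ≠ 1) : orderOf t = 2 :=
  orderOf_eq_prime (by rw [sq, ht]) ht1

omit [Finite G] in
theorem inv_of_sq {t : G} (ht : t * t = 1) : t⁻¹ = t := inv_eq_of_mul_eq_one_right ht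

variable [Fact p.Prime]

theorem eq_one_of_sq {x : G} (hp2 : p ≠ 2) (hx : IsPGroup p (zpowers x)) (h : x * x = 1) : x = 1 := by
  by_contra hne
  have h2 : 2 ∣ Nat.card (zpowers x) := by rw [Nat.card_zpowers, orderOf_involution h hne]
  exact hp2 (prime_dvd_pgroup_card Nat.prime_two Fact.out hx h2).symm

variable (C : Crit G p)

include C

theorem Crit.two_dvd_sylow (S : Sylow 2 G) : 2 ∣ Nat.card (S : Subgroup G) := by
  rw [C.hcard S]
  have := (Fact.out : p.Prime).odd_of_ne_two C.hpodd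
  obtain ⟨k, hk⟩ := this
  omega

theorem Crit.exists_sylow {H : Subgroup G} (h : IsPGroup 2 H) : ∃ S : Sylow 2 G, H ≤ S :=
  h.exists_le_sylow

theorem Crit.exists_sylow_mem {t : G} (ht : t * t = 1) : ∃ S : Sylow 2 G, t ∈ (S : Subgroup G) :=
  let ⟨S, hS⟩ := C.exists_sylow (two_group_zpowers ht)
  ⟨S, hS (mem_zpowers t)⟩

theorem Crit.comm_sylow (S : Sylow 2 G) {a b : G} (ha : a ∈ (S : Subgroup G)) (hb : b ∈ (S : Subgroup G)) :
    Commute a b := by
  have h := inv_of_sq (C.hsq S _ ((S : Subgroup G).mul_mem ha hb))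
  rw [mul_inv_rev, inv_of_sq (C.hsq S a ha), inv_of_sq (C.hsq S b hb)] at h
  exact h.symm

theorem Crit.sylow_unique {M : Subgroup G} (S : Sylow 2 G) (hM : M ≤ normalizer ((S : Subgroup G) : Set G))
    {H : Subgroup G} (hH : IsPGroup 2 H) (hHM : H ≤ M) : H ≤ S := by
  have h := S.3 (hH.to_sup_of_normal_right' S.2 (hHM.trans hM)) le_sup_right
  exact h ▸ le_sup_left

theorem Crit.mem_of_normalizes (S : Sylow 2 G) {t : G} (ht : t * t = 1)
    (hn : t ∈ normalizer ((S : Subgroup G) : Set G)) : t ∈ (S : Subgroup G) :=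
  C.sylow_unique S (zpowers_le.2 hn) (two_group_zpowers ht) le_rfl (mem_zpowers t)

theorem Crit.four_le (S : Sylow 2 G) : 4 ≤ Nat.card (S : Subgroup G) := by
  rw [C.hcard S]
  have := (Fact.out : p.Prime).two_le
  have := C.hpodd
  omega

/-- A subgroup normalizing an involution or a Sylow subgroup is proper. -/
theorem Crit.normalizer_two_ne_top {H : Subgroup G} (hH : IsPGroup 2 H) (hne : H ≠ ⊥) :
    normalizer (H : Set G) ≠ ⊤ := by
  intro h
  obtain ⟨r, hr, hr2, hrp, hrG⟩ := C.third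
  have := Fact.mk hr
  obtain ⟨y, hy⟩ := exists_prime_orderOf_dvd_card' r hrG
  have h2 : 2 ∣ Nat.card H := by
    obtain ⟨k, hk⟩ := hH.exists_card_eq
    rcases k with - | k
    · exact absurd (H.eq_bot_of_card_eq (by rw [hk, pow_zero])) hne
    · exact hk ▸ dvd_pow_self 2 (Nat.succ_ne_zero k)
  refine not_mixed C.hmix Fact.out Nat.prime_two C.hpG (A := H) (B := zpowers y) (h ▸ le_top)
    (fun hd => C.hpodd (prime_dvd_pgroup_card Fact.out Nat.prime_two hH hd)) ?_ (Or.inl h2) hr hr2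
    (Or.inr (by rw [Nat.card_zpowers, hy]))
  rw [Nat.card_zpowers, hy, Nat.prime_dvd_prime_iff_eq Fact.out hr]
  exact Ne.symm hrp

theorem Crit.centralizer_involution_ne_top {t : G} (ht : t * t = 1) (ht1 : t ≠ 1) :
    centralizer ({t} : Set G) ≠ ⊤ := by
  intro h
  refine C.normalizer_two_ne_top (two_group_zpowers ht) (zpowers_ne_bot.2 ht1) ?_
  rw [eq_top_iff, ← h, ← centralizer_closure, ← zpowers_eq_closure]
  exact centralizer_le_normalizer _

theorem Crit.centralizer_pel_ne_top {y : G} (hy : IsPGroup p (zpowers y)) (hy1 : y ≠ 1) :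
    centralizer ({y} : Set G) ≠ ⊤ := by
  intro h
  refine C.hloc _ hy (zpowers_ne_bot.2 hy1) ?_
  rw [eq_top_iff, ← h, ← centralizer_closure, ← zpowers_eq_closure]
  exact centralizer_le_normalizer _

theorem Crit.comm_sylow_p {H : Subgroup G} (hH : IsPGroup p H) {a b : G} (ha : a ∈ H) (hb : b ∈ H) :
    Commute a b := by
  obtain ⟨P, hP⟩ := hH.exists_le_sylow
  have := C.hab P
  exact congrArg Subtype.val (IsMulCommutative.is_comm.comm (⟨a, hP ha⟩ : (P : Subgroup G)) ⟨b, hP hb⟩)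

/-- A `p`-element normalizing a Sylow subgroup and fixing one of its involutions centralizes it. -/
theorem Crit.fix_one (S : Sylow 2 G) {x t : G} (hx : IsPGroup p (zpowers x))
    (hxN : x ∈ normalizer ((S : Subgroup G) : Set G)) (htS : t ∈ (S : Subgroup G)) (ht1 : t ≠ 1)
    (hxt : Commute x t) {h : G} (hh : h ∈ (S : Subgroup G)) : Commute x h := by
  by_contra hne
  obtain ⟨c, hc, e⟩ := (moved hxN hx hh hne).2 (C.hcard S) t htS ht1
  obtain ⟨i, rfl⟩ := mem_zpowers_iff.1 hc
  have h2 : h = t := by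
    have hcomm : Commute (x ^ i) t := hxt.zpow_left i
    have h3 : h = (x ^ i)⁻¹ * t * x ^ i := by rw [← e]; group
    rw [h3, mul_assoc, ← hcomm.eq, inv_mul_cancel_left]
  exact hne (h2 ▸ hxt)

/-- A proper subgroup containing a Sylow subgroup and a transitive element normalizes the former. -/
theorem Crit.le_normalizer_sylow (S : Sylow 2 G) {M : Subgroup G} (hM : M ≠ ⊤) (hSM : (S : Subgroup G) ≤ M)
    {n : G} (hnM : n ∈ M) (hnN : n ∈ normalizer ((S : Subgroup G) : Set G)) (hnp : IsPGroup p (zpowers n))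
    (htr : ∀ h ∈ (S : Subgroup G), h ≠ 1 → ∀ h' ∈ (S : Subgroup G), h' ≠ 1 →
      ∃ c ∈ zpowers n, c * h * c⁻¹ = h') :
    M ≤ normalizer ((S : Subgroup G) : Set G) := by
  have h2M : 2 ∣ Nat.card M := (C.two_dvd_sylow S).trans (card_dvd_of_le hSM)
  have hsol : Group.IsSolvable M := ThreeEven.solvable_of_primeFactors Nat.prime_two (Fact.out : p.Prime)
    C.hpodd.symm fun r hr => by
      rw [Nat.mem_primeFactors] at hr
      simp only [Finset.mem_insert, Finset.mem_singleton]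
      exact C.hsmall M hM h2M r hr.1 hr.2.1
  obtain ⟨V, ⟨hVp, hVM, hMV⟩, hVmax⟩ := (wellFounded_gt (α := Subgroup G)).has_min
    {V | IsPGroup p V ∧ V ≤ M ∧ M ≤ normalizer (V : Set G)}
    ⟨⊥, IsPGroup.of_bot, bot_le, by rw [normalizer_eq_top]; exact le_top⟩
  have hnV : ∀ v ∈ V, Commute n v := fun v hv => C.comm_sylow_p
    (hnp.to_sup_of_normal_right' hVp (zpowers_le.2 (hMV hnM)))
    (mem_sup_left (mem_zpowers n)) (mem_sup_right hv)
  have hcV : ∀ c ∈ zpowers n, ∀ v ∈ V, Commute c v := by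
    intro c hc v hv
    obtain ⟨i, rfl⟩ := mem_zpowers_iff.1 hc
    exact (hnV v hv).zpow_left i
  have hconjV : ∀ g ∈ M, ∀ v ∈ V, g * v * g⁻¹ ∈ V := fun g hg v hv =>
    (mem_normalizer_iff.1 (hMV hg) v).1 hv
  -- the Sylow subgroup centralizes `V`
  have hSV : ∀ h ∈ (S : Subgroup G), ∀ v ∈ V, Commute h v := by
    intro h hh v hv
    by_cases h1 : h = 1
    · exact h1 ▸ Commute.one_left v
    have hsame : ∀ a ∈ (S : Subgroup G), a ≠ 1 → ∀ b ∈ (S : Subgroup G), b ≠ 1 → ∀ w ∈ V,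
        a * w * a⁻¹ = b * w * b⁻¹ := by
      intro a ha ha1 b hb hb1 w hw
      obtain ⟨c, hc, rfl⟩ := htr a ha ha1 b hb hb1
      have e1 : c⁻¹ * w * c = w := by rw [mul_assoc, ← (hcV c hc w hw).eq, inv_mul_cancel_left]
      have e2 : c * (a * w * a⁻¹) * c⁻¹ = a * w * a⁻¹ :=
        conj_eq_iff_commute.2 (hcV c hc _ (hconjV a (hSM ha) w hw))
      calc a * w * a⁻¹ = c * (a * (c⁻¹ * w * c) * a⁻¹) * c⁻¹ := by rw [e1, e2]
        _ = c * a * c⁻¹ * w * (c * a * c⁻¹)⁻¹ := by group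
    obtain ⟨h', hh', hh'1, hne⟩ : ∃ h' ∈ (S : Subgroup G), h' ≠ 1 ∧ h' ≠ h := by
      by_contra hcon
      push Not at hcon
      have hsub : ((S : Subgroup G) : Set G) ⊆ {1, h} := fun a ha => by
        by_cases ha1 : a = 1
        · exact Or.inl ha1
        · exact Or.inr (hcon a ha ha1)
      have h4 := C.four_le S
      have h5 := Set.ncard_le_ncard hsub (Set.toFinite _)
      rw [Set.ncard_pair (Ne.symm h1), ← Nat.card_coe_set_eq] at h5
      exact absurd (h4.trans h5) (by norm_num)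
    have h3 : h * h' ≠ 1 := fun e => hne ((inv_eq_of_mul_eq_one_right e).symm.trans (inv_of_sq (C.hsq S h hh)))
    have e := hsame (h * h') ((S : Subgroup G).mul_mem hh hh') h3 h hh h1 v hv
    have e' := hsame h' hh' hh'1 h hh h1 v hv
    have e3 : h * h' * v * (h * h')⁻¹ = h * (h' * v * h'⁻¹) * h⁻¹ := by group
    rw [e3, e', show h * (h * v * h⁻¹) * h⁻¹ = (h * h) * v * (h * h)⁻¹ by group, C.hsq S h hh,
      one_mul, inv_one, mul_one] at e
    exact conj_eq_iff_commute.1 e.symm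
  -- the quotient
  have hVn : (V.subgroupOf M).Normal := normal_subgroupOf_of_le_normalizer hMV
  set π := QuotientGroup.mk' (V.subgroupOf M)
  have hnotle : ¬ (S : Subgroup G) ≤ V := fun h => by
    have := prime_dvd_pgroup_card Nat.prime_two (Fact.out : p.Prime) (hVp.to_le h) (C.two_dvd_sylow S)
    exact C.hpodd this.symm
  have : Nontrivial (↥M ⧸ V.subgroupOf M) := QuotientGroup.nontrivial_iff.2 fun h =>
    hnotle (hSM.trans (subgroupOf_eq_top.1 h))
  obtain ⟨A, s, hAn, hA, -, hs, hAp, -⟩ := H19.exists_normal_elementary (G := ↥M ⧸ V.subgroupOf M)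
  have := Fact.mk hs
  set W := (A.comap π).map M.subtype
  have hWM : W ≤ M := map_subtype_le _
  have hVW : V ≤ W := fun v hv => ⟨⟨v, hVM hv⟩, by
    rw [SetLike.mem_coe, mem_comap, show π ⟨v, hVM hv⟩ = 1 from (QuotientGroup.eq_one_iff _).2 hv]
    exact A.one_mem, rfl⟩
  have hMW : M ≤ normalizer (W : Set G) := by
    have := le_normalizer_map (H := A.comap π) M.subtype
    rw [normalizer_eq_top, ← MonoidHom.range_eq_map, range_subtype] at this
    exact this
  obtain ⟨j, hj⟩ := hAp.exists_card_eq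
  have hWcard : Nat.card W = Nat.card V * s ^ j := by
    rw [card_map_of_injective M.subtype_injective, ← hj,
      ← Nat.card_congr (subgroupOfEquivOfLe hVM).toEquiv]
    have hmap : (A.comap π).map π = A := map_comap_eq_self_of_surjective (QuotientGroup.mk'_surjective _) A
    have hle : V.subgroupOf M ≤ A.comap π := by
      intro v hv
      rw [mem_comap, show π v = 1 from (QuotientGroup.eq_one_iff _).2 hv]
      exact A.one_mem
    have h1 := relIndex_mul_index hle
    have h3 : (A.comap π).index = A.index := index_comap_of_surjective A (QuotientGroup.mk'_surjective _)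
    have h4 := A.card_mul_index
    have h5 := (A.comap π).card_mul_index
    rw [h3] at h5
    have h6 := (V.subgroupOf M).card_mul_index
    rw [← Subgroup.index_eq_card] at h4
    have hidx : 0 < A.index := Nat.pos_of_ne_zero index_ne_zero_of_finite
    refine Nat.eq_of_mul_eq_mul_right hidx ?_
    rw [h5, ← h6, mul_assoc, h4]
  have hjne : j ≠ 0 := fun h => hA (A.eq_bot_of_card_eq (by rw [hj, h, pow_zero]))
  obtain ⟨i, hi⟩ := hVp.exists_card_eq
  have hs2 : s = 2 := by
    have hsM : s ∣ Nat.card M :=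
      ((hWcard ▸ dvd_mul_of_dvd_right (dvd_pow_self s hjne) _ : s ∣ Nat.card W)).trans (card_dvd_of_le hWM)
    refine (C.hsmall M hM h2M s hs hsM).resolve_right fun hsp => ?_
    have hWp : IsPGroup p W := IsPGroup.of_card (n := i + j) (by rw [hWcard, hi, hsp, pow_add])
    refine hVmax W ⟨hWp, hWM, hMW⟩ (lt_of_le_of_ne hVW fun e => ?_)
    have h7 := hWcard
    rw [← e] at h7
    nth_rewrite 1 [← mul_one (Nat.card V)] at h7
    have := Nat.eq_of_mul_eq_mul_left Nat.card_pos h7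
    exact hjne ((Nat.pow_eq_one.1 this.symm).resolve_left hs.ne_one)
  subst hs2
  -- `S` lies in `W`
  have hcopV : ∀ v ∈ V, v * v = 1 → v = 1 := fun v hv h => eq_one_of_sq C.hpodd (pgroup_of_mem hVp hv) h
  have hne : ∃ h ∈ (S : Subgroup G), h ≠ 1 ∧ h ∈ W := by
    by_contra hcon
    push Not at hcon
    have hdis : Disjoint W (S : Subgroup G) := disjoint_def.2 fun {x} hxW hxS =>
      by_contra fun h1 => hcon x hxS h1 hxW
    have hinj : Function.Injective (fun x : W × (S : Subgroup G) =>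
        (⟨(x.1 : G) * x.2, mul_mem (mem_sup_left x.1.2) (mem_sup_right x.2.2)⟩ : ↥(W ⊔ (S : Subgroup G)))) :=
      fun x y e => mul_injective_of_disjoint hdis (congrArg Subtype.val e)
    have h1 := Nat.card_le_card_of_injective _ hinj
    rw [Nat.card_prod] at h1
    have h2 := Nat.le_antisymm (Nat.le_of_dvd (Nat.mul_pos Nat.card_pos Nat.card_pos)
      (card_sup_dvd (hSM.trans hMW))) h1
    have h3 : 2 * Nat.card (S : Subgroup G) ∣ Nat.card G :=
      (Nat.mul_dvd_mul_right (hWcard ▸ dvd_mul_of_dvd_right (dvd_pow_self 2 hjne) _ : 2 ∣ Nat.card W) _).trans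
        (h2 ▸ card_subgroup_dvd_card _)
    obtain ⟨a, ha⟩ := S.2.exists_card_eq
    have h4 := S.card_eq_multiplicity
    rw [ha] at h4 h3
    have h6 := Nat.pow_right_injective (le_refl 2) h4
    rw [← pow_succ'] at h3
    have h7 := (Nat.prime_two.pow_dvd_iff_le_factorization Nat.card_pos.ne').1 h3
    omega
  obtain ⟨h₀, hh₀, hh₀1, hh₀W⟩ := hne
  have hSW : (S : Subgroup G) ≤ W := by
    intro h hh
    by_cases h1 : h = 1
    · exact h1 ▸ W.one_mem
    obtain ⟨c, hc, rfl⟩ := htr h₀ hh₀ hh₀1 h hh h1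
    exact (mem_normalizer_iff.1 (hMW (zpowers_le.2 hnM hc)) h₀).1 hh₀W
  have hcle : Nat.card W ≤ Nat.card V * Nat.card (S : Subgroup G) := by
    rw [hWcard]
    refine Nat.mul_le_mul_left _ ?_
    obtain ⟨a, ha⟩ := S.2.exists_card_eq
    have h4 := S.card_eq_multiplicity
    rw [ha] at h4
    rw [ha, Nat.pow_right_injective (le_refl 2) h4]
    refine Nat.pow_le_pow_right two_pos ((Nat.prime_two.pow_dvd_iff_le_factorization Nat.card_pos.ne').1 ?_)
    exact ((hWcard ▸ dvd_mul_left _ _ : 2 ^ j ∣ Nat.card W)).trans (card_subgroup_dvd_card _)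
  have hWeq : ∀ w ∈ W, ∃ v ∈ V, ∃ h ∈ (S : Subgroup G), v * h = w := by
    have hdis : Disjoint V (S : Subgroup G) := disjoint_def.2 fun {x} hxV hxS => hcopV x hxV (C.hsq S x hxS)
    let f : V × (S : Subgroup G) → W := fun x => ⟨(x.1 : G) * x.2, mul_mem (hVW x.1.2) (hSW x.2.2)⟩
    have hinj : Function.Injective f := fun x y e => mul_injective_of_disjoint hdis (congrArg Subtype.val e)
    have hbij := hinj.bijective_of_nat_card_le (by rw [Nat.card_prod]; exact hcle)
    intro w hw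
    obtain ⟨⟨v, h⟩, e⟩ := hbij.2 ⟨w, hw⟩
    exact ⟨v, v.2, h, h.2, congrArg Subtype.val e⟩
  have hchar : ∀ w, w ∈ (S : Subgroup G) ↔ w ∈ W ∧ w * w = 1 := by
    intro w
    refine ⟨fun h => ⟨hSW h, C.hsq S w h⟩, fun ⟨hw, hw2⟩ => ?_⟩
    obtain ⟨v, hv, h, hh, rfl⟩ := hWeq w hw
    have hc : Commute h v := hSV h hh v hv
    have : v * v = 1 := by
      rw [← hw2]
      calc v * v = v * v * (h * h) := by rw [C.hsq S h hh, mul_one]
        _ = v * (v * h) * h := by simp only [mul_assoc]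
        _ = v * (h * v) * h := by rw [hc.eq]
        _ = v * h * (v * h) := by simp only [mul_assoc]
    rw [hcopV v hv this, one_mul]
    exact hh
  intro g hg
  rw [mem_normalizer_iff]
  intro w
  have h1 : g * w * g⁻¹ * (g * w * g⁻¹) = g * (w * w) * g⁻¹ := by group
  rw [hchar, hchar, h1, conj_eq_one_iff]
  exact and_congr_left fun _ => mem_normalizer_iff.1 (hMW hg) w

theorem Crit.hasComplement {M : Subgroup G} (hM : M ≠ ⊤) (h2 : 2 ∣ Nat.card M)
    (hnomove : ∀ S : Sylow 2 G, (S : Subgroup G) ≤ M → ∀ x ∈ M,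
      x ∈ normalizer ((S : Subgroup G) : Set G) → IsPGroup p (zpowers x) →
      ∀ h ∈ (S : Subgroup G), Commute x h) :
    ∃ K : Subgroup G, IsPGroup p K ∧ K ≤ M ∧ M ≤ normalizer (K : Set G) ∧
      ∀ x ∈ M, IsPGroup p (zpowers x) → x ∈ K := by
  have hN : Cfsg.HasNormalPComplement 2 M := by
    refine hasNormalPComplement_of_no_moved fun H hH g hg hg2 => ?_
    rw [mem_centralizer_iff]
    intro h hh
    have hgp : IsPGroup p (zpowers (g : G)) := by
      refine IsPGroup.of_card (n := (orderOf (g : G)).primeFactorsList.length) ?_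
      rw [Nat.card_zpowers]
      refine Nat.eq_prime_pow_of_unique_prime_dvd (orderOf_pos _).ne' fun {d} hd hdg => ?_
      refine (C.hsmall M hM h2 d hd (hdg.trans (M.orderOf_dvd_natCard g.2))).resolve_left fun e => ?_
      rw [← Subgroup.orderOf_coe] at hg2
      exact Nat.prime_two.ne_one (Nat.eq_one_of_dvd_coprimes hg2 (e ▸ hdg) dvd_rfl)
    have hmapN : (g : G) ∈ normalizer ((H.map M.subtype : Subgroup G) : Set G) :=
      le_normalizer_map M.subtype (mem_map_of_mem _ hg)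
    refine Subtype.ext ?_
    by_contra hne
    have hne' : ¬ Commute (g : G) (h : G) := fun e => hne e.symm.eq
    obtain ⟨h1, -⟩ := moved hmapN hgp (mem_map_of_mem M.subtype hh) hne'
    obtain ⟨S, hS⟩ := C.exists_sylow (hH.map M.subtype)
    have he : (S : Subgroup G) = H.map M.subtype :=
      (eq_of_le_of_card_ge hS (by rw [C.hcard S]; exact h1)).symm
    exact hne' (hnomove S (he ▸ map_subtype_le H) g g.2 (he ▸ hmapN) hgp h (hS (mem_map_of_mem M.subtype hh)))
  obtain ⟨T, N, hNn, hNT⟩ := hN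
  have hidx : N.index = Nat.card (T : Subgroup M) := by
    have h1 := N.card_mul_index
    rw [← hNT.card_mul_card] at h1
    exact Nat.eq_of_mul_eq_mul_left Nat.card_pos h1
  have h2N : ¬ 2 ∣ Nat.card N := by
    intro h
    obtain ⟨a, ha⟩ := T.2.exists_card_eq
    have h4 := T.card_eq_multiplicity
    rw [ha] at h4
    have h6 := Nat.pow_right_injective (le_refl 2) h4
    have h3 : 2 ^ (a + 1) ∣ Nat.card M := by
      rw [← hNT.card_mul_card, ha, pow_succ, mul_comm]; exact Nat.mul_dvd_mul_right h _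
    have h7 := (Nat.prime_two.pow_dvd_iff_le_factorization Nat.card_pos.ne').1 h3
    omega
  refine ⟨N.map M.subtype, ?_, map_subtype_le _, ?_, fun x hx hxp => ?_⟩
  · refine (IsPGroup.of_card (n := (Nat.card N).primeFactorsList.length) ?_).map M.subtype
    refine Nat.eq_prime_pow_of_unique_prime_dvd Nat.card_pos.ne' fun {d} hd hdN => ?_
    refine (C.hsmall M hM h2 d hd (hdN.trans N.card_subgroup_dvd_card)).resolve_left fun e => ?_
    exact h2N (e ▸ hdN)
  · have := le_normalizer_map (H := N) M.subtype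
    rw [normalizer_eq_top, ← MonoidHom.range_eq_map, range_subtype] at this
    exact this
  · refine ⟨⟨x, hx⟩, ?_, rfl⟩
    rw [SetLike.mem_coe, ← QuotientGroup.eq_one_iff, ← orderOf_eq_one_iff]
    have h3 : orderOf (QuotientGroup.mk (s := N) (⟨x, hx⟩ : M)) ∣ Nat.card (T : Subgroup M) := by
      rw [← hidx, Subgroup.index_eq_card]; exact orderOf_dvd_natCard _
    have h4 : orderOf (QuotientGroup.mk (s := N) (⟨x, hx⟩ : M)) ∣ Nat.card (zpowers x) := by
      rw [Nat.card_zpowers, ← Subgroup.orderOf_mk x hx]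
      exact orderOf_map_dvd (QuotientGroup.mk' N) _
    obtain ⟨a, ha⟩ := T.2.exists_card_eq
    obtain ⟨b, hb⟩ := hxp.exists_card_eq
    exact Nat.eq_one_of_dvd_coprimes ((Nat.coprime_primes Nat.prime_two Fact.out).2 C.hpodd.symm |>.pow a b)
      (ha ▸ h3) (hb ▸ h4)

theorem Crit.mem_centralizer_sylow {t : G} (S : Sylow 2 G) (ht : t ∈ (S : Subgroup G)) :
    (S : Subgroup G) ≤ centralizer ({t} : Set G) := fun _ ha =>
  mem_centralizer_singleton_iff.2 (C.comm_sylow S ha ht)

/-- The `p`-elements centralizing an involution form a normal subgroup of its centralizer. -/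
theorem Crit.involution_core {t : G} (ht : t * t = 1) (ht1 : t ≠ 1) :
    ∃ K : Subgroup G, IsPGroup p K ∧ K ≤ centralizer ({t} : Set G) ∧
      centralizer ({t} : Set G) ≤ normalizer (K : Set G) ∧
      ∀ x, Commute x t → IsPGroup p (zpowers x) → x ∈ K := by
  have htC : t ∈ centralizer ({t} : Set G) := mem_centralizer_singleton_iff.2 rfl
  obtain ⟨K, h1, h2, h3, h4⟩ := C.hasComplement (C.centralizer_involution_ne_top ht ht1)
    (by rw [← orderOf_involution ht ht1]; exact Subgroup.orderOf_dvd_natCard _ htC) (fun S hS x hx hxN hxp h hh => by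
      have hle : zpowers t ≤ normalizer ((S : Subgroup G) : Set G) := by
        refine zpowers_le.2 (centralizer_le_normalizer _ (mem_centralizer_iff.2 fun a ha => ?_))
        exact mem_centralizer_singleton_iff.1 (hS ha)
      exact C.fix_one S hxp hxN (C.mem_of_normalizes S ht (zpowers_le.1 hle)) ht1
        (mem_centralizer_singleton_iff.1 hx) hh)
  exact ⟨K, h1, h2, h3, fun x hx hxp => h4 x (mem_centralizer_singleton_iff.2 hx.eq) hxp⟩

/-- Two involutions commute with a common involution or their product is a `p`-element. -/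
theorem Crit.dihedral {s t : G} (hs : s * s = 1) (ht : t * t = 1) (hne : ¬ Commute s t) :
    (t * (t * s) * t⁻¹ = (t * s)⁻¹ ∧ t * s * (t * s) ≠ 1) ∧
    ((∃ k : ℕ, (t * s) ^ k * (t * s) ^ k = 1 ∧ (t * s) ^ k ≠ 1) ∧ 2 ∣ orderOf (t * s) ∨
      IsPGroup p (zpowers (t * s))) := by
  have hinv : t * (t * s) * t⁻¹ = (t * s)⁻¹ := by
    rw [mul_inv_rev, inv_of_sq ht, inv_of_sq hs, ← mul_assoc t t, ht, one_mul]
  refine ⟨⟨hinv, fun h => hne ?_⟩, ?_⟩
  · have h' := inv_eq_of_mul_eq_one_right h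
    rw [mul_inv_rev, inv_of_sq ht, inv_of_sq hs] at h'
    exact h'
  set x := t * s with hx
  clear_value x
  by_cases h2 : 2 ∣ orderOf x
  · left
    obtain ⟨k, hk⟩ := h2
    refine ⟨⟨k, ?_, fun h => ?_⟩, k, hk⟩
    · rw [← pow_add, ← two_mul, ← hk, pow_orderOf_eq_one]
    · have := orderOf_dvd_of_pow_eq_one h
      have h0 := orderOf_pos x
      have := Nat.le_of_dvd (by omega) this
      omega
  right
  refine IsPGroup.of_card (n := (orderOf x).primeFactorsList.length) ?_
  rw [Nat.card_zpowers]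
  refine Nat.eq_prime_pow_of_unique_prime_dvd (orderOf_pos x).ne' fun {r} hr hrx => ?_
  by_contra hrp
  obtain ⟨m, hm⟩ := hrx
  have hy : orderOf (x ^ m) = r := by
    have hm0 : m ≠ 0 := by rintro rfl; rw [mul_zero] at hm; exact (orderOf_pos x).ne' hm
    rw [orderOf_pow' x hm0, hm, Nat.gcd_mul_left_left, Nat.mul_div_cancel _ (Nat.pos_of_ne_zero hm0)]
  have ht1 : t ≠ 1 := fun e => hne (e ▸ Commute.one_right s)
  refine not_mixed C.hmix Fact.out Nat.prime_two C.hpG (A := zpowers (x ^ m)) (B := zpowers t) ?_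
    ?_ ?_ (Or.inr (by rw [Nat.card_zpowers, orderOf_involution ht ht1])) hr
    (fun e => h2 (e ▸ Dvd.intro m hm.symm)) (Or.inl (by rw [Nat.card_zpowers, hy]))
  · rw [zpowers_le, mem_normalizer_iff]
    have key : ∀ y ∈ zpowers (x ^ m), t * y * t⁻¹ ∈ zpowers (x ^ m) := by
      intro y hy
      obtain ⟨i, rfl⟩ := mem_zpowers_iff.1 hy
      rw [← conj_zpow, ← conj_pow, hinv, inv_pow]
      exact zpow_mem (inv_mem (mem_zpowers _)) i
    refine fun y => ⟨key y, fun h => ?_⟩
    have := key _ h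
    rwa [show t * (t * y * t⁻¹) * t⁻¹ = (t * t) * y * (t * t)⁻¹ by group, ht, one_mul, inv_one, mul_one] at this
  · rw [Nat.card_zpowers, hy, Nat.prime_dvd_prime_iff_eq Fact.out hr]; exact Ne.symm hrp
  · rw [Nat.card_zpowers, orderOf_involution ht ht1, Nat.prime_dvd_prime_iff_eq Fact.out Nat.prime_two]
    exact C.hpodd

/-- Some involution does not commute with a given one. -/
theorem Crit.exists_noncommuting (h : ∀ S : Sylow 2 G, ∀ t ∈ (S : Subgroup G), t ≠ 1 → ∀ s : G,
    s * s = 1 → Commute s t → s ∈ (S : Subgroup G)) (S : Sylow 2 G) {t : G} (ht : t ∈ (S : Subgroup G))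
    (ht1 : t ≠ 1) : ∃ s, s * s = 1 ∧ ¬ Commute s t := by
  by_contra hcon
  push Not at hcon
  refine C.normalizer_two_ne_top S.2 (fun e => ?_) (eq_top_iff.2 fun g _ => ?_)
  · have := C.four_le S
    rw [e, card_bot] at this
    omega
  · rw [mem_normalizer_iff]
    have key : ∀ g : G, ∀ a ∈ (S : Subgroup G), g * a * g⁻¹ ∈ (S : Subgroup G) := fun g a ha => by
      have h2 : g * a * g⁻¹ * (g * a * g⁻¹) = 1 := by
        rw [show g * a * g⁻¹ * (g * a * g⁻¹) = g * (a * a) * g⁻¹ by group, C.hsq S a ha, mul_one, mul_inv_cancel]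
      exact h S t ht ht1 _ h2 (hcon _ h2)
    intro a
    refine ⟨key g a, fun ha => ?_⟩
    have := key g⁻¹ _ ha
    simpa [mul_assoc] using this

theorem Crit.exists_involution (S : Sylow 2 G) : ∃ t ∈ (S : Subgroup G), t ≠ 1 :=
  (S : Subgroup G).bot_or_exists_ne_one.resolve_left fun e => by
    have := C.four_le S
    rw [e, card_bot] at this
    omega

theorem Crit.sylow_conj {S S' : Sylow 2 G} : ∃ g : G, ∀ a : G,
    a ∈ (S : Subgroup G) ↔ g * a * g⁻¹ ∈ (S' : Subgroup G) := by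
  obtain ⟨g, hg⟩ := MulAction.exists_smul_eq G S S'
  refine ⟨g, fun a => ?_⟩
  rw [← hg, Sylow.coe_subgroup_smul]
  exact (smul_mem_pointwise_smul_iff (a := MulAut.conj g)).symm

/-- Involutions are all conjugate. -/
theorem Crit.involution_conj {t u : G} (ht : t * t = 1) (ht1 : t ≠ 1) (hu : u * u = 1) (hu1 : u ≠ 1) :
    ∃ g : G, g * t * g⁻¹ = u := by
  obtain ⟨S, hS⟩ := C.exists_sylow_mem ht
  obtain ⟨S', hS'⟩ := C.exists_sylow_mem hu
  obtain ⟨g, hg⟩ := C.sylow_conj (S := S) (S' := S')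
  obtain ⟨n, -, -, htr⟩ := C.htrans S'
  obtain ⟨c, -, hc⟩ := htr _ ((hg t).1 hS) (fun e => ht1 (conj_eq_one_iff.1 e)) u hS' hu1
  exact ⟨c * g, by rw [← hc]; group⟩

end Cfsg.Agent.H86.Mixed
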