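import Cfsg.Agent.H86.MixedCases

/-!
The mixed prime property with a large prime `p` allows only two primes.
-/

set_option autoImplicit false

namespace Cfsg.Agent.H86.Mixed

open Subgroup

universe u

/-- The size condition on `p`. -/
def Large (G : Type u) [Group G] (p q : ℕ) : Prop :=
  q ^ (Nat.card G).factorization q - 1 < p ∨
    (p = q ^ (Nat.card G).factorization q - 1 ∧ ∀ P : Sylow p G, IsMulCommutative (P : Subgroup G))

variable {G : Type u} [Group G] [Finite G] {p q : ℕ}

theorem large_of_dvd [Fact p.Prime] (hq : q.Prime) (h : Large G p q) {H : Type u} [Group H] [Finite H]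
    (hd : (Nat.card H).factorization q ≤ (Nat.card G).factorization q)
    (hab : (∀ P : Sylow p G, IsMulCommutative (P : Subgroup G)) → ∀ P : Sylow p H, IsMulCommutative (P : Subgroup H)) :
    Large H p q := by
  have hle := Nat.pow_le_pow_right hq.pos hd
  rcases h with h | ⟨h, hab'⟩
  · exact Or.inl (lt_of_le_of_lt (Nat.sub_le_sub_right hle 1) h)
  · rcases hle.eq_or_lt with e | e
    · exact Or.inr ⟨by rw [e]; exact h, hab hab'⟩
    · left
      have := Nat.one_le_pow ((Nat.card H).factorization q) q hq.pos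
      omega

theorem mixedHyp_subgroup (hmix : MixedHyp G p q) (M : Subgroup G) : MixedHyp M p q := by
  intro H hH hnq hqd
  rw [← card_map_of_injective (K := H) M.subtype_injective]
  refine hmix _ (fun e => hH ?_) (fun h => hnq ?_) ?_
  · rw [eq_top_iff]
    intro x _
    obtain ⟨y, hy, e'⟩ := (e ▸ mem_top (x : G) : (x : G) ∈ H.map M.subtype)
    rwa [← Subtype.ext e']
  · exact h.of_equiv (equivMapOfInjective H M.subtype M.subtype_injective).symm
  · rwa [card_map_of_injective M.subtype_injective]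

theorem isMulCommutative_of_le {H : Type u} [Group H] {f : H →* G} (hf : Function.Injective f)
    [Fact p.Prime] (hab : ∀ P : Sylow p G, IsMulCommutative (P : Subgroup G)) (P : Sylow p H) :
    IsMulCommutative (P : Subgroup H) := by
  obtain ⟨P', hP'⟩ := (P.2.map f).exists_le_sylow
  have := hab P'
  refine ⟨⟨fun a b => Subtype.ext (hf ?_)⟩⟩
  have h := congrArg Subtype.val (IsMulCommutative.is_comm.comm
    (⟨f a, hP' ⟨a, a.2, rfl⟩⟩ : (P' : Subgroup G)) ⟨f b, hP' ⟨b, b.2, rfl⟩⟩)
  simpa using h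

theorem no_normal_p_subgroup [Fact p.Prime] [Fact q.Prime] (hpq : p ≠ q) (hmix : MixedHyp G p q)
    (hlarge : Large G p q) (hpG : p ∣ Nat.card G) (hqG : q ∣ Nat.card G) {r : ℕ} (hr : r.Prime)
    (hrp : r ≠ p) (hrq : r ≠ q) (hrG : r ∣ Nat.card G)
    (ih : ∀ (K : Type u) [Group K] [Finite K], Nat.card K < Nat.card G → MixedHyp K p q → Large K p q →
      p ∣ Nat.card K → q ∣ Nat.card K → ∀ r : ℕ, r.Prime → r ∣ Nat.card K → r = p ∨ r = q)
    (V : Subgroup G) [V.Normal] (hV : IsPGroup p V) (hV1 : V ≠ ⊥) : False := by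
  have hp : p.Prime := Fact.out
  have hq : q.Prime := Fact.out
  obtain ⟨i, hi⟩ := hV.exists_card_eq
  have hmul := V.card_mul_index
  have hout : ∀ s : ℕ, s.Prime → s ≠ p → s ∣ Nat.card G → s ∣ V.index := fun s hs hsp hsG =>
    (hs.dvd_mul.1 (hmul.symm ▸ hsG)).resolve_left fun h => hsp (prime_dvd_pgroup_card hs hp hV h)
  by_cases hpI : p ∣ V.index
  · have hlt : Nat.card (G ⧸ V) < Nat.card G := by
      rw [← Subgroup.index_eq_card, ← hmul]
      refine lt_mul_of_one_lt_left (Nat.pos_of_ne_zero index_ne_zero_of_finite) ?_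
      exact V.one_lt_card_iff_ne_bot.2 hV1
    have hmix' : MixedHyp (G ⧸ V) p q := by
      intro H hH hnq hqd
      by_contra hpH
      set M := H.comap (QuotientGroup.mk' V)
      have hVM : V ≤ M := fun v hv => by
        rw [mem_comap, show QuotientGroup.mk' V v = 1 from (QuotientGroup.eq_one_iff v).2 hv]
        exact H.one_mem
      have hcard : (V.subgroupOf M).index = Nat.card H := by
        have hMt : M.map (QuotientGroup.mk' V) = H :=
          map_comap_eq_self_of_surjective (QuotientGroup.mk'_surjective V) H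
        have h1 := relIndex_mul_index hVM
        have h3 : M.index = H.index := index_comap_of_surjective H (QuotientGroup.mk'_surjective V)
        rw [h3, Subgroup.index_eq_card (H := V), ← H.card_mul_index] at h1
        exact Nat.eq_of_mul_eq_mul_right (Nat.pos_of_ne_zero index_ne_zero_of_finite) h1
      obtain ⟨C, hC⟩ := exists_right_complement'_of_coprime (N := V.subgroupOf M) (by
        rw [hcard, Nat.card_congr (subgroupOfEquivOfLe hVM).toEquiv, hi]
        exact (hp.coprime_iff_not_dvd.2 hpH).pow_left i)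
      have hCcard : Nat.card C = Nat.card H := by
        rw [← hcard]
        have h1 := hC.card_mul_card
        rw [← (V.subgroupOf M).card_mul_index] at h1
        exact Nat.eq_of_mul_eq_mul_left Nat.card_pos h1
      have hMt : M ≠ ⊤ := fun e => hH (by
        rw [← map_comap_eq_self_of_surjective (QuotientGroup.mk'_surjective V) H]
        show M.map _ = ⊤
        rw [e, map_top_of_surjective _ (QuotientGroup.mk'_surjective V)])
      have hC' : Nat.card (C.map M.subtype) = Nat.card H := by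
        rw [card_map_of_injective M.subtype_injective, hCcard]
      refine hpH (hC' ▸ hmix _ (fun e => hMt (top_le_iff.1 (e ▸ map_subtype_le C))) (fun h => hnq ?_) (hC' ▸ hqd))
      obtain ⟨k, hk⟩ := h.exists_card_eq
      exact IsPGroup.of_card (n := k) (hC' ▸ hk)
    have hlarge' : Large (G ⧸ V) p q := by
      refine large_of_dvd hq hlarge ?_ fun hab P => ?_
      · rw [← Subgroup.index_eq_card]
        exact (Nat.factorization_le_iff_dvd index_ne_zero_of_finite Nat.card_pos.ne').2 V.index_dvd_card q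
      · obtain ⟨P', rfl⟩ := Sylow.mapSurjective_surjective (QuotientGroup.mk'_surjective V) p P
        have := hab P'
        refine ⟨⟨?_⟩⟩
        rintro ⟨_, a, ha, rfl⟩ ⟨_, b, hb, rfl⟩
        refine Subtype.ext ?_
        have h := congrArg Subtype.val (IsMulCommutative.is_comm.comm (⟨a, ha⟩ : (P' : Subgroup G)) ⟨b, hb⟩)
        simp only [MulMemClass.coe_mul] at h ⊢
        rw [← map_mul, ← map_mul, h]
    have := ih (G ⧸ V) hlt hmix' hlarge' (Subgroup.index_eq_card (H := V) ▸ hpI)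
      (Subgroup.index_eq_card (H := V) ▸ hout q hq hpq.symm hqG) r hr
      (Subgroup.index_eq_card (H := V) ▸ hout r hr hrp hrG)
    exact this.elim hrp hrq
  · obtain ⟨C, hC⟩ := exists_right_complement'_of_coprime (N := V) (by
      rw [hi]; exact (hp.coprime_iff_not_dvd.2 hpI).pow_left i)
    have hCcard : Nat.card C = V.index := by
      have h1 := hC.card_mul_card
      rw [← hmul] at h1
      exact Nat.eq_of_mul_eq_mul_left Nat.card_pos h1
    refine hpI (hCcard ▸ hmix C (fun e => hpI ?_) (fun h => hrq ?_) (hCcard.symm ▸ hout q hq hpq.symm hqG))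
    · rw [← hCcard, e, card_top]; exact hpG
    · exact prime_dvd_pgroup_card hr hq h (hCcard.symm ▸ hout r hr hrp hrG)

theorem crit_of_moved [Fact p.Prime] [Fact q.Prime] (hpq : p ≠ q) (hp2 : p ≠ 2) (hmix : MixedHyp G p q)
    (hlarge : Large G p q) (hpG : p ∣ Nat.card G) (hqG : q ∣ Nat.card G) {r : ℕ} (hr : r.Prime)
    (hrp : r ≠ p) (hrq : r ≠ q) (hrG : r ∣ Nat.card G)
    (ih : ∀ (K : Type u) [Group K] [Finite K], Nat.card K < Nat.card G → MixedHyp K p q → Large K p q →
      p ∣ Nat.card K → q ∣ Nat.card K → ∀ r : ℕ, r.Prime → r ∣ Nat.card K → r = p ∨ r = q)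
    {H : Subgroup G} (hH : IsPGroup q H) (hHcard : Nat.card H = p + 1)
    (hv : q ^ (Nat.card G).factorization q = p + 1) {x : G} (hx : x ∈ normalizer (H : Set G))
    (hxp : IsPGroup p (zpowers x)) {h₀ : G} (hh₀ : h₀ ∈ H) (hne : ¬ Commute x h₀) : Crit G p := by
  have hp : p.Prime := Fact.out
  have hq : q.Prime := Fact.out
  obtain rfl : q = 2 := by
    have h2 : 2 ∣ q ^ (Nat.card G).factorization q := by
      rw [hv]
      obtain ⟨k, hk⟩ := hp.odd_of_ne_two hp2
      omega
    exact ((Nat.prime_dvd_prime_iff_eq Nat.prime_two hq).1 (Nat.prime_two.dvd_of_dvd_pow h2)).symm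
  have hab : ∀ P : Sylow p G, IsMulCommutative (P : Subgroup G) := by
    rcases hlarge with h | ⟨-, h⟩
    · rw [hv] at h; omega
    · exact h
  have hcard : ∀ S : Sylow 2 G, Nat.card (S : Subgroup G) = p + 1 := fun S => by
    rw [S.card_eq_multiplicity, hv]
  obtain ⟨S₀, hS₀⟩ := hH.exists_le_sylow
  have hHS : H = (S₀ : Subgroup G) := eq_of_le_of_card_ge hS₀ (by rw [hcard S₀, hHcard])
  have htr : ∀ h ∈ H, h ≠ 1 → ∀ h' ∈ H, h' ≠ 1 → ∃ c ∈ zpowers x, c * h * c⁻¹ = h' := by
    intro h hh hh1 h' hh' hh'1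
    obtain ⟨c, hc, e⟩ := (moved hx hxp hh₀ hne).2 hHcard h hh hh1
    obtain ⟨c', hc', e'⟩ := (moved hx hxp hh₀ hne).2 hHcard h' hh' hh'1
    refine ⟨c' * c⁻¹, mul_mem hc' (inv_mem hc), ?_⟩
    rw [← e, ← e']; group
  have hsq : ∀ h ∈ H, h * h = 1 := by
    intro h hh
    by_cases h1 : h = 1
    · rw [h1, mul_one]
    obtain ⟨z, hz⟩ := exists_prime_orderOf_dvd_card' (G := H) 2 (by
      rw [hHcard]; obtain ⟨k, hk⟩ := hp.odd_of_ne_two hp2; omega)
    rw [← Subgroup.orderOf_coe] at hz
    have hz1 : (z : G) ≠ 1 := fun e => by rw [e, orderOf_one] at hz; norm_num at hz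
    obtain ⟨c, -, e⟩ := htr _ z.2 hz1 h hh h1
    rw [← e, show c * (z : G) * c⁻¹ * (c * z * c⁻¹) = c * (z * z) * c⁻¹ by group, ← sq,
      ← hz, pow_orderOf_eq_one, mul_one, mul_inv_cancel]
  have hconj : ∀ S : Sylow 2 G, ∃ g : G, ∀ a : G, a ∈ H ↔ g * a * g⁻¹ ∈ (S : Subgroup G) := by
    intro S
    obtain ⟨g, hg⟩ := MulAction.exists_smul_eq G S₀ S
    refine ⟨g, fun a => ?_⟩
    rw [← hg, Sylow.coe_subgroup_smul, hHS]
    exact (smul_mem_pointwise_smul_iff (a := MulAut.conj g)).symm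
  refine ⟨hmix, hp2, hpG, ⟨r, hr, hrq, hrp, hrG⟩, hab, hcard, fun S h hh => ?_, fun S => ?_, fun V hVp hV1 hVt => ?_, ?_⟩
  · obtain ⟨g, hg⟩ := hconj S
    have h1 : g⁻¹ * h * g ∈ H := by rw [hg]; simpa [mul_assoc] using hh
    have h2 := hsq _ h1
    calc h * h = g * (g⁻¹ * h * g * (g⁻¹ * h * g)) * g⁻¹ := by group
      _ = 1 := by rw [h2, mul_one, mul_inv_cancel]
  · obtain ⟨g, hg⟩ := hconj S
    refine ⟨g * x * g⁻¹, ?_, pgroup_zpowers_conj hxp g, fun h hh hh1 h' hh' hh'1 => ?_⟩
    · rw [mem_normalizer_iff]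
      intro a
      have h1 := hg (g⁻¹ * a * g)
      have h2 := hg (x * (g⁻¹ * a * g) * x⁻¹)
      rw [← (mem_normalizer_iff.1 hx (g⁻¹ * a * g))] at h2
      rw [show g * (g⁻¹ * a * g) * g⁻¹ = a by group] at h1
      rw [show g * (x * (g⁻¹ * a * g) * x⁻¹) * g⁻¹ = g * x * g⁻¹ * a * (g * x * g⁻¹)⁻¹ by group] at h2
      exact h1.symm.trans h2
    · have e1 : ∀ a : G, a ∈ (S : Subgroup G) → a ≠ 1 → g⁻¹ * a * g ∈ H ∧ g⁻¹ * a * g ≠ 1 := by
        intro a ha ha1
        refine ⟨by rw [hg]; simpa [mul_assoc] using ha, fun e => ha1 ?_⟩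
        calc a = g * (g⁻¹ * a * g) * g⁻¹ := by group
          _ = 1 := by rw [e, mul_one, mul_inv_cancel]
      obtain ⟨c, hc, e⟩ := htr _ (e1 h hh hh1).1 (e1 h hh hh1).2 _ (e1 h' hh' hh'1).1 (e1 h' hh' hh'1).2
      obtain ⟨i, rfl⟩ := mem_zpowers_iff.1 hc
      refine ⟨g * x ^ i * g⁻¹, ⟨i, conj_zpow⟩, ?_⟩
      calc g * x ^ i * g⁻¹ * h * (g * x ^ i * g⁻¹)⁻¹ = g * (x ^ i * (g⁻¹ * h * g) * (x ^ i)⁻¹) * g⁻¹ := by group
        _ = h' := by rw [e]; group
  · have : V.Normal := normalizer_eq_top_iff.1 hVt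
    exact no_normal_p_subgroup hpq hmix hlarge hpG hqG hr hrp hrq hrG ih V hVp hV1
  · intro M hM h2M s hs hsM
    by_cases hM2 : IsPGroup 2 M
    · exact Or.inl (prime_dvd_pgroup_card hs Nat.prime_two hM2 hsM)
    · have hpM := hmix M hM hM2 h2M
      have hlt : Nat.card M < Nat.card G :=
        lt_of_le_of_ne M.card_le_card_group fun e => hM (eq_top_of_card_eq M e)
      refine (ih M hlt (mixedHyp_subgroup hmix M) (large_of_dvd hq hlarge ?_ fun hab P => ?_) hpM h2M s hs hsM).symm
      · exact (Nat.factorization_le_iff_dvd Nat.card_pos.ne' Nat.card_pos.ne').2 M.card_subgroup_dvd_card 2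
      · exact isMulCommutative_of_le M.subtype_injective hab P

theorem two_primes_aux [Fact p.Prime] [Fact q.Prime] (hpq : p ≠ q) (hp2 : p ≠ 2) (n : ℕ) :
    ∀ (G : Type u) [Group G] [Finite G], Nat.card G = n → MixedHyp G p q → Large G p q →
      p ∣ Nat.card G → q ∣ Nat.card G → ∀ r : ℕ, r.Prime → r ∣ Nat.card G → r = p ∨ r = q := by
  induction n using Nat.strong_induction_on with
  | _ n ih =>
  intro G _ _ hn hmix hlarge hpG hqG r hr hrG
  by_contra hcon
  push Not at hcon
  have ih' : ∀ (K : Type u) [Group K] [Finite K], Nat.card K < Nat.card G → MixedHyp K p q → Large K p q →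
      p ∣ Nat.card K → q ∣ Nat.card K → ∀ r : ℕ, r.Prime → r ∣ Nat.card K → r = p ∨ r = q :=
    fun K _ _ hK => ih (Nat.card K) (hn ▸ hK) K rfl
  have hsmall : q ^ (Nat.card G).factorization q ≤ p + 1 := by
    rcases hlarge with h | ⟨h, -⟩ <;> omega
  by_cases hall : ∀ H : Subgroup G, IsPGroup q H → ∀ g ∈ normalizer (H : Set G), (orderOf g).Coprime q →
      g ∈ centralizer (H : Set G)
  · exact (no_third_of_complement hmix hpq hpG hqG (hasNormalPComplement_of_no_moved hall) hr hrG).elim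
      hcon.1 hcon.2
  · push Not at hall
    obtain ⟨H, hH, g, hg, hgq, hgc⟩ := hall
    rcases centralizes_or_big hmix hpq hpG hsmall hH hg hgq with h | ⟨hHcard, hv, x, hx, hxp, h₀, hh₀, hne⟩
    · exact hgc h
    · exact (crit_of_moved hpq hp2 hmix hlarge hpG hqG hr hcon.1 hcon.2 hrG ih' hH hHcard hv hx hxp hh₀ hne).false

end Cfsg.Agent.H86.Mixed
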