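import Mathlib.GroupTheory.SpecificGroups.Cyclic
import Mathlib.GroupTheory.QuotientGroup.Finite
import Mathlib.Data.Nat.ChineseRemainder
import Mathlib.Data.Nat.Factorization.Basic
import Cfsg.Agent.H86.Basic

/-!
Frobenius: the number of solutions of `x ^ n = 1` is a multiple of `n` when `n` divides the group order.
-/

universe u

namespace Cfsg.Agent.H86

/-- A number dividing every fibre size divides the size of the domain. -/
theorem dvd_card_of_fibers {X Y : Type*} [Finite X] (f : X → Y) (n : ℕ)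
    (h : ∀ y, n ∣ Nat.card {x : X // f x = y}) : n ∣ Nat.card X := by
  classical
  have := Fintype.ofFinite X
  let g : X → Set.range f := fun x => ⟨f x, x, rfl⟩
  have hfin : Finite (Set.range f) := (Set.finite_range f).to_subtype
  have := Fintype.ofFinite (Set.range f)
  rw [← Nat.card_congr (Equiv.sigmaFiberEquiv g), Nat.card_sigma]
  refine Finset.dvd_sum fun y _ => ?_
  rw [show Nat.card {x : X // g x = y} = Nat.card {x : X // f x = (y : Y)} from
    Nat.card_congr (Equiv.subtypeEquivRight fun x => by simp [g, Subtype.ext_iff])]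
  exact h y

/-- The number of elements of a given order is a multiple of the totient of that order. -/
theorem totient_dvd_card_orderOf {G : Type*} [Group G] [Finite G] (o : ℕ) :
    o.totient ∣ Nat.card {x : G // orderOf x = o} := by
  classical
  refine dvd_card_of_fibers (fun x : {x : G // orderOf x = o} => Subgroup.zpowers (x : G)) _ fun H => ?_
  rcases isEmpty_or_nonempty {x : {x : G // orderOf x = o} // Subgroup.zpowers (x : G) = H} with h | ⟨⟨⟨x₀, ho⟩, hH⟩⟩
  · rw [Nat.card_of_isEmpty]; exact dvd_zero _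
  · have hH' : Subgroup.zpowers x₀ = H := hH
    subst hH'
    refine dvd_of_eq ?_
    have := Fintype.ofFinite (Subgroup.zpowers x₀)
    rw [← IsCyclic.card_orderOf_eq_totient (α := Subgroup.zpowers x₀) (d := o)
      (by rw [← Nat.card_eq_fintype_card, Nat.card_zpowers, ho]), ← Fintype.card_subtype, ← Nat.card_eq_fintype_card]
    exact Nat.card_congr
      { toFun := fun y => ⟨⟨((y : Subgroup.zpowers x₀) : G), by rw [Subgroup.orderOf_coe]; exact y.2⟩,
          Subgroup.eq_of_le_of_card_ge (Subgroup.zpowers_le.2 (y : Subgroup.zpowers x₀).2)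
            (by rw [Nat.card_zpowers, Nat.card_zpowers, Subgroup.orderOf_coe, y.2, ho])⟩
        invFun := fun w => ⟨⟨((w : {x : G // orderOf x = o}) : G), by
            exact (le_of_eq w.2) (Subgroup.mem_zpowers _)⟩, by
            rw [Subgroup.orderOf_mk]; exact (w : {x : G // orderOf x = o}).2⟩
        left_inv := fun y => rfl
        right_inv := fun w => rfl }

/-- A number dividing the totient of every admissible order divides the number of such elements. -/
theorem dvd_card_of_totient {G : Type*} [Group G] [Finite G] (P : ℕ → Prop) (d : ℕ)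
    (h : ∀ o, P o → d ∣ o.totient) : d ∣ Nat.card {x : G // P (orderOf x)} := by
  refine dvd_card_of_fibers (fun x : {x : G // P (orderOf x)} => orderOf (x : G)) d fun o => ?_
  by_cases ho : P o
  · rw [Nat.card_congr (Equiv.subtypeSubtypeEquivSubtype (p := fun x : G => P (orderOf x))
      (q := fun x : G => orderOf x = o) (fun {x} hx => hx ▸ ho))]
    exact (h o ho).trans (totient_dvd_card_orderOf o)
  · haveI : IsEmpty {x : {x : G // P (orderOf x)} // orderOf (x : G) = o} :=
      ⟨fun x => ho (x.2 ▸ x.1.2)⟩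
    rw [Nat.card_of_isEmpty]; exact dvd_zero _

/-- The solutions of `z ^ r = 1` commuting with an element `y` of order prime to `r`
correspond to those in `C(y)/⟨y⟩`. -/
theorem exists_quotient_count {G : Type u} [Group G] [Finite G] (y : G) (r : ℕ) (hr : (orderOf y).Coprime r)
    (ih : ∀ (Q : Type u) [Group Q] [Finite Q], Nat.card Q * orderOf y ≤ Nat.card G →
      Nat.gcd r (Nat.card Q) ∣ Nat.card {w : Q // w ^ Nat.gcd r (Nat.card Q) = 1}) (hrG : r ∣ Nat.card G) :
    r ∣ (Subgroup.centralizer ({y} : Set G)).index * Nat.card {z : G // Commute y z ∧ z ^ r = 1} := by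
  set C := Subgroup.centralizer ({y} : Set G) with hC
  have hyC : y ∈ C := Subgroup.mem_centralizer_singleton_iff.2 rfl
  set Y := Subgroup.zpowers (⟨y, hyC⟩ : C)
  have hcomm : ∀ c : C, Commute c (⟨y, hyC⟩ : C) := fun c =>
    Subtype.ext (Subgroup.mem_centralizer_singleton_iff.1 c.2)
  haveI : Y.Normal := ⟨fun v hv c => by
    obtain ⟨i, rfl⟩ := Subgroup.mem_zpowers_iff.1 hv
    rw [((hcomm c).zpow_right i).eq, mul_inv_cancel_right]
    exact Subgroup.zpow_mem _ (Subgroup.mem_zpowers _) i⟩
  have hY : Nat.card Y = orderOf y := by rw [Nat.card_zpowers, Subgroup.orderOf_mk]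
  have hcardC : Nat.card (C ⧸ Y) * orderOf y = Nat.card C := by
    rw [← hY, ← Subgroup.index_eq_card, mul_comm, Subgroup.card_mul_index]
  set π := QuotientGroup.mk' Y
  have hbij : Function.Bijective (fun z : {z : C // z ^ r = 1} =>
      (⟨π z, by rw [← map_pow, z.2, map_one]⟩ : {w : C ⧸ Y // w ^ r = 1})) := by
    constructor
    · rintro ⟨z, hz⟩ ⟨z', hz'⟩ h
      have h' : π z = π z' := congrArg Subtype.val h
      have hm : z⁻¹ * z' ∈ Y := QuotientGroup.eq.1 h'
      obtain ⟨i, hi⟩ := Subgroup.mem_zpowers_iff.1 hm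
      have h1 : ((⟨y, hyC⟩ : C) ^ i) ^ r = 1 := by
        have hc : Commute z ((⟨y, hyC⟩ : C) ^ i) := (hcomm z).zpow_right i
        have h2 : z' = z * (⟨y, hyC⟩ : C) ^ i := by rw [hi, mul_inv_cancel_left]
        rw [h2, hc.mul_pow, hz, one_mul] at hz'
        exact hz'
      have h3 : (⟨y, hyC⟩ : C) ^ i = 1 := by
        rw [← orderOf_eq_one_iff]
        refine Nat.eq_one_of_dvd_coprimes hr ?_ (orderOf_dvd_of_pow_eq_one h1)
        rw [← hY]
        exact Subgroup.orderOf_dvd_natCard _ (Subgroup.zpow_mem _ (Subgroup.mem_zpowers _) i)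
      rw [h3] at hi
      exact Subtype.ext (inv_mul_eq_one.1 hi.symm)
    · rintro ⟨w, hw⟩
      obtain ⟨z, rfl⟩ := QuotientGroup.mk'_surjective Y w
      have hm : z ^ r ∈ Y := by
        rw [← QuotientGroup.eq_one_iff]
        show π (z ^ r) = 1
        rw [map_pow]; exact hw
      obtain ⟨m, hm'⟩ : ∃ m : ℕ, ((z ^ r) ^ r) ^ m = z ^ r :=
        exists_pow_eq_self_of_coprime (hr.symm.coprime_dvd_right (by
          rw [← hY]; exact Subgroup.orderOf_dvd_natCard _ hm))
      refine ⟨⟨z * ((z ^ r) ^ m)⁻¹, ?_⟩, Subtype.ext ?_⟩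
      · have hc : Commute z ((z ^ r) ^ m)⁻¹ := (((Commute.refl z).pow_right r).pow_right m).inv_right
        rw [hc.mul_pow, inv_pow, ← pow_mul (z ^ r), mul_comm m r, pow_mul, hm', mul_inv_cancel]
      · show π (z * ((z ^ r) ^ m)⁻¹) = π z
        rw [map_mul, map_inv, show π ((z ^ r) ^ m) = 1 from (QuotientGroup.eq_one_iff _).2 (Y.pow_mem hm m),
          inv_one, mul_one]
  have e1 : Nat.card {z : G // Commute y z ∧ z ^ r = 1} = Nat.card {z : C // z ^ r = 1} := Nat.card_congr
    { toFun := fun z => ⟨⟨z, Subgroup.mem_centralizer_singleton_iff.2 z.2.1.symm.eq⟩, Subtype.ext z.2.2⟩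
      invFun := fun z => ⟨((z : C) : G), (Commute.symm (Subgroup.mem_centralizer_singleton_iff.1 (z : C).2)),
        congrArg Subtype.val z.2⟩
      left_inv := fun z => rfl
      right_inv := fun z => rfl }
  set g := Nat.gcd r (Nat.card (C ⧸ Y))
  have e2 : Nat.card {w : C ⧸ Y // w ^ r = 1} = Nat.card {w : C ⧸ Y // w ^ g = 1} :=
    Nat.card_congr (Equiv.subtypeEquivRight fun w => by
      rw [← orderOf_dvd_iff_pow_eq_one, ← orderOf_dvd_iff_pow_eq_one, Nat.dvd_gcd_iff]
      exact ⟨fun h => ⟨h, orderOf_dvd_natCard w⟩, fun h => h.1⟩)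
  have hle : Nat.card (C ⧸ Y) * orderOf y ≤ Nat.card G := hcardC ▸ C.card_le_card_group
  have h2 : r ∣ C.index * Nat.card (C ⧸ Y) := by
    refine hr.symm.dvd_of_dvd_mul_right ?_
    rw [mul_assoc, hcardC, mul_comm, C.card_mul_index]
    exact hrG
  have h3 : r ∣ C.index * g := by
    rw [← Nat.gcd_mul_left]
    exact Nat.dvd_gcd (dvd_mul_left r _) h2
  refine h3.trans (mul_dvd_mul_left _ ?_)
  rw [e1, Nat.card_congr (Equiv.ofBijective _ hbij), e2]
  exact ih _ hle

/-- **Frobenius's theorem**: if `n` divides the order of `G`, it divides the number of solutions of `x ^ n = 1`. -/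
theorem dvd_card_pow_eq_one_aux : ∀ (N : ℕ) (G : Type u) [Group G] [Finite G], Nat.card G ≤ N →
    ∀ n : ℕ, n ∣ Nat.card G → n ∣ Nat.card {x : G // x ^ n = 1} := by
  intro N
  induction N with
  | zero => intro G _ _ hG; exact absurd (Nat.card_pos (α := G)) (by omega)
  | succ N ih =>
    intro G _ _ hG
    suffices key : ∀ k n : ℕ, n * k = Nat.card G → n ∣ Nat.card {x : G // x ^ n = 1} from
      fun n hn => key (Nat.card G / n) n (Nat.mul_div_cancel' hn)
    intro k
    induction k using Nat.strong_induction_on with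
    | _ k ihk =>
      intro n hnk
      rcases eq_or_ne k 1 with rfl | hk1
      · rw [mul_one] at hnk
        rw [Nat.card_congr (Equiv.subtypeUnivEquiv fun x : G => hnk ▸ pow_card_eq_one'), ← hnk]
      have hk0 : k ≠ 0 := fun h => by rw [h, mul_zero] at hnk; exact (Nat.card_pos (α := G)).ne' hnk.symm
      have hn0 : n ≠ 0 := fun h => by rw [h, zero_mul] at hnk; exact (Nat.card_pos (α := G)).ne' hnk.symm
      set p := k.minFac
      have hp : p.Prime := Nat.minFac_prime hk1
      obtain ⟨k', hk'⟩ := Nat.minFac_dvd k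
      have hlt : k' < k := by
        rw [hk']
        exact lt_mul_of_one_lt_left (Nat.pos_of_ne_zero fun h => hk0 (by rw [hk', h, mul_zero])) hp.one_lt
      have hnp := ihk k' hlt (n * p) (by rw [mul_assoc, ← hk', hnk])
      have hsplit : Nat.card {x : G // x ^ (n * p) = 1} =
          Nat.card {x : G // x ^ n = 1} + Nat.card {x : G // x ^ (n * p) = 1 ∧ ¬ x ^ n = 1} := by
        classical
        rw [← Nat.card_congr (Equiv.sumCompl (fun x : {x : G // x ^ (n * p) = 1} => (x : G) ^ n = 1)), Nat.card_sum]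
        congr 1
        · exact Nat.card_congr (Equiv.subtypeSubtypeEquivSubtype (p := fun x : G => x ^ (n * p) = 1)
            (q := fun x : G => x ^ n = 1) (fun {x} hx => by rw [pow_mul, hx, one_pow]))
        · exact Nat.card_congr (Equiv.subtypeSubtypeEquivSubtypeInter _ (fun x : G => ¬ x ^ n = 1))
      suffices hS : n ∣ Nat.card {x : G // x ^ (n * p) = 1 ∧ ¬ x ^ n = 1} by
        refine (Nat.dvd_add_left hS).1 ?_
        rw [← hsplit]
        exact (dvd_mul_right n p).trans hnp
      obtain ⟨b, r, hr, hn⟩ := Nat.exists_eq_pow_mul_and_not_dvd hn0 p hp.ne_one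
      have hcop : p.Coprime r := hp.coprime_iff_not_dvd.2 hr
      rw [hn]
      refine (hcop.pow_left b).mul_dvd_of_dvd_of_dvd ?_ ?_
      · -- the power of p
        have hset : ∀ x : G, (x ^ (p ^ b * r * p) = 1 ∧ ¬ x ^ (p ^ b * r) = 1) ↔
            (orderOf x ∣ p ^ b * r * p ∧ ¬ orderOf x ∣ p ^ b * r) := fun x => by
          rw [orderOf_dvd_iff_pow_eq_one, orderOf_dvd_iff_pow_eq_one]
        rw [Nat.card_congr (Equiv.subtypeEquivRight hset)]
        refine dvd_card_of_totient (fun o => o ∣ p ^ b * r * p ∧ ¬ o ∣ p ^ b * r) _ fun o ⟨ho1, ho2⟩ => ?_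
        have ho : o ≠ 0 := fun h => by
          rw [h, zero_dvd_iff] at ho1
          rw [← hn] at ho1
          exact (Nat.mul_ne_zero hn0 hp.ne_zero) ho1
        have hpo : p ^ (b + 1) ∣ o := by
          obtain ⟨a, s, hs, hos⟩ := Nat.exists_eq_pow_mul_and_not_dvd ho p hp.ne_one
          by_contra hc
          apply ho2
          have ha : a ≤ b := by
            by_contra hab
            exact hc (hos ▸ (pow_dvd_pow p (show b + 1 ≤ a by omega)).mul_right s)
          have hs' : s ∣ r := by
            have h1 : s ∣ r * p ^ (b + 1) := by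
              rw [show r * p ^ (b + 1) = p ^ b * r * p by ring]
              exact (dvd_mul_left s _).trans (hos ▸ ho1)
            exact ((hp.coprime_iff_not_dvd.2 hs).pow_left (b + 1)).symm.dvd_of_dvd_mul_right h1
          rw [hos]
          exact Nat.mul_dvd_mul (pow_dvd_pow p ha) hs'
        refine dvd_trans ?_ (Nat.totient_dvd_of_dvd hpo)
        rw [Nat.totient_prime_pow_succ hp]
        exact dvd_mul_right _ _
      · -- the part prime to p
        classical
        obtain ⟨e, he1, he2⟩ := Nat.chineseRemainder (hcop.pow_left (b + 1)) 1 0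
        have hre : r ∣ e := (Nat.modEq_zero_iff_dvd).1 he2
        have hrG : r ∣ Nat.card G := (hn ▸ dvd_mul_left r (p ^ b) : r ∣ n).trans (Dvd.intro k hnk)
        let T : {y : G // orderOf y = p ^ (b + 1)} → Type u := fun y => {z : G // Commute (y : G) z ∧ z ^ r = 1}
        have hprops : ∀ x : G, x ^ (p ^ b * r * p) = 1 → ¬ x ^ (p ^ b * r) = 1 →
            orderOf (x ^ e) = p ^ (b + 1) ∧ (x * (x ^ e)⁻¹) ^ r = 1 ∧ Commute (x ^ e) (x * (x ^ e)⁻¹) := by
          intro x hx1 hx2
          have hc : Commute x (x ^ e)⁻¹ := ((Commute.refl x).pow_right e).inv_right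
          have hc2 : Commute (x ^ e) (x * (x ^ e)⁻¹) :=
            ((Commute.refl x).pow_left e).mul_right ((Commute.refl (x ^ e)).inv_right)
          have hr2 : (x * (x ^ e)⁻¹) ^ r = 1 := by
            rw [hc.mul_pow, inv_pow, mul_inv_eq_one, ← pow_mul, pow_eq_pow_iff_modEq]
            refine Nat.ModEq.of_dvd (orderOf_dvd_of_pow_eq_one hx1) ?_
            rw [show p ^ b * r * p = p ^ (b + 1) * r by ring]
            simpa using (he1.symm.mul_right' r)
          refine ⟨?_, hr2, hc2⟩
          have h1 : (x ^ e) ^ p ^ (b + 1) = 1 := by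
            obtain ⟨t, rfl⟩ := hre
            rw [← pow_mul, show r * t * p ^ (b + 1) = p ^ b * r * p * t by ring, pow_mul, hx1, one_pow]
          haveI : Fact p.Prime := ⟨hp⟩
          refine orderOf_eq_prime_pow (fun h0 => hx2 ?_) h1
          calc x ^ (p ^ b * r) = (x ^ e * (x * (x ^ e)⁻¹)) ^ (p ^ b * r) := by
                rw [hc2.eq, inv_mul_cancel_right]
            _ = 1 := by
                rw [hc2.mul_pow, pow_mul, h0, one_pow, one_mul, mul_comm, pow_mul, hr2, one_pow]
        have hback : ∀ (y z : G), orderOf y = p ^ (b + 1) → Commute y z → z ^ r = 1 → (y * z) ^ e = y := by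
          intro y z hy hc hz
          obtain ⟨t, ht⟩ := hre
          rw [hc.mul_pow]
          conv_lhs => arg 2; rw [ht, pow_mul, hz, one_pow]
          rw [mul_one]
          conv_rhs => rw [← pow_one y]
          rw [pow_eq_pow_iff_modEq, hy]
          exact he1
        rw [Nat.card_congr (show {x : G // x ^ (p ^ b * r * p) = 1 ∧ ¬ x ^ (p ^ b * r) = 1} ≃ Σ y, T y from
          { toFun := fun x => ⟨⟨(x : G) ^ e, (hprops x x.2.1 x.2.2).1⟩,
              ⟨(x : G) * ((x : G) ^ e)⁻¹, (hprops x x.2.1 x.2.2).2.2, (hprops x x.2.1 x.2.2).2.1⟩⟩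
            invFun := fun yz => ⟨(yz.1 : G) * (yz.2.1 : G), by
                rw [yz.2.2.1.mul_pow]
                have hyz : (yz.1 : G) ^ p ^ (b + 1) = 1 := orderOf_dvd_iff_pow_eq_one.1 (dvd_of_eq yz.1.2)
                rw [show p ^ b * r * p = p ^ (b + 1) * r by ring, pow_mul, hyz, one_pow,
                  one_mul, mul_comm, pow_mul, yz.2.2.2, one_pow], fun h => by
                rw [yz.2.2.1.mul_pow] at h
                have hz : (yz.2.1 : G) ^ (p ^ b * r) = 1 := by rw [mul_comm, pow_mul, yz.2.2.2, one_pow]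
                rw [hz, mul_one] at h
                have h1 : p ^ (b + 1) ∣ p ^ b * r := yz.1.2 ▸ orderOf_dvd_of_pow_eq_one h
                rw [pow_succ] at h1
                exact hr ((Nat.mul_dvd_mul_iff_left (pow_pos hp.pos b)).1 h1)⟩
            left_inv := fun x => Subtype.ext (by
              show (x : G) ^ e * ((x : G) * ((x : G) ^ e)⁻¹) = x
              rw [((hprops x x.2.1 x.2.2).2.2).eq, inv_mul_cancel_right])
            right_inv := fun yz => by
              obtain ⟨⟨y, hy⟩, ⟨z, hc, hz⟩⟩ := yz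
              have h := hback y z hy hc hz
              refine Sigma.subtype_ext (Subtype.ext h) ?_
              show y * z * ((y * z) ^ e)⁻¹ = z
              rw [h, hc.eq, mul_inv_cancel_right] })]
        -- group by classes
        refine dvd_card_of_fibers (fun yz : Σ y, T y => ConjClasses.mk (yz.1 : G)) r fun c => ?_
        rcases isEmpty_or_nonempty {yz : Σ y, T y // ConjClasses.mk (yz.1 : G) = c} with h | ⟨⟨⟨⟨y₀, hy₀⟩, z₀⟩, hc₀⟩⟩
        · rw [Nat.card_of_isEmpty]; exact dvd_zero _
        · have hc₀' : ConjClasses.mk y₀ = c := hc₀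
          let F := {y : {y : G // orderOf y = p ^ (b + 1)} // ConjClasses.mk (y : G) = c}
          have e3 : {yz : Σ y, T y // ConjClasses.mk (yz.1 : G) = c} ≃ Σ y : F, T y.1 :=
            { toFun := fun yz => ⟨⟨yz.1.1, yz.2⟩, yz.1.2⟩
              invFun := fun w => ⟨⟨w.1.1, w.2⟩, w.1.2⟩
              left_inv := fun yz => rfl
              right_inv := fun w => rfl }
          have e4 : ∀ y : F, Nat.card (T y.1) = Nat.card {z : G // Commute y₀ z ∧ z ^ r = 1} := by
            intro y
            obtain ⟨g, hg⟩ := isConj_iff.1 (ConjClasses.mk_eq_mk_iff_isConj.1 (hc₀'.trans y.2.symm))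
            refine (Nat.card_congr ((MulAut.conj g).toEquiv.subtypeEquiv fun z => ?_)).symm
            show Commute y₀ z ∧ z ^ r = 1 ↔ Commute (y.1 : G) (g * z * g⁻¹) ∧ (g * z * g⁻¹) ^ r = 1
            rw [← hg]
            refine and_congr ?_ ?_
            · exact ⟨fun h => h.map (MulAut.conj g), fun h => (MulAut.conj g).injective (by
                rw [map_mul, map_mul]; exact h)⟩
            · rw [conj_pow, mul_inv_eq_one, mul_eq_left]
          have e5 : Nat.card F = (Subgroup.centralizer ({y₀} : Set G)).index := by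
            rw [← ncard_carrier_eq_index, ← Nat.card_coe_set_eq]
            refine Nat.card_congr
              { toFun := fun y => ⟨(y.1 : G), ConjClasses.mem_carrier_iff_mk_eq.2 (y.2.trans hc₀'.symm)⟩
                invFun := fun w => ⟨⟨w, ?_⟩, (ConjClasses.mem_carrier_iff_mk_eq.1 w.2).trans hc₀'⟩
                left_inv := fun y => rfl
                right_inv := fun w => rfl }
            obtain ⟨g, hg⟩ := isConj_iff.1 (ConjClasses.mk_eq_mk_iff_isConj.1 (ConjClasses.mem_carrier_iff_mk_eq.1 w.2).symm)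
            rw [← hg]
            exact (orderOf_injective (MulAut.conj g).toMonoidHom (MulAut.conj g).injective y₀).trans hy₀
          have := Fintype.ofFinite F
          rw [Nat.card_congr e3, Nat.card_sigma, Finset.sum_congr rfl (fun y _ => e4 y), Finset.sum_const,
            smul_eq_mul, Finset.card_univ, ← Nat.card_eq_fintype_card, e5]
          refine exists_quotient_count y₀ r (by rw [hy₀]; exact hcop.pow_left _) (fun Q _ _ hQ => ?_) hrG
          refine ih Q ?_ _ (Nat.gcd_dvd_right _ _)
          have h2 : 2 ≤ orderOf y₀ := hy₀ ▸ hp.two_le.trans (Nat.le_self_pow (by omega) p)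
          nlinarith [Nat.card_pos (α := Q)]

/-- **Frobenius's theorem** on the number of solutions of `x ^ n = 1`. -/
theorem dvd_card_pow_eq_one {G : Type u} [Group G] [Finite G] {n : ℕ} (hn : n ∣ Nat.card G) :
    n ∣ Nat.card {x : G // x ^ n = 1} :=
  dvd_card_pow_eq_one_aux _ G le_rfl n hn

/-- The elements with `x ^ M = 1` whose order is a multiple of prescribed prime powers: their number is
divisible by each divisor of `M` prime to those primes. -/
theorem dvd_card_pow_eq_one_orderOf {G : Type u} [Group G] [Finite G] (a : ℕ → ℕ) (D : ℕ) (s : Finset ℕ)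
    (hs : ∀ p ∈ s, p.Prime ∧ ¬ p ∣ D) :
    ∀ M : ℕ, D ∣ M → M ∣ Nat.card G →
      D ∣ Nat.card {x : G // x ^ M = 1 ∧ ∀ p ∈ s, p ^ a p ∣ orderOf x} := by
  classical
  induction s using Finset.induction_on with
  | empty =>
    intro M hDM hM
    rw [Nat.card_congr (Equiv.subtypeEquivRight fun x : G => show (x ^ M = 1 ∧ ∀ p ∈ (∅ : Finset ℕ), p ^ a p ∣ orderOf x) ↔ x ^ M = 1 by simp)]
    exact hDM.trans (dvd_card_pow_eq_one hM)
  | @insert p s hp ih =>
    intro M hDM hM
    obtain ⟨hpp, hpD⟩ := hs p (Finset.mem_insert_self p s)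
    specialize ih (fun q hq => hs q (Finset.mem_insert_of_mem hq))
    have h0 := ih M hDM hM
    have hsplit : Nat.card {x : G // x ^ M = 1 ∧ ∀ q ∈ s, q ^ a q ∣ orderOf x} =
        Nat.card {x : G // x ^ M = 1 ∧ ∀ q ∈ insert p s, q ^ a q ∣ orderOf x} +
        Nat.card {x : G // (x ^ M = 1 ∧ ∀ q ∈ s, q ^ a q ∣ orderOf x) ∧ ¬ p ^ a p ∣ orderOf x} := by
      rw [← Nat.card_congr (Equiv.sumCompl (fun x : {x : G // x ^ M = 1 ∧ ∀ q ∈ s, q ^ a q ∣ orderOf x} =>
        p ^ a p ∣ orderOf (x : G))), Nat.card_sum]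
      congr 1
      · refine Nat.card_congr ((Equiv.subtypeSubtypeEquivSubtypeInter _ (fun x : G => p ^ a p ∣ orderOf x)).trans
          (Equiv.subtypeEquivRight fun x => ?_))
        simp [Finset.forall_mem_insert, and_assoc, and_comm, and_left_comm]
      · exact Nat.card_congr (Equiv.subtypeSubtypeEquivSubtypeInter _ (fun x : G => ¬ p ^ a p ∣ orderOf x))
    rw [hsplit] at h0
    refine (Nat.dvd_add_left ?_).1 h0
    rcases Nat.eq_zero_or_pos (a p) with ha | ha
    · haveI : IsEmpty {x : G // (x ^ M = 1 ∧ ∀ q ∈ s, q ^ a q ∣ orderOf x) ∧ ¬ p ^ a p ∣ orderOf x} :=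
        ⟨fun x => x.2.2 (by simp [ha])⟩
      rw [Nat.card_of_isEmpty]; exact dvd_zero _
    have hM0 : M ≠ 0 := fun h => (Nat.card_pos (α := G)).ne' (zero_dvd_iff.1 (h ▸ hM))
    obtain ⟨c, m, hm, hMm⟩ := Nat.exists_eq_pow_mul_and_not_dvd hM0 p hpp.ne_one
    have hM' : p ^ min c (a p - 1) * m ∣ M := hMm ▸ Nat.mul_dvd_mul (pow_dvd_pow p (min_le_left _ _)) dvd_rfl
    have hDm : D ∣ m := by
      rw [hMm] at hDM
      exact (((hpp.coprime_iff_not_dvd.2 hpD).pow_left c).symm).dvd_of_dvd_mul_left hDM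
    rw [Nat.card_congr (Equiv.subtypeEquivRight fun x : G =>
      show ((x ^ M = 1 ∧ ∀ q ∈ s, q ^ a q ∣ orderOf x) ∧ ¬ p ^ a p ∣ orderOf x) ↔
        (x ^ (p ^ min c (a p - 1) * m) = 1 ∧ ∀ q ∈ s, q ^ a q ∣ orderOf x) from ?_)]
    · exact ih _ (hDm.trans (dvd_mul_left m _)) (hM'.trans hM)
    constructor
    · rintro ⟨⟨h1, h2⟩, h3⟩
      refine ⟨?_, h2⟩
      rw [← orderOf_dvd_iff_pow_eq_one] at h1 ⊢
      obtain ⟨t, u, hu, htu⟩ := Nat.exists_eq_pow_mul_and_not_dvd (orderOf_pos x).ne' p hpp.ne_one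
      rw [htu] at h1 h3 ⊢
      rw [hMm] at h1
      have ht : t ≤ c := by
        have h4 : p ^ t ∣ p ^ c := ((hpp.coprime_iff_not_dvd.2 hm).pow_left t).dvd_of_dvd_mul_right
          ((dvd_mul_right _ _).trans h1)
        exact (Nat.pow_dvd_pow_iff_le_right hpp.one_lt).1 h4
      have ht2 : t ≤ a p - 1 := by
        by_contra hc2
        exact h3 ((pow_dvd_pow p (show a p ≤ t by omega)).mul_right u)
      exact Nat.mul_dvd_mul (pow_dvd_pow p (le_min ht ht2))
        (((hpp.coprime_iff_not_dvd.2 hu).pow_left c).symm.dvd_of_dvd_mul_left ((dvd_mul_left _ _).trans h1))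
    · rintro ⟨h1, h2⟩
      refine ⟨⟨?_, h2⟩, fun h3 => ?_⟩
      · rw [← orderOf_dvd_iff_pow_eq_one] at h1 ⊢
        exact h1.trans hM'
      · rw [← orderOf_dvd_iff_pow_eq_one] at h1
        have h4 : p ^ a p ∣ p ^ min c (a p - 1) :=
          ((hpp.coprime_iff_not_dvd.2 hm).pow_left _).dvd_of_dvd_mul_right (h3.trans h1)
        have h5 := (Nat.pow_dvd_pow_iff_le_right hpp.one_lt).1 h4
        omega

end Cfsg.Agent.H86
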