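import Mathlib.GroupTheory.Sylow
import Mathlib.NumberTheory.Divisors
import Cfsg.Agent.H86.SolutionCount
import Cfsg.Agent.H86.Basic

/-!
Numbers of elements of given orders.
-/

namespace Cfsg.Agent.H86

variable {G : Type*} [Group G] [Finite G]

/-- The number of elements of order `m`. -/
noncomputable def orderCount (G : Type*) [Group G] (m : ℕ) : ℕ := Nat.card {g : G // orderOf g = m}

theorem totient_dvd_orderCount (m : ℕ) : m.totient ∣ orderCount G m := totient_dvd_card_orderOf m

theorem orderCount_pos {g : G} : 0 < orderCount G (orderOf g) :=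
  have : Nonempty {x : G // orderOf x = orderOf g} := ⟨⟨g, rfl⟩⟩
  Nat.card_pos

theorem orderCount_one : orderCount G 1 = 1 := by
  rw [orderCount, Nat.card_congr (Equiv.subtypeEquivRight fun x : G => orderOf_eq_one_iff)]
  exact Nat.card_unique

theorem even_totient_of_three_le {m : ℕ} (hm : 3 ≤ m) : 2 ∣ m.totient :=
  even_iff_two_dvd.1 (Nat.totient_even hm)

theorem sum_orderCount (m : ℕ) (hm : m ≠ 0) :
    Nat.card {x : G // x ^ m = 1} = ∑ d ∈ m.divisors, orderCount G d := by
  classical
  have := Fintype.ofFinite G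
  simp only [orderCount, Nat.card_eq_fintype_card, Fintype.card_subtype]
  exact (sum_card_orderOf_eq_card_pow_eq_one hm).symm

theorem dvd_sum_orderCount {m : ℕ} (hm : m ≠ 0) (hd : m ∣ Nat.card G) :
    m ∣ ∑ d ∈ m.divisors, orderCount G d :=
  sum_orderCount (G := G) m hm ▸ dvd_card_pow_eq_one hd

theorem prime_dvd_orderCount_add_one {p : ℕ} (hp : p.Prime) (hd : p ∣ Nat.card G) :
    p ∣ orderCount G p + 1 := by
  have := dvd_sum_orderCount hp.ne_zero hd
  rwa [hp.divisors, Finset.sum_pair hp.ne_one.symm, orderCount_one, add_comm] at this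

open scoped Pointwise in
/-- An element of prime order `q` acts without fixed points on the elements of order `m` when no
element of order `m` commutes with it. -/
theorem prime_dvd_orderCount {y : G} {q m : ℕ} [Fact q.Prime] (hy : orderOf y = q)
    (h : ∀ x : G, orderOf x = m → ¬ Commute y x) : q ∣ orderCount G m := by
  let X := {g : G // orderOf g = m}
  let act : MulAction (Subgroup.zpowers y) X :=
    { smul := fun u x => ⟨(u : G) * x * (u : G)⁻¹, ((MulAut.conj (u : G)).orderOf_eq _).trans x.2⟩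
      one_smul := fun x => Subtype.ext (show ((1 : Subgroup.zpowers y) : G) * x * ((1 : Subgroup.zpowers y) : G)⁻¹ = x by simp)
      mul_smul := fun u v x => Subtype.ext (show ((u * v : Subgroup.zpowers y) : G) * x * ((u * v : Subgroup.zpowers y) : G)⁻¹ =
          (u : G) * ((v : G) * x * (v : G)⁻¹) * (u : G)⁻¹ by simp [mul_assoc]) }
  have hp : IsPGroup q (Subgroup.zpowers y) := IsPGroup.of_card (n := 1) (by rw [Nat.card_zpowers, hy, pow_one])
  have he : IsEmpty (MulAction.fixedPoints (Subgroup.zpowers y) X) := by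
    refine ⟨fun x => h x.1.1 x.1.2 ?_⟩
    have h1 : y * x.1.1 * y⁻¹ = x.1.1 := congrArg Subtype.val (x.2 ⟨y, Subgroup.mem_zpowers y⟩)
    exact mul_inv_eq_iff_eq_mul.1 h1
  have h2 := hp.card_modEq_card_fixedPoints X
  rw [Nat.card_of_isEmpty (α := MulAction.fixedPoints (Subgroup.zpowers y) X)] at h2
  exact Nat.modEq_zero_iff_dvd.1 h2

theorem exists_orderOf_eq_of_dvd' {g : G} {n : ℕ} (hn : n ∣ orderOf g) : ∃ h : G, orderOf h = n := by
  obtain ⟨k, hk⟩ := hn
  refine ⟨g ^ k, ?_⟩
  have hk0 : k ≠ 0 := by rintro rfl; simp [(orderOf_pos g).ne'] at hk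
  rw [orderOf_pow' g hk0, hk, Nat.gcd_mul_left_left, Nat.mul_div_cancel _ (Nat.pos_of_ne_zero hk0)]

theorem not_dvd_add_one {p n : ℕ} (hp : p.Prime) (h : p ∣ n + 1) : ¬ p ∣ n := fun h' =>
  hp.ne_one (Nat.dvd_one.1 ((Nat.dvd_add_right h').1 h))

end Cfsg.Agent.H86
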