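import Cfsg.Agent.H86.OrderCounts
import Cfsg.Agent.H86.TwoFrobenius
import Cfsg.Agent.H19.MinimalNormal
import Cfsg.Agent.H25.Burnside
import Cfsg.Prelude.Def_Solvable
import Mathlib.Algebra.Field.ZMod

/-!
Groups of odd order in which the numbers of elements of each order take three values.
-/

namespace Cfsg.Agent.H86

open Finset

theorem sum_divisors_mul_prime {m r : ℕ} (hm : m ≠ 0) (hr : r.Prime) (hrm : ¬ r ∣ m) (f : ℕ → ℕ) :
    ∑ d ∈ (m * r).divisors, f d = ∑ d ∈ m.divisors, f d + ∑ d ∈ m.divisors, f (d * r) := by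
  have hinj : Function.Injective (fun d => d * r) := fun a b h => Nat.eq_of_mul_eq_mul_right hr.pos h
  rw [← sum_image (g := fun d => d * r) (f := f) fun a _ b _ h => hinj h]
  rw [← sum_union (disjoint_left.2 fun d hd hd' => by
    obtain ⟨c, -, rfl⟩ := mem_image.1 hd'
    exact hrm ((dvd_mul_left r c).trans (Nat.dvd_of_mem_divisors hd)))]
  refine sum_congr ?_ fun _ _ => rfl
  ext d
  simp only [Nat.mem_divisors, mem_union, mem_image]
  constructor
  · rintro ⟨hd, -⟩
    by_cases hrd : r ∣ d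
    · obtain ⟨c, rfl⟩ := hrd
      exact Or.inr ⟨c, ⟨Nat.dvd_of_mul_dvd_mul_left hr.pos (mul_comm m r ▸ hd), hm⟩, mul_comm _ _⟩
    · exact Or.inl ⟨(Nat.Coprime.dvd_of_dvd_mul_right ((hr.coprime_iff_not_dvd.2 hrd).symm) hd), hm⟩
  · rintro (⟨h, -⟩ | ⟨c, ⟨h, -⟩, rfl⟩)
    · exact ⟨h.trans (dvd_mul_right m r), mul_ne_zero hm hr.ne_zero⟩
    · exact ⟨Nat.mul_dvd_mul_right h r, mul_ne_zero hm hr.ne_zero⟩

theorem sum_divisors_prime_mul {p q : ℕ} (hp : p.Prime) (hq : q.Prime) (hpq : p ≠ q) (f : ℕ → ℕ) :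
    ∑ d ∈ (p * q).divisors, f d = f 1 + f p + (f q + f (p * q)) := by
  rw [sum_divisors_mul_prime hp.ne_zero hq (fun h => hpq ((Nat.prime_dvd_prime_iff_eq hq hp).1 h).symm),
    hp.divisors, sum_pair hp.ne_one.symm, sum_pair hp.ne_one.symm, one_mul]

variable {G : Type*} [Group G] [Finite G]

theorem orderCount_eq_zero {m : ℕ} (h : ∀ g : G, orderOf g ≠ m) : orderCount G m = 0 :=
  have : IsEmpty {g : G // orderOf g = m} := ⟨fun g => h g g.2⟩
  Nat.card_of_isEmpty

theorem sum_orderCount_exponent_prime {p : ℕ} (hp : p.Prime) (e : ℕ) (he : e ≠ 0)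
    (h2 : ∀ g : G, orderOf g ≠ p ^ 2) (f : ℕ → ℕ)
    (hf : ∀ d, (∀ g : G, ¬ d ∣ orderOf g) → f d = 0) :
    ∑ d ∈ (p ^ e).divisors, f d = f 1 + f p := by
  rw [← sum_pair hp.ne_one.symm]
  refine (sum_subset ?_ fun d hd hd' => hf d fun g hg => ?_).symm
  · intro d hd
    rw [Nat.mem_divisors]
    refine ⟨?_, pow_ne_zero _ hp.ne_zero⟩
    rcases mem_insert.1 hd with rfl | hd
    · exact one_dvd _
    · rw [mem_singleton.1 hd]; exact dvd_pow_self p he
  · obtain ⟨i, -, rfl⟩ := (Nat.dvd_prime_pow hp).1 (Nat.dvd_of_mem_divisors hd)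
    have hi : 2 ≤ i := by
      by_contra h
      interval_cases i <;> simp at hd'
    obtain ⟨x, hx⟩ := exists_orderOf_eq_of_dvd' ((pow_dvd_pow p hi).trans hg)
    exact h2 x hx

/-- The numbers of elements of each nontrivial order take only the values `a` and `b`. -/
def TwoValued (G : Type*) [Group G] (a b : ℕ) : Prop :=
  a ≠ b ∧ ∀ g : G, g ≠ 1 → orderCount G (orderOf g) = a ∨ orderCount G (orderOf g) = b

theorem TwoValued.symm {a b : ℕ} (h : TwoValued G a b) : TwoValued G b a :=
  ⟨h.1.symm, fun g hg => (h.2 g hg).symm⟩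

theorem TwoValued.value {a b m : ℕ} (h : TwoValued G a b) (hm : m ≠ 1) (h0 : orderCount G m ≠ 0) :
    orderCount G m = a ∨ orderCount G m = b := by
  obtain ⟨g, hg⟩ : ∃ g : G, orderOf g = m := by
    by_contra hne
    push Not at hne
    exact h0 (orderCount_eq_zero hne)
  rw [← hg]
  exact h.2 g (by rintro rfl; exact hm (hg ▸ orderOf_one))

theorem cast_orderCount_prime {p : ℕ} (hp : p.Prime) (hd : p ∣ Nat.card G) :
    ((orderCount G p : ℕ) : ZMod p) = -1 := by
  have h := (ZMod.natCast_eq_zero_iff (orderCount G p + 1) p).2 (prime_dvd_orderCount_add_one (G := G) hp hd)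
  push_cast at h
  linear_combination h

theorem cast_sum_orderCount {n p : ℕ} (hn : n ≠ 0) (hd : n ∣ Nat.card G) (hp : p ∣ n) :
    ((∑ d ∈ n.divisors, orderCount G d : ℕ) : ZMod p) = 0 :=
  (ZMod.natCast_eq_zero_iff _ p).2 (hp.trans (dvd_sum_orderCount hn hd))

theorem not_dvd_orderCount_prime {p : ℕ} (hp : p.Prime) (hd : p ∣ Nat.card G) : ¬ p ∣ orderCount G p :=
  not_dvd_add_one hp (prime_dvd_orderCount_add_one hp hd)

theorem two_ne_zero_zmod (hodd : Odd (Nat.card G)) {p : ℕ} (hp : p.Prime) (hd : p ∣ Nat.card G) :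
    (2 : ZMod p) ≠ 0 := by
  intro h
  have h2 : p ∣ 2 := (ZMod.natCast_eq_zero_iff 2 p).1 (by exact_mod_cast h)
  rw [Nat.prime_dvd_prime_iff_eq hp Nat.prime_two] at h2
  exact Nat.not_even_iff_odd.2 hodd (even_iff_two_dvd.2 (h2 ▸ hd))

/-- Two primes with the same count force the counts of the products. -/
theorem orderCount_mul_of_eq (hodd : Odd (Nat.card G)) {a b p q : ℕ} (h : TwoValued G a b)
    (hp : p.Prime) (hq : q.Prime) (hpd : p ∣ Nat.card G) (hqd : q ∣ Nat.card G) (hpq : p ≠ q)
    (hpa : orderCount G p = a) (hqa : orderCount G q = a) :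
    orderCount G (p * q) = b ∧ ((b : ℕ) : ZMod p) = 1 ∧ ∀ g : G, orderOf g ≠ p ^ 2 := by
  have := Fact.mk hp
  have hdvd : p * q ∣ Nat.card G := ((Nat.coprime_primes hp hq).2 hpq).mul_dvd_of_dvd_of_dvd hpd hqd
  have hs := cast_sum_orderCount (p := p) (mul_ne_zero hp.ne_zero hq.ne_zero) hdvd (dvd_mul_right p q)
  have ha : ((a : ℕ) : ZMod p) = -1 := hpa ▸ cast_orderCount_prime hp hpd
  rw [sum_divisors_prime_mul hp hq hpq, orderCount_one, hpa, hqa] at hs
  push_cast at hs
  have hf : ((orderCount G (p * q) : ℕ) : ZMod p) = 1 := by linear_combination hs - 2 * ha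
  have hne : orderCount G (p * q) ≠ 0 := fun h0 => by rw [h0, Nat.cast_zero] at hf; exact zero_ne_one hf
  have hm1 : p * q ≠ 1 := fun h0 => hp.ne_one (Nat.eq_one_of_mul_eq_one_right h0)
  have hb : orderCount G (p * q) = b := by
    rcases h.value hm1 hne with he | he
    · exfalso
      rw [he, ha] at hf
      exact two_ne_zero_zmod hodd hp hpd (by linear_combination -hf)
    · exact he
  rw [hb] at hf
  refine ⟨hb, hf, fun g hg => ?_⟩
  have ht : p ∣ orderCount G (p ^ 2) := by
    refine dvd_trans ?_ (totient_dvd_orderCount (G := G) (p ^ 2))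
    rw [Nat.totient_prime_pow hp two_pos]; exact dvd_mul_of_dvd_left (dvd_pow_self p (by norm_num)) _
  have h0 : orderCount G (p ^ 2) ≠ 0 := hg ▸ orderCount_pos.ne'
  have hcast : ((orderCount G (p ^ 2) : ℕ) : ZMod p) = 0 := (ZMod.natCast_eq_zero_iff _ p).2 ht
  rcases h.value (fun h1 => hp.ne_one ((Nat.pow_eq_one.1 h1).resolve_right two_ne_zero)) h0 with he | he <;> rw [he] at hcast
  · rw [hcast] at ha; exact zero_ne_one (by linear_combination -ha : (0 : ZMod p) = 1)|>.elim
  · rw [hcast] at hf; exact zero_ne_one hf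

/-- All the prime counts agree if two do. -/
theorem orderCount_prime_eq_of_eq (hodd : Odd (Nat.card G)) {a b p q r : ℕ} (h : TwoValued G a b)
    (hp : p.Prime) (hq : q.Prime) (hr : r.Prime) (hpd : p ∣ Nat.card G) (hqd : q ∣ Nat.card G)
    (hrd : r ∣ Nat.card G) (hpq : p ≠ q) (hpa : orderCount G p = a) (hqa : orderCount G q = a) :
    orderCount G r = a := by
  by_contra hra
  have := Fact.mk hr
  have hrb : orderCount G r = b :=
    (h.value hr.ne_one (fun h0 => not_dvd_orderCount_prime hr hrd (h0 ▸ dvd_zero r))).resolve_left hra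
  have hpr : p ≠ r := fun e => hra (e ▸ hpa)
  have hqr : q ≠ r := fun e => hra (e ▸ hqa)
  obtain ⟨hpqb, hbp, -⟩ := orderCount_mul_of_eq hodd h hp hq hpd hqd hpq hpa hqa
  have hbq := (orderCount_mul_of_eq hodd h hq hp hqd hpd hpq.symm hqa hpa).2.1
  have key : ∀ s : ℕ, s.Prime → s ∣ Nat.card G → s ≠ r → orderCount G s = a → ((b : ℕ) : ZMod s) = 1 →
      orderCount G (s * r) = a ∧ ((a : ℕ) : ZMod r) = 0 := by
    intro s hs hsd hsr hsa hbs
    have := Fact.mk hs
    have hdvd : s * r ∣ Nat.card G := ((Nat.coprime_primes hs hr).2 hsr).mul_dvd_of_dvd_of_dvd hsd hrd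
    have e1 := cast_sum_orderCount (p := s) (mul_ne_zero hs.ne_zero hr.ne_zero) hdvd (dvd_mul_right s r)
    have e2 := cast_sum_orderCount (p := r) (mul_ne_zero hs.ne_zero hr.ne_zero) hdvd (dvd_mul_left r s)
    have has : ((a : ℕ) : ZMod s) = -1 := hsa ▸ cast_orderCount_prime hs hsd
    have hbr : ((b : ℕ) : ZMod r) = -1 := hrb ▸ cast_orderCount_prime hr hrd
    rw [sum_divisors_prime_mul hs hr hsr, orderCount_one, hsa, hrb] at e1 e2
    push_cast at e1 e2
    have hf : ((orderCount G (s * r) : ℕ) : ZMod s) = -1 := by linear_combination e1 - has - hbs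
    have hne : orderCount G (s * r) ≠ 0 := fun h0 => by
      rw [h0, Nat.cast_zero] at hf; exact one_ne_zero (by linear_combination hf : (1 : ZMod s) = 0)
    have hfa : orderCount G (s * r) = a := by
      rcases h.value (fun h0 => hs.ne_one (Nat.eq_one_of_mul_eq_one_right h0)) hne with he | he
      · exact he
      · exfalso; rw [he, hbs] at hf
        exact two_ne_zero_zmod hodd hs hsd (by linear_combination hf)
    refine ⟨hfa, ?_⟩
    rw [hfa] at e2
    have : (2 : ZMod r) * (a : ZMod r) = 0 := by linear_combination e2 - hbr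
    exact (mul_eq_zero.1 this).resolve_left (two_ne_zero_zmod hodd hr hrd)
  obtain ⟨hpra, har⟩ := key p hp hpd hpr hpa hbp
  obtain ⟨hqra, -⟩ := key q hq hqd hqr hqa hbq
  have hndvd : ¬ r ∣ p * q := fun h' => (hr.dvd_mul.1 h').elim
    (fun h'' => hpr ((Nat.prime_dvd_prime_iff_eq hr hp).1 h'').symm) (fun h'' => hqr ((Nat.prime_dvd_prime_iff_eq hr hq).1 h'').symm)
  have hn : p * q ≠ 0 := mul_ne_zero hp.ne_zero hq.ne_zero
  have hdvd : p * q * r ∣ Nat.card G :=
    (hr.coprime_iff_not_dvd.2 hndvd).symm.mul_dvd_of_dvd_of_dvd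
      (((Nat.coprime_primes hp hq).2 hpq).mul_dvd_of_dvd_of_dvd hpd hqd) hrd
  have e1 := cast_sum_orderCount (p := p) (mul_ne_zero hn hr.ne_zero) hdvd ((dvd_mul_right p q).trans (dvd_mul_right _ r))
  have e2 := cast_sum_orderCount (p := r) (mul_ne_zero hn hr.ne_zero) hdvd (dvd_mul_left r _)
  have := Fact.mk hp
  rw [sum_divisors_mul_prime hn hr hndvd, sum_divisors_prime_mul hp hq hpq, sum_divisors_prime_mul hp hq hpq,
    orderCount_one, one_mul, hpa, hqa, hrb, hpqb, hpra, hqra] at e1 e2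
  push_cast at e1 e2
  have hap : ((a : ℕ) : ZMod p) = -1 := hpa ▸ cast_orderCount_prime hp hpd
  have hbr : ((b : ℕ) : ZMod r) = -1 := hrb ▸ cast_orderCount_prime hr hrd
  have hf : ((orderCount G (p * q * r) : ℕ) : ZMod p) = 1 := by linear_combination e1 - 4 * hap - 2 * hbp
  have hne : orderCount G (p * q * r) ≠ 0 := fun h0 => by rw [h0, Nat.cast_zero] at hf; exact zero_ne_one hf
  rcases h.value (fun h0 => hr.ne_one (Nat.eq_one_of_mul_eq_one_left h0)) hne with he | he
  · rw [he, hap] at hf; exact two_ne_zero_zmod hodd hp hpd (by linear_combination -hf)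
  · rw [he] at e2
    exact two_ne_zero_zmod hodd hr hrd (by linear_combination -e2 + 4 * har + 3 * hbr)

/-- Two different primes have different counts. -/
theorem orderCount_prime_ne (hodd : Odd (Nat.card G)) {a b p q : ℕ} (h : TwoValued G a b)
    (hp : p.Prime) (hq : q.Prime) (hpd : p ∣ Nat.card G) (hqd : q ∣ Nat.card G) (hpq : p ≠ q)
    (hpa : orderCount G p = a) : orderCount G q ≠ a := by
  intro hqa
  obtain ⟨hpqb, -, -⟩ := orderCount_mul_of_eq hodd h hp hq hpd hqd hpq hpa hqa
  have hall := fun r hr hrd => orderCount_prime_eq_of_eq (r := r) hodd h hp hq hr hpd hqd hrd hpq hpa hqa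
  -- `a + b` is divisible by the order
  have hdvd : Nat.card G ∣ a + b := by
    refine (Nat.dvd_iff_prime_pow_dvd_dvd _ _).2 fun r k hr hk => ?_
    rcases k.eq_zero_or_pos with rfl | hk0
    · simp
    have hrd : r ∣ Nat.card G := (dvd_pow_self r hk0.ne').trans hk
    obtain ⟨s, hs, hsd, hsr⟩ : ∃ s, s.Prime ∧ s ∣ Nat.card G ∧ r ≠ s := by
      by_cases hrp : r = p
      · exact ⟨q, hq, hqd, hrp ▸ hpq⟩
      · exact ⟨p, hp, hpd, hrp⟩
    obtain ⟨hrs, -, hr2⟩ := orderCount_mul_of_eq hodd h hr hs hrd hsd hsr (hall r hr hrd) (hall s hs hsd)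
    have hnd : ¬ s ∣ r ^ k := fun h' => hsr ((Nat.prime_dvd_prime_iff_eq hs hr).1 (hs.dvd_of_dvd_pow h')).symm
    have e1 := dvd_sum_orderCount (G := G) (pow_ne_zero k hr.ne_zero) hk
    have e2 := dvd_sum_orderCount (G := G) (mul_ne_zero (pow_ne_zero k hr.ne_zero) hs.ne_zero)
      ((hs.coprime_iff_not_dvd.2 hnd).symm.mul_dvd_of_dvd_of_dvd hk hsd)
    have hf0 : ∀ d, (∀ g : G, ¬ d ∣ orderOf g) → orderCount G d = 0 := fun d hd =>
      orderCount_eq_zero fun g hg => hd g (hg ▸ dvd_rfl)
    have hf1 : ∀ d, (∀ g : G, ¬ d ∣ orderOf g) → orderCount G (d * s) = 0 := fun d hd =>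
      orderCount_eq_zero fun g hg => hd g (hg ▸ dvd_mul_right d s)
    rw [sum_orderCount_exponent_prime hr k hk0.ne' hr2 _ hf0, orderCount_one, hall r hr hrd] at e1
    rw [sum_divisors_mul_prime (pow_ne_zero k hr.ne_zero) hs hnd, sum_orderCount_exponent_prime hr k hk0.ne' hr2 _ hf0,
      sum_orderCount_exponent_prime hr k hk0.ne' hr2 _ hf1, orderCount_one, one_mul, hall r hr hrd, hall s hs hsd, hrs] at e2
    have e3 : r ^ k ∣ 1 + a + (a + b) := (dvd_mul_right _ s).trans e2
    exact (Nat.dvd_add_right e1).1 e3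
  classical
  have := Fintype.ofFinite G
  have hsum : 1 + a + b ≤ Nat.card G := by
    rw [← hpqb, ← hpa, ← orderCount_one (G := G)]
    simp only [orderCount, Nat.card_eq_fintype_card, Fintype.card_subtype]
    rw [← card_union_of_disjoint, ← card_union_of_disjoint]
    · exact card_le_univ _
    · rw [disjoint_left]; intro x hx hx'
      simp only [mem_union, mem_filter, mem_univ, true_and] at hx hx'
      rcases hx with hx | hx <;> rw [hx'] at hx
      · exact hp.ne_one (Nat.eq_one_of_mul_eq_one_right hx)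
      · nlinarith [hq.two_le, hp.pos]
    · rw [disjoint_left]; intro x hx hx'
      simp only [mem_filter, mem_univ, true_and] at hx hx'
      exact hp.ne_one (hx'.symm.trans hx)
  have hpos : 0 < a + b := by
    have : 0 < a := Nat.pos_of_ne_zero fun h0 => not_dvd_orderCount_prime hp hpd (hpa ▸ h0 ▸ dvd_zero p)
    omega
  have := Nat.le_of_dvd hpos hdvd
  omega

theorem card_primeFactors_le_two (hodd : Odd (Nat.card G)) {a b : ℕ} (h : TwoValued G a b) :
    (Nat.card G).primeFactors.card ≤ 2 := by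
  have hmem : ∀ r ∈ (Nat.card G).primeFactors, orderCount G r ∈ ({a, b} : Finset ℕ) := by
    intro r hr
    rw [Nat.mem_primeFactors] at hr
    simp only [mem_insert, mem_singleton]
    exact h.value hr.1.ne_one fun h0 => not_dvd_orderCount_prime hr.1 hr.2.1 (h0 ▸ dvd_zero r)
  refine (card_le_card_of_injOn (orderCount G) hmem ?_).trans card_le_two
  intro p hp q hq hpq
  simp only [mem_coe, Nat.mem_primeFactors] at hp hq
  by_contra hne
  rcases h.value hp.1.ne_one (fun h0 => not_dvd_orderCount_prime hp.1 hp.2.1 (h0 ▸ dvd_zero p)) with he | he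
  · exact orderCount_prime_ne hodd h hp.1 hq.1 hp.2.1 hq.2.1 hne he (hpq ▸ he)
  · exact orderCount_prime_ne hodd h.symm hp.1 hq.1 hp.2.1 hq.2.1 hne he (hpq ▸ he)

/-! ### Two primes -/

theorem not_pq_element_aux (hodd : Odd (Nat.card G)) {p q : ℕ} (hp : p.Prime) (hq : q.Prime) (hpd : p ∣ Nat.card G)
    (hqd : q ∣ Nat.card G) (hpq : p ≠ q) (hval : orderCount G (p * q) = orderCount G q)
    (hdp : ((orderCount G p : ℕ) : ZMod q) ≠ 0) : False := by
  classical
  have := Fact.mk hp
  have := Fact.mk hq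
  let X := {g : G // orderOf g = p}
  obtain ⟨Q⟩ : Nonempty (Sylow q G) := inferInstance
  let act : MulAction Q X :=
    { smul := fun u x => ⟨(u : G) * x * (u : G)⁻¹, ((MulAut.conj (u : G)).orderOf_eq _).trans x.2⟩
      one_smul := fun x => Subtype.ext (show ((1 : Q) : G) * x * ((1 : Q) : G)⁻¹ = x by simp)
      mul_smul := fun u v x => Subtype.ext (show ((u * v : Q) : G) * x * ((u * v : Q) : G)⁻¹ =
          (u : G) * ((v : G) * x * (v : G)⁻¹) * (u : G)⁻¹ by simp [mul_assoc]) }
  have hmod := Q.2.card_modEq_card_fixedPoints X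
  have hne : Nat.card (MulAction.fixedPoints Q X) ≠ 0 := by
    intro h0
    rw [h0] at hmod
    exact hdp ((ZMod.natCast_eq_zero_iff _ q).2 (Nat.modEq_zero_iff_dvd.1 hmod))
  obtain ⟨x, hx⟩ := (Nat.card_ne_zero.1 hne).1
  have hcent : ∀ u ∈ (Q : Subgroup G), u * x.1 = x.1 * u := fun u hu =>
    mul_inv_eq_iff_eq_mul.1 (congrArg Subtype.val (hx ⟨u, hu⟩))
  -- every element of order `q` commutes with some element of order `p`
  have hall : ∀ y : G, orderOf y = q → ∃ x : G, orderOf x = p ∧ Commute x y := by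
    intro y hy
    obtain ⟨R, hR⟩ := (IsPGroup.of_card (n := 1) (G := Subgroup.zpowers y) (by rw [Nat.card_zpowers, hy, pow_one])).exists_le_sylow
    obtain ⟨g, hg⟩ := MulAction.exists_smul_eq G Q R
    have hyR : y ∈ ((g • Q : Sylow q G) : Subgroup G) := hg.symm ▸ hR (Subgroup.mem_zpowers y)
    rw [Sylow.coe_subgroup_smul] at hyR
    obtain ⟨u, hu, rfl⟩ := hyR
    refine ⟨MulAut.conj g x.1, ((MulAut.conj g).orderOf_eq _).trans x.2, ?_⟩
    exact (show Commute x.1 u from (hcent u hu).symm).map (MulAut.conj g)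
  choose c hc hcy using hall
  have := Fintype.ofFinite G
  let F : {y : G // orderOf y = q} × Bool → {g : G // orderOf g = p * q} := fun t =>
    ⟨(if t.2 then c t.1 t.1.2 else (c t.1 t.1.2)⁻¹) * t.1, by
      obtain ⟨⟨y, hy⟩, b⟩ := t
      have hco : (orderOf (if b then c y hy else (c y hy)⁻¹)).Coprime (orderOf y) := by
        cases b <;> simp [hy, hc, Nat.coprime_primes hp hq, hpq]
      rw [Commute.orderOf_mul_eq_mul_orderOf_of_coprime ?_ hco]
      · cases b <;> simp [hy, hc]
      · cases b <;> simp [hcy y hy, (hcy y hy).inv_left]⟩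
  have hF : Function.Injective F := by
    rintro ⟨⟨y, hy⟩, b⟩ ⟨⟨y', hy'⟩, b'⟩ he
    have he' := congrArg Subtype.val he
    simp only [F] at he'
    have key : ∀ (y : G) (hy : orderOf y = q) (b : Bool),
        ((if b then c y hy else (c y hy)⁻¹) * y) ^ p = y ^ p := by
      intro y hy b
      have h1 : c y hy ^ p = 1 := by rw [← hc y hy]; exact pow_orderOf_eq_one _
      cases b
      · simp only [Bool.false_eq_true, if_false]
        rw [(hcy y hy).inv_left.mul_pow, inv_pow, h1, inv_one, one_mul]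
      · simp only [if_true]
        rw [(hcy y hy).mul_pow, h1, one_mul]
    have hyy : y = y' := by
      have h2 : y ^ p = y' ^ p := by rw [← key y hy b, ← key y' hy' b', he']
      obtain ⟨m, hm⟩ := Nat.exists_mul_mod_eq_one_of_coprime ((Nat.coprime_primes hp hq).2 hpq) hq.one_lt
      have key2 : ∀ z : G, orderOf z = q → (z ^ p) ^ m = z := fun z hz => by
        rw [← pow_mul, ← pow_mod_orderOf, hz, hm.2, pow_one]
      rw [← key2 y hy, ← key2 y' hy', h2]
    subst hyy
    rcases b <;> rcases b' <;> simp only [Bool.false_eq_true, if_false, if_true, mul_left_inj] at he' <;> try rfl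
    all_goals
      exfalso
      have h2 : c y hy ^ 2 = 1 := by
        rw [sq]
        nth_rewrite 1 [show c y hy = (c y hy)⁻¹ from by first | exact he' | exact he'.symm]
        exact inv_mul_cancel _
      have h3 := orderOf_dvd_of_pow_eq_one h2
      rw [hc] at h3
      exact Nat.not_even_iff_odd.2 hodd (even_iff_two_dvd.2 ((Nat.prime_dvd_prime_iff_eq hp Nat.prime_two).1 h3 ▸ hpd))
  have := Nat.card_le_card_of_injective F hF
  rw [Nat.card_prod, Nat.card_eq_fintype_card (α := Bool), Fintype.card_bool] at this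
  change orderCount G q * 2 ≤ orderCount G (p * q) at this
  have : 0 < orderCount G q := Nat.pos_of_ne_zero fun h0 => not_dvd_orderCount_prime hq hqd (h0 ▸ dvd_zero q)
  omega

theorem not_pq_element (hodd : Odd (Nat.card G)) {p q : ℕ} (hp : p.Prime) (hq : q.Prime)
    (hpd : p ∣ Nat.card G) (hqd : q ∣ Nat.card G) (hpq : p ≠ q)
    (h : TwoValued G (orderCount G p) (orderCount G q)) : ∀ g : G, orderOf g ≠ p * q := by
  intro g hg
  have := Fact.mk hp
  have := Fact.mk hq
  have hne : orderCount G (p * q) ≠ 0 := hg ▸ orderCount_pos.ne'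
  have hdvd : p * q ∣ Nat.card G := ((Nat.coprime_primes hp hq).2 hpq).mul_dvd_of_dvd_of_dvd hpd hqd
  have e1 := cast_sum_orderCount (p := p) (mul_ne_zero hp.ne_zero hq.ne_zero) hdvd (dvd_mul_right p q)
  have e2 := cast_sum_orderCount (p := q) (mul_ne_zero hp.ne_zero hq.ne_zero) hdvd (dvd_mul_left q p)
  rw [sum_divisors_prime_mul hp hq hpq, orderCount_one] at e1 e2
  push_cast at e1 e2
  have hap := cast_orderCount_prime hp hpd
  have hbq := cast_orderCount_prime hq hqd
  rcases h.value (fun h0 => hp.ne_one (Nat.eq_one_of_mul_eq_one_right h0)) hne with he | he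
  · refine not_pq_element_aux hodd hq hp hqd hpd hpq.symm (by rw [mul_comm]; exact he) ?_
    rw [he, hap] at e1
    intro h0; rw [h0] at e1
    exact one_ne_zero (α := ZMod p) (by linear_combination -e1)
  · refine not_pq_element_aux hodd hp hq hpd hqd hpq he ?_
    rw [he, hbq] at e2
    intro h0; rw [h0] at e2
    exact one_ne_zero (α := ZMod q) (by linear_combination -e2)

theorem no_prime_square {p q : ℕ} (hp : p.Prime) (hq : q.Prime) (hpd : p ∣ Nat.card G)
    (hqd : q ∣ Nat.card G) (hpq : p ≠ q) (h : TwoValued G (orderCount G p) (orderCount G q))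
    (hno : ∀ g : G, orderOf g ≠ p * q) : ∀ g : G, orderOf g ≠ p ^ 2 := by
  intro g hg
  have := Fact.mk hp
  have := Fact.mk hq
  obtain ⟨y, hy⟩ := exists_prime_orderOf_dvd_card' q hqd
  have hpdiv : p ∣ orderCount G (p ^ 2) := by
    refine dvd_trans ?_ (totient_dvd_orderCount (G := G) (p ^ 2))
    rw [Nat.totient_prime_pow hp two_pos]; exact dvd_mul_of_dvd_left (dvd_pow_self p (by norm_num)) _
  have hqdiv : q ∣ orderCount G (p ^ 2) := prime_dvd_orderCount hy fun x hx hcomm => by
    have hco : (orderOf x).Coprime (orderOf y) := by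
      rw [hx, hy]; exact ((Nat.coprime_primes hp hq).2 hpq).pow_left 2
    obtain ⟨z, hz⟩ := exists_orderOf_eq_of_dvd' (g := x * y) (n := p * q)
      (by rw [hcomm.symm.orderOf_mul_eq_mul_orderOf_of_coprime hco, hx, hy]; exact Nat.mul_dvd_mul_right (dvd_pow_self p two_ne_zero) q)
    exact hno z hz
  have h0 : orderCount G (p ^ 2) ≠ 0 := hg ▸ orderCount_pos.ne'
  rcases h.value (fun h1 => hp.ne_one ((Nat.pow_eq_one.1 h1).resolve_right two_ne_zero)) h0 with he | he
  · exact not_dvd_orderCount_prime hp hpd (he ▸ hpdiv)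
  · exact not_dvd_orderCount_prime hq hqd (he ▸ hqdiv)

/-- No element of order `p` normalizes a subgroup of order `q`, when all element orders are `1`, `p` or `q`
and there is an abelian normal `p`-subgroup. -/
theorem no_normalizing_element {p q : ℕ} (hp : p.Prime) (hq : q.Prime) (hpq : p ≠ q)
    (hord : ∀ g : G, orderOf g = 1 ∨ orderOf g = p ∨ orderOf g = q) (V : Subgroup G) [V.Normal]
    [IsMulCommutative V] (hVp : ∀ v ∈ V, v ^ p = 1) (hV : V ≠ ⊥) (Q : Sylow q G) (hQ : Nat.card Q = q)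
    (x : G) (hx : orderOf x = p) (hxQ : x ∈ Subgroup.normalizer ((Q : Subgroup G) : Set G)) : False := by
  classical
  have := Fact.mk hp
  have := Fact.mk hq
  have := Fintype.ofFinite G
  open Subgroup in
  have hnc : ∀ v ∈ V, v ≠ 1 → ∀ h : G, orderOf h = q → v * h ≠ h * v := by
    intro v hv hv1 h hh hc
    have hvo : orderOf v = p := orderOf_eq_prime (hVp v hv) hv1
    have := (show Commute v h from hc).orderOf_mul_eq_mul_orderOf_of_coprime
      (by rw [hvo, hh]; exact (Nat.coprime_primes hp hq).2 hpq)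
    rw [hvo, hh] at this
    rcases hord (v * h) with e | e | e <;> rw [this] at e
    · exact hp.ne_one (Nat.eq_one_of_mul_eq_one_right e)
    · exact hq.ne_one ((Nat.mul_eq_left hp.ne_zero).1 e)
    · exact hp.ne_one ((Nat.mul_eq_right hq.ne_zero).1 e)
  have hxnQ : x ∉ (Q : Subgroup G) := fun h => by
    have := (Q : Subgroup G).orderOf_dvd_natCard h
    rw [hx, hQ, Nat.prime_dvd_prime_iff_eq hp hq] at this
    exact hpq this
  -- every element of `Q x` has order `p`
  have hcoset : ∀ h ∈ (Q : Subgroup G), orderOf (h * x) = p := by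
    intro h hh
    have hnot : h * x ∉ (Q : Subgroup G) := fun h' => hxnQ (by simpa using mul_mem (inv_mem hh) h')
    rcases hord (h * x) with e | e | e
    · exact absurd (orderOf_eq_one_iff.1 e ▸ one_mem _) hnot
    · exact e
    · exfalso
      have hpg : IsPGroup q (Subgroup.zpowers (h * x)) := IsPGroup.of_card (n := 1) (by rw [Nat.card_zpowers, e, pow_one])
      have hle : Subgroup.zpowers (h * x) ≤ Subgroup.normalizer ((Q : Subgroup G) : Set G) :=
        Subgroup.zpowers_le.2 (mul_mem (Subgroup.le_normalizer hh) hxQ)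
      have hsup : IsPGroup q ((Subgroup.zpowers (h * x) ⊔ (Q : Subgroup G) : Subgroup G)) :=
        hpg.to_sup_of_normal_right' Q.2 hle
      exact hnot (Q.3 hsup le_sup_right ▸ Subgroup.mem_sup_left (Subgroup.mem_zpowers _))
  let Qs : Finset G := univ.filter fun h => h ∈ (Q : Subgroup G)
  letI : CommGroup V := { (inferInstance : Group V) with mul_comm := fun a b => IsMulCommutative.is_comm.comm a b }
  let c : G → V → V := fun g v => MulAut.conjNormal g v
  have hcc : ∀ g g' v, c (g * g') v = c g (c g' v) := fun g g' v => by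
    simp only [c, map_mul, MulAut.mul_apply]
  have hc1 : ∀ v, c 1 v = v := fun v => by simp only [c, map_one, MulAut.one_apply]
  have hnorm : ∀ w : V, ∏ h ∈ Qs, c h w = 1 := by
    intro w
    by_contra hne
    obtain ⟨y, hy⟩ := exists_prime_orderOf_dvd_card' (G := (Q : Subgroup G)) q (by rw [hQ])
    refine hnc (∏ h ∈ Qs, c h w : V) (SetLike.coe_mem _) (fun e => hne (Subtype.ext e)) y (by rw [Subgroup.orderOf_coe, hy]) ?_
    have hfix : c (y : G) (∏ h ∈ Qs, c h w) = ∏ h ∈ Qs, c h w := by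
      simp only [c, map_prod]
      refine prod_bij' (fun h _ => (y : G) * h) (fun h _ => (y : G)⁻¹ * h) ?_ ?_ ?_ ?_ ?_
      · intro h hh; simp only [Qs, mem_filter, mem_univ, true_and] at hh ⊢; exact mul_mem y.2 hh
      · intro h hh; simp only [Qs, mem_filter, mem_univ, true_and] at hh ⊢; exact mul_mem (inv_mem y.2) hh
      · intros; simp
      · intros; simp
      · intro h _; exact (hcc _ _ _).symm
    have := congrArg Subtype.val hfix
    simp only [c, MulAut.conjNormal_apply] at this ⊢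
    exact (mul_inv_eq_iff_eq_mul.1 this).symm
  have hpow : ∀ (g : G) (v : V) (n : ℕ), ((v : G) * g) ^ n = ((∏ i ∈ range n, c (g ^ i) v : V) : G) * g ^ n := by
    intro g v n
    induction n with
    | zero => simp
    | succ n ih =>
      rw [pow_succ', ih, prod_range_succ']
      simp only [pow_zero, hc1]
      have hmap : (∏ i ∈ range n, c (g ^ (i + 1)) v) = c g (∏ i ∈ range n, c (g ^ i) v) := by
        simp only [c, map_prod]
        exact prod_congr rfl fun i _ => by rw [pow_succ', map_mul, MulAut.mul_apply]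
      rw [hmap, mul_comm, Subgroup.coe_mul]
      simp only [c, MulAut.conjNormal_apply]
      rw [pow_succ']
      group
  have hone : ∀ v : V, ∀ h ∈ (Q : Subgroup G), ∏ i ∈ range p, c ((h * x) ^ i) v = 1 := by
    intro v h hh
    have hg := hcoset h hh
    have hvg : ((v : G) * (h * x)) ^ p = 1 := by
      -- an element of the `p`-subgroup `V ⊔ ⟨h x⟩`
      have hP : IsPGroup p (Subgroup.zpowers (h * x) ⊔ V : Subgroup G) :=
        IsPGroup.to_sup_of_normal_right (IsPGroup.of_card (n := 1) (by rw [Nat.card_zpowers, hg, pow_one]))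
          (fun v => ⟨1, Subtype.ext (by rw [pow_one]; exact hVp v v.2)⟩)
      obtain ⟨k, hk⟩ := hP ⟨(v : G) * (h * x), mul_mem (Subgroup.mem_sup_right v.2) (Subgroup.mem_sup_left (Subgroup.mem_zpowers _))⟩
      have hk' : orderOf ((v : G) * (h * x)) ∣ p ^ k := orderOf_dvd_of_pow_eq_one (congrArg Subtype.val hk)
      rcases hord ((v : G) * (h * x)) with e | e | e
      · rw [orderOf_eq_one_iff.1 e, one_pow]
      · rw [← e]; exact pow_orderOf_eq_one _
      · rw [e] at hk'; exact absurd ((Nat.prime_dvd_prime_iff_eq hq hp).1 (hq.dvd_of_dvd_pow hk')).symm hpq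
    have hgp : (h * x) ^ p = 1 := by
      have := pow_orderOf_eq_one (h * x)
      rwa [hg] at this
    rw [hpow, hgp, mul_one] at hvg
    exact Subtype.ext hvg
  have hconj : ∀ h ∈ (Q : Subgroup G), x * h * x⁻¹ ∈ (Q : Subgroup G) := fun h hh =>
    (Subgroup.mem_normalizer_iff.1 hxQ h).1 hh
  have hlast : ∀ v : V, v ^ q = 1 := by
    intro v
    have h1 : ∏ h ∈ Qs, ∏ i ∈ range p, c ((h * x) ^ i) v = 1 :=
      prod_eq_one fun h hh => hone v h (mem_filter.1 hh).2
    rw [prod_comm, range_eq_Ico, prod_eq_prod_Ico_succ_bot hp.pos] at h1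
    have hQs : Qs.card = q := by
      rw [← hQ, Nat.card_eq_fintype_card, Fintype.card_subtype]
    have h2 : ∀ i ∈ Ico (0 + 1) p, ∏ h ∈ Qs, c ((h * x) ^ i) v = 1 := by
      intro i hi
      rw [mem_Ico] at hi
      have hmem : ∀ j : ℕ, ∀ h ∈ (Q : Subgroup G), (h * x) ^ j * (x ^ j)⁻¹ ∈ (Q : Subgroup G) := by
        intro j h hh
        induction j with
        | zero => simp
        | succ j ih =>
          have : (h * x) ^ (j + 1) * (x ^ (j + 1))⁻¹ = h * (x * ((h * x) ^ j * (x ^ j)⁻¹) * x⁻¹) := by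
            rw [pow_succ', pow_succ']; group
          rw [this]; exact mul_mem hh (hconj _ ih)
      have hbij : ∏ h ∈ Qs, c ((h * x) ^ i) v = ∏ k ∈ Qs, c (k * x ^ i) v := by
        refine prod_bij (fun h _ => (h * x) ^ i * (x ^ i)⁻¹) ?_ ?_ ?_ ?_
        · intro h hh; simp only [Qs, mem_filter, mem_univ, true_and] at hh ⊢; exact hmem i h hh
        · intro h hh h' hh' e
          have e' := mul_right_cancel e
          obtain ⟨m, hm⟩ := Nat.exists_mul_mod_eq_one_of_coprime
            (hp.coprime_iff_not_dvd.2 (Nat.not_dvd_of_pos_of_lt (by omega) hi.2)).symm hp.one_lt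
          have key : ∀ g : G, orderOf g = p → (g ^ i) ^ m = g := fun g hg => by
            rw [← pow_mul, ← pow_mod_orderOf, hg, hm.2, pow_one]
          have := key _ (hcoset h (mem_filter.1 hh).2)
          rw [e', key _ (hcoset h' (mem_filter.1 hh').2)] at this
          exact (mul_right_cancel this).symm
        · intro k hk
          have hinj : Set.InjOn (fun h => (h * x) ^ i * (x ^ i)⁻¹) (Qs : Set G) := by
            intro h hh h' hh' e
            have e' := mul_right_cancel e
            obtain ⟨m, hm⟩ := Nat.exists_mul_mod_eq_one_of_coprime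
              (hp.coprime_iff_not_dvd.2 (Nat.not_dvd_of_pos_of_lt (by omega) hi.2)).symm hp.one_lt
            have key : ∀ g : G, orderOf g = p → (g ^ i) ^ m = g := fun g hg => by
              rw [← pow_mul, ← pow_mod_orderOf, hg, hm.2, pow_one]
            have := key _ (hcoset h (mem_filter.1 hh).2)
            rw [e', key _ (hcoset h' (mem_filter.1 hh').2)] at this
            exact (mul_right_cancel this).symm
          obtain ⟨h, hh, e⟩ := surj_on_of_inj_on_of_card_le (s := Qs) (t := Qs) (fun h _ => (h * x) ^ i * (x ^ i)⁻¹)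
            (fun h hh => mem_filter.2 ⟨mem_univ _, hmem i h (mem_filter.1 hh).2⟩) (fun a b ha hb e => hinj ha hb e) le_rfl k hk
          exact ⟨h, hh, e.symm⟩
        · intro h _; rw [inv_mul_cancel_right]
      rw [hbij]
      simp only [hcc]
      exact hnorm _
    rw [prod_eq_one h2, mul_one] at h1
    simpa only [pow_zero, hc1, prod_const, hQs] using h1
  obtain ⟨v, hv, hv1⟩ := V.ne_bot_iff_exists_ne_one.1 hV |> fun ⟨v, hv⟩ => (⟨v.1, v.2, fun e => hv (Subtype.ext e)⟩ : ∃ v, v ∈ V ∧ v ≠ 1)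
  have hq1 : v ^ q = 1 := congrArg Subtype.val (hlast ⟨v, hv⟩)
  have := orderOf_dvd_of_pow_eq_one hq1
  rw [orderOf_eq_prime (hVp v hv) hv1, Nat.prime_dvd_prime_iff_eq hp hq] at this
  exact hpq this

theorem exists_complement_prime (hodd : Odd (Nat.card G)) {p q : ℕ} (hp : p.Prime) (hq : q.Prime) (hpq : p ≠ q)
    (hpd : p ∣ Nat.card G) (hqd : q ∣ Nat.card G) (hord : ∀ g : G, orderOf g = 1 ∨ orderOf g = p ∨ orderOf g = q)
    (V : Subgroup G) [V.Normal] [IsMulCommutative V] (hVp : ∀ v ∈ V, v ^ p = 1) (hV : V ≠ ⊥) :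
    ∃ C : Subgroup G, Cfsg.IsFrobeniusComplement C ∧ (Nat.card C).Prime := by
  have := Fact.mk hp
  have := Fact.mk hq
  obtain ⟨Q⟩ : Nonempty (Sylow q G) := inferInstance
  have hQo : ∀ g : (Q : Subgroup G), g ≠ 1 → orderOf (g : G) = q := by
    intro g hg
    rcases hord g with e | e | e
    · exact absurd (Subtype.ext (orderOf_eq_one_iff.1 e)) hg
    · exfalso
      obtain ⟨k, hk⟩ := Q.2 g
      have h' : orderOf (g : G) ∣ q ^ k := orderOf_dvd_of_pow_eq_one (congrArg Subtype.val hk)
      rw [e] at h'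
      exact hpq ((Nat.prime_dvd_prime_iff_eq hp hq).1 (hp.dvd_of_dvd_pow h'))
    · exact e
  have : Nontrivial V := (V.nontrivial_iff_ne_bot).2 hV
  have : Group.IsNilpotent (Q : Subgroup G) := Q.2.isNilpotent
  have hcyc : IsCyclic (Q : Subgroup G) := by
    refine isCyclic_of_nilpotent_odd_fpf (hodd.of_dvd_nat (Subgroup.card_subgroup_dvd_card _))
      ((MulAut.conjNormal (H := V)).comp (Q : Subgroup G).subtype) fun e he k hk => ?_
    by_contra hk1
    have hc : (e : G) * k * (e : G)⁻¹ = k := congrArg Subtype.val hk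
    have hko : orderOf (k : G) = p := orderOf_eq_prime (hVp k k.2) fun h => hk1 (Subtype.ext h)
    have := (show Commute (e : G) k from mul_inv_eq_iff_eq_mul.1 hc).orderOf_mul_eq_mul_orderOf_of_coprime
      (by rw [hko, hQo e he]; exact (Nat.coprime_primes hq hp).2 hpq.symm)
    rw [hko, hQo e he] at this
    rcases hord ((e : G) * k) with h | h | h <;> rw [this] at h
    · exact hq.ne_one (Nat.eq_one_of_mul_eq_one_right h)
    · exact hq.ne_one ((Nat.mul_eq_right hp.ne_zero).1 h)
    · exact hp.ne_one ((Nat.mul_eq_left hq.ne_zero).1 h)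
  obtain ⟨g, hg⟩ := hcyc.exists_generator
  have hQ1 : (Q : Subgroup G) ≠ ⊥ := Q.ne_bot_of_dvd_card hqd
  have hQc : Nat.card Q = q := by
    rw [← orderOf_eq_card_of_forall_mem_zpowers hg, ← Subgroup.orderOf_coe]
    refine hQo g fun h => hQ1 ((Subgroup.eq_bot_iff_forall _).2 fun z hz => ?_)
    have := hg ⟨z, hz⟩
    rw [h, Subgroup.zpowers_one_eq_bot, Subgroup.mem_bot] at this
    exact congrArg Subtype.val this
  refine ⟨Q, ⟨hQ1, fun h => ?_, fun g hg => ?_⟩, by rw [hQc]; exact hq⟩
  · have hc : Nat.card G = q := by rw [← hQc, h, Subgroup.card_top]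
    rw [hc, Nat.prime_dvd_prime_iff_eq hp hq] at hpd
    exact hpq hpd
  by_contra hne
  have hgN : g ∈ Subgroup.normalizer ((Q : Subgroup G) : Set G) := by
    open scoped Pointwise in
    have hle : (Q : Subgroup G) ⊓ MulAut.conj g • (Q : Subgroup G) = (Q : Subgroup G) := by
      have hd := Subgroup.card_dvd_of_le (inf_le_left : (Q : Subgroup G) ⊓ MulAut.conj g • (Q : Subgroup G) ≤ Q)
      rw [hQc, Nat.dvd_prime hq] at hd
      rcases hd with hd | hd
      · exact absurd (Subgroup.eq_bot_of_card_eq _ hd) hne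
      · exact Subgroup.eq_of_le_of_card_ge inf_le_left (by rw [hQc, hd])
    rw [inf_eq_left] at hle
    rw [Subgroup.mem_normalizer_iff_map_conj_eq]
    exact (Subgroup.eq_of_le_of_card_ge hle (by rw [Subgroup.pointwise_smul_def]; exact (Subgroup.card_map_of_injective (MulAut.conj g).injective).le)).symm
  rcases hord g with e | e | e
  · exact hg (orderOf_eq_one_iff.1 e ▸ one_mem _)
  · exact no_normalizing_element hp hq hpq hord V hVp hV Q hQc g e hgN
  · apply hg
    have hsup : IsPGroup q ((Subgroup.zpowers g ⊔ (Q : Subgroup G) : Subgroup G)) :=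
      (IsPGroup.of_card (n := 1) (by rw [Nat.card_zpowers, e, pow_one]) : IsPGroup q (Subgroup.zpowers g)).to_sup_of_normal_right'
        Q.2 (Subgroup.zpowers_le.2 hgN)
    exact Q.3 hsup le_sup_right ▸ Subgroup.mem_sup_left (Subgroup.mem_zpowers _)

theorem two_primes_structure (hodd : Odd (Nat.card G)) {p q : ℕ} (hp : p.Prime) (hq : q.Prime) (hpq : p ≠ q)
    (hπ : (Nat.card G).primeFactors = {p, q}) (h : TwoValued G (orderCount G p) (orderCount G q)) :
    (∀ (r : ℕ) [Fact r.Prime] (P : Sylow r G), r ∣ Nat.card G → Monoid.exponent (P : Subgroup G) = r) ∧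
      ∃ C : Subgroup G, Cfsg.IsFrobeniusComplement C ∧ (Nat.card C).Prime := by
  have hpd : p ∣ Nat.card G := Nat.dvd_of_mem_primeFactors (n := Nat.card G) (by rw [hπ]; simp)
  have hqd : q ∣ Nat.card G := Nat.dvd_of_mem_primeFactors (n := Nat.card G) (by rw [hπ]; simp)
  have hno := not_pq_element hodd hp hq hpd hqd hpq h
  have hp2 := no_prime_square hp hq hpd hqd hpq h hno
  have hq2 := no_prime_square hq hp hqd hpd hpq.symm h.symm (by rwa [mul_comm])
  have hord : ∀ g : G, orderOf g = 1 ∨ orderOf g = p ∨ orderOf g = q := by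
    intro g
    rcases eq_or_ne (orderOf g) 1 with h1 | h1
    · exact Or.inl h1
    have hdiv : ∀ r : ℕ, r.Prime → r ∣ orderOf g → r = p ∨ r = q := fun r hr hrg => by
      have : r ∈ (Nat.card G).primeFactors :=
        Nat.mem_primeFactors.2 ⟨hr, hrg.trans (orderOf_dvd_natCard g), Nat.card_pos.ne'⟩
      rw [hπ] at this
      simpa using this
    have key : ∀ p q : ℕ, p.Prime → q.Prime → (∀ g : G, orderOf g ≠ p ^ 2) → (∀ g : G, orderOf g ≠ p * q) →
        (∀ r : ℕ, r.Prime → r ∣ orderOf g → r = p ∨ r = q) → p ∣ orderOf g → orderOf g = p := by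
      intro p q hp hq hp2 hno hdiv hpg
      by_contra hne
      obtain ⟨m, hm⟩ := hpg
      have hm1 : m ≠ 1 := fun e => hne (by rw [hm, e, mul_one])
      obtain ⟨r, hr, hrm⟩ := Nat.exists_prime_and_dvd hm1
      rcases hdiv r hr (hm ▸ dvd_mul_of_dvd_right hrm p) with rfl | rfl
      · obtain ⟨z, hz⟩ := exists_orderOf_eq_of_dvd' (g := g) (n := r ^ 2) (by rw [hm, sq]; exact Nat.mul_dvd_mul_left r hrm)
        exact hp2 z hz
      · obtain ⟨z, hz⟩ := exists_orderOf_eq_of_dvd' (g := g) (n := p * r) (by rw [hm]; exact Nat.mul_dvd_mul_left p hrm)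
        exact hno z hz
    obtain ⟨r, hr, hrg⟩ := Nat.exists_prime_and_dvd h1
    rcases hdiv r hr hrg with rfl | rfl
    · exact Or.inr (Or.inl (key r q hr hq hp2 hno hdiv hrg))
    · exact Or.inr (Or.inr (key r p hr hp hq2 (by rwa [mul_comm]) (fun s hs hsg => (hdiv s hs hsg).symm) hrg))
  refine ⟨fun r hrF P hrd => ?_, ?_⟩
  · have hr : r.Prime := Fact.out
    refine Nat.dvd_antisymm (Monoid.exponent_dvd_of_forall_pow_eq_one fun z => ?_) ?_
    · obtain ⟨k, hk⟩ := P.2 z
      have hz : orderOf z ∣ r ^ k := orderOf_dvd_of_pow_eq_one hk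
      apply Subtype.ext
      rw [Subgroup.coe_pow, Subgroup.coe_one, ← orderOf_dvd_iff_pow_eq_one]
      rw [← Subgroup.orderOf_coe] at hz
      rcases hord z with e | e | e <;> rw [e] at hz ⊢
      · exact one_dvd r
      · rw [(Nat.prime_dvd_prime_iff_eq hp hr).1 (hp.dvd_of_dvd_pow hz)]
      · rw [(Nat.prime_dvd_prime_iff_eq hq hr).1 (hq.dvd_of_dvd_pow hz)]
    · obtain ⟨z, hz⟩ := exists_prime_orderOf_dvd_card' (G := (P : Subgroup G)) r (P.dvd_card_of_dvd_card hrd)
      have := Monoid.order_dvd_exponent z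
      rwa [hz] at this
  have hsolv : Group.IsSolvable G := by
    have hc := Nat.prod_factorization_pow_eq_self (n := Nat.card G) Nat.card_pos.ne'
    rw [Finsupp.prod, Nat.support_factorization, hπ, Finset.prod_pair hpq] at hc
    exact H25.isSolvable_of_card_eq_mul_pow hp hq hc.symm
  have : Nontrivial G := Finite.one_lt_card_iff_nontrivial.1 (lt_of_lt_of_le hp.one_lt (Nat.le_of_dvd Nat.card_pos hpd))
  obtain ⟨V, r, hVn, hV, hVc, hr, -, hVexp⟩ := H19.exists_normal_elementary (G := G)
  have hrpq : r = p ∨ r = q := by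
    obtain ⟨v, hv⟩ := V.ne_bot_iff_exists_ne_one.1 hV
    haveI := Fact.mk hr
    have := orderOf_eq_prime (p := r) (hVexp v v.2) (fun e => hv (Subtype.ext e))
    rcases hord v with e | e | e <;> rw [this] at e
    · exact absurd e hr.ne_one
    · exact Or.inl e
    · exact Or.inr e
  rcases hrpq with rfl | rfl
  · exact exists_complement_prime hodd hp hq hpq hpd hqd hord V hVexp hV
  · exact exists_complement_prime hodd hq hp hpq.symm hqd hpd (fun g => (hord g).imp_right Or.symm) V hVexp hV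

end Cfsg.Agent.H86
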