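import Cfsg.Agent.S0540
import Cfsg.Agent.H32.Subnormal

/-!
The zipper lemma in the presence of a single maximal subgroup carrying all failures of subnormality.
-/

set_option autoImplicit false
open Pointwise

namespace Cfsg.Agent.H86.Zipper

open Subgroup

variable {G : Type*} [Group G]

/-- `A` is subnormal in `K`. -/
def Sn (A K : Subgroup G) : Prop := (A.subgroupOf K).IsSubnormal

theorem sn_mono {A L K : Subgroup G} (hLK : L ≤ K) (h : Sn A K) : Sn A L := by
  have := IsSubnormal.comap (Subgroup.inclusion hLK) h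
  exact this

theorem sn_trans {A D K : Subgroup G} (hAD : A ≤ D) (h1 : Sn A D) (h2 : Sn D K) : Sn A K := by
  refine IsSubnormal.trans (fun x hx => hAD hx) ?_ h2
  let f : ↥(D.subgroupOf K) →* ↥D :=
    { toFun := fun x => ⟨((x : K) : G), x.2⟩, map_one' := rfl, map_mul' := fun _ _ => rfl }
  have := IsSubnormal.comap f h1
  exact this

theorem sn_of_le_normalizer {A K : Subgroup G} (h : K ≤ normalizer (A : Set G)) : Sn A K :=
  Subgroup.Normal.isSubnormal (normal_subgroupOf_of_le_normalizer h)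

theorem conj_smul_mul (a b : G) (A : Subgroup G) :
    MulAut.conj (a * b) • A = MulAut.conj a • MulAut.conj b • A := by
  rw [map_mul, mul_smul]

theorem conj_inv_smul (a : G) (A : Subgroup G) : MulAut.conj a⁻¹ • MulAut.conj a • A = A := by
  rw [← conj_smul_mul, inv_mul_cancel, map_one, one_smul]

theorem conj_smul_inv (a : G) (A : Subgroup G) : MulAut.conj a • MulAut.conj a⁻¹ • A = A := by
  rw [← conj_smul_mul, mul_inv_cancel, map_one, one_smul]

theorem mem_conj_smul {a x : G} {A : Subgroup G} : x ∈ MulAut.conj a • A ↔ a⁻¹ * x * a ∈ A := by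
  rw [mem_pointwise_smul_iff_inv_smul_mem, ← map_inv, MulAut.smul_def, MulAut.conj_apply, inv_inv]

theorem conj_mono {A B : Subgroup G} (a : G) (h : A ≤ B) :
    MulAut.conj a • A ≤ MulAut.conj a • B := pointwise_smul_le_pointwise_smul_iff.mpr h

theorem sn_conj {A K : Subgroup G} (a : G) (h : Sn A K) :
    Sn (MulAut.conj a • A) (MulAut.conj a • K) := by
  let f : ↥(MulAut.conj a • K) →* ↥K :=
    { toFun := fun x => ⟨a⁻¹ * (x : G) * a, mem_conj_smul.mp x.2⟩
      map_one' := Subtype.ext (by simp)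
      map_mul' := fun x y => Subtype.ext (by simp [mul_assoc]) }
  have := IsSubnormal.comap f h
  unfold Sn
  convert this using 1
  ext x
  rw [mem_subgroupOf, mem_conj_smul, mem_comap, mem_subgroupOf]
  rfl

theorem conj_eq_self_of_mem {K : Subgroup G} {x : G} (hx : x ∈ K) : MulAut.conj x • K = K := by
  ext y
  rw [mem_conj_smul, K.mul_mem_cancel_right hx, K.mul_mem_cancel_left (K.inv_mem hx)]

theorem mem_normalizer_of_conj_eq {A : Subgroup G} {x : G} (h : MulAut.conj x • A = A) :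
    x ∈ normalizer (A : Set G) := by
  rw [mem_normalizer_iff'']
  intro y
  constructor
  · intro hy
    rw [← h] at hy
    exact mem_conj_smul.mp hy
  · intro hy
    rw [← h]
    exact mem_conj_smul.mpr hy

theorem conj_eq_of_mem_normalizer {A : Subgroup G} {x : G} (h : x ∈ normalizer (A : Set G)) :
    MulAut.conj x • A = A := by
  ext y
  rw [mem_conj_smul]
  exact ((mem_normalizer_iff''.mp h) y).symm

theorem isCoatom_conj {M : Subgroup G} (a : G) (h : IsCoatom M) :
    IsCoatom (MulAut.conj a • M) := by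
  have htop : ∀ b : G, MulAut.conj b • (⊤ : Subgroup G) = ⊤ := fun b => by
    ext x; simp
  constructor
  · intro e
    apply h.1
    rw [← conj_inv_smul a M, e, htop]
  · intro X hX
    have h1 : M < MulAut.conj a⁻¹ • X := by
      refine lt_of_le_of_ne ?_ fun e => hX.ne ?_
      · have := conj_mono a⁻¹ hX.le
        rwa [conj_inv_smul] at this
      · rw [e, conj_smul_inv]
    rw [← conj_smul_inv a X, h.2 _ h1, htop]

theorem coatom_eq {M N : Subgroup G} (hM : IsCoatom M) (hN : N ≠ ⊤) (h : M ≤ N) : N = M :=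
  (hM.le_iff.mp h).resolve_left hN

theorem normalClosure_mono_top {A B : Subgroup G} (hAB : A ≤ B)
    (h : normalClosure (A : Set G) = ⊤) : normalClosure (B : Set G) = ⊤ :=
  eq_top_iff.mpr (h ▸ normalClosure_mono hAB)

theorem normalizer_ne_top {A K : Subgroup G} (h : normalClosure (A : Set G) = ⊤) (hAK : A ≤ K)
    (hK : K ≠ ⊤) : normalizer (K : Set G) ≠ ⊤ := by
  intro e
  have : K.Normal := normalizer_eq_top_iff.mp e
  exact hK (eq_top_iff.mpr (h ▸ normalClosure_le_normal hAK))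

variable [Finite G]

theorem conj_le_self {A : Subgroup G} {a : G} (h : MulAut.conj a • A ≤ A) :
    MulAut.conj a • A = A :=
  eq_of_le_of_card_ge h (Nat.card_congr (equivSMul (MulAut.conj a) A).toEquiv).le

omit [Finite G] in
theorem card_conj (a : G) (A : Subgroup G) :
    Nat.card ↥(MulAut.conj a • A) = Nat.card A :=
  (Nat.card_congr (equivSMul (MulAut.conj a) A).toEquiv).symm

theorem sn_sup {A B K : Subgroup G} (hA : A ≤ K) (hB : B ≤ K) (h1 : Sn A K) (h2 : Sn B K) :
    Sn (A ⊔ B) K := by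
  unfold Sn
  rw [subgroupOf_sup hA hB]
  exact Cfsg.Agent.H32.isSubnormal_sup h1 h2

theorem exists_coatom_ge {K : Subgroup G} (h : K ≠ ⊤) : ∃ M, IsCoatom M ∧ K ≤ M :=
  (eq_top_or_exists_le_coatom K).resolve_left h

/-- A family of subgroups that are subnormal in `X` either has a join normalized by `X`, or has a
conjugate of a member normalizing the join and not inside it. -/
theorem sSup_normal_or_exists (S : Set (Subgroup G)) (X : Subgroup G) (hle : ∀ U ∈ S, U ≤ X)
    (hsn : ∀ U ∈ S, Sn U X) :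
    X ≤ normalizer ((sSup S : Subgroup G) : Set G) ∨ ∃ U ∈ S, ∃ x ∈ X,
      MulAut.conj x • U ≤ normalizer ((sSup S : Subgroup G) : Set G) ∧
      ¬ MulAut.conj x • U ≤ sSup S := by
  let S' : Set (Subgroup X) := (fun B => B.subgroupOf X) '' S
  have hmap : (sSup S').map X.subtype = sSup S := by
    apply le_antisymm
    · rw [map_le_iff_le_comap]
      refine sSup_le ?_
      rintro _ ⟨B, hB, rfl⟩
      exact comap_mono (le_sSup hB)
    · refine sSup_le fun B hB => ?_
      rw [← map_subgroupOf_eq_of_le (hle B hB)]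
      exact map_mono (le_sSup ⟨B, hB, rfl⟩)
  have hsn' : (sSup S').IsSubnormal := Cfsg.Agent.H32.isSubnormal_sSup _ (by
    rintro _ ⟨B, hB, rfl⟩; exact hsn B hB)
  by_cases hn : (sSup S').Normal
  · left
    rw [← hmap]
    have := le_normalizer_map (H := sSup S') X.subtype
    rw [normalizer_eq_top, ← MonoidHom.range_eq_map, range_subtype] at this
    exact this
  · right
    obtain ⟨_, ⟨B, hB, rfl⟩, g, h1, h2⟩ :=
      Cfsg.Agent.H32.exists_conj_le_normalizer_sSup S' hsn' hn
    have he : (MulAut.conj g • B.subgroupOf X).map X.subtype = MulAut.conj (g : G) • B := by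
      ext y
      constructor
      · rintro ⟨_, ⟨z, hz, rfl⟩, rfl⟩
        exact ⟨(z : G), hz, rfl⟩
      · rintro ⟨z, hz, rfl⟩
        exact ⟨g * ⟨z, hle B hB hz⟩ * g⁻¹, ⟨⟨z, hle B hB hz⟩, hz, rfl⟩, rfl⟩
    refine ⟨B, hB, g, g.2, ?_, fun hc => h2 ?_⟩
    · rw [← he, ← hmap]
      exact (map_mono h1).trans (le_normalizer_map X.subtype)
    · rw [← map_le_map_iff_of_injective X.subtype_injective, he, hmap]
      exact hc

/-- Wielandt's zipper lemma. -/
theorem zipper {A : Subgroup G} (hA : normalClosure (A : Set G) = ⊤) (hAG : A ≠ ⊤)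
    (hsn : ∀ K, A ≤ K → K ≠ ⊤ → Sn A K) : ∃! M : Subgroup G, IsCoatom M ∧ A ≤ M := by
  let U : Set (Subgroup G) := {K | A ≤ K ∧ K ≠ ⊤}
  let S : Subgroup G → Set (Subgroup G) := fun V =>
    {B | (∃ g : G, B = MulAut.conj g • A) ∧ B ≤ V ∧ (B.subgroupOf V).IsSubnormal}
  have h1 : ∀ V ∈ U, A ∈ S V := fun V hV =>
    ⟨⟨1, by rw [map_one, one_smul]⟩, hV.1, hsn V hV.1 hV.2⟩
  obtain ⟨M, hM, hMmax⟩ := Cfsg.Agent.S0540.result A U ⟨A, le_rfl, hAG⟩ S (fun V B => Iff.rfl) h1
    (by
      rintro V hV W - B ⟨⟨g, rfl⟩, -, -⟩ hBV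
      refine ⟨⟨g, rfl⟩, hBV, ?_⟩
      have h : A ≤ MulAut.conj g⁻¹ • V := by
        rw [← conj_inv_smul g A]; exact conj_mono _ hBV
      have hne : MulAut.conj g⁻¹ • V ≠ ⊤ := by
        intro e
        apply hV.2
        rw [← conj_smul_inv g V, e]
        ext x; simp
      have := sn_conj g (hsn _ h hne)
      rwa [conj_smul_inv] at this)
    (by
      intro V hV W hW
      have hA' : A ≤ sSup (S V ∩ S W) := le_sSup ⟨h1 V hV, h1 W hW⟩
      refine ⟨_, ⟨hA'.trans le_normalizer, normalizer_ne_top hA hA' ?_⟩, le_rfl⟩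
      intro e
      exact hV.2 (eq_top_iff.mpr (e ▸ sSup_le fun B hB => hB.1.2.1)))
  obtain ⟨N, hN, hMN⟩ := exists_coatom_ge hM.2
  refine ⟨N, ⟨hN, hM.1.trans hMN⟩, ?_⟩
  rintro N' ⟨hN', hAN'⟩
  exact (coatom_eq hN' hN.1 ((hMmax N' ⟨hAN', hN'.1⟩).trans hMN)).symm

/-- Every maximal subgroup above a proper subgroup `A` larger than `c` equals `M0`, once all
failures of subnormality of `A` lie below `M0`. -/
def Concl (G : Type*) [Group G] (c : ℕ) : Prop :=
  ∀ A M0 : Subgroup G, c < Nat.card A → normalClosure (A : Set G) = ⊤ → IsCoatom M0 → A ≤ M0 →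
    (∀ K, A ≤ K → K ≠ ⊤ → ¬ Sn A K → K ≤ M0) → ∀ X, IsCoatom X → A ≤ X → X = M0

/-- The critical configuration: `M0` is the home of `A`. -/
structure Home (A M0 : Subgroup G) : Prop where
  closure : normalClosure (A : Set G) = ⊤
  coatom : IsCoatom M0
  le : A ≤ M0
  nsn : ¬ Sn A M0
  bound : ∀ K, A ≤ K → K ≠ ⊤ → ¬ Sn A K → K ≤ M0
  ind : Concl G (Nat.card A)

theorem Home.conj {A M0 : Subgroup G} (h : Home A M0) (g : G) :
    Home (MulAut.conj g • A) (MulAut.conj g • M0) := by
  refine ⟨?_, isCoatom_conj g h.coatom, conj_mono g h.le, fun hs => h.nsn ?_, ?_, ?_⟩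
  · apply eq_top_iff.mpr
    rw [← h.closure]
    refine normalClosure_le_normal fun x hx => ?_
    have : MulAut.conj g x ∈ normalClosure ((MulAut.conj g • A : Subgroup G) : Set G) :=
      subset_normalClosure ⟨x, hx, rfl⟩
    have := normalClosure_normal.conj_mem _ this g⁻¹
    simpa [mul_assoc] using this
  · have := sn_conj g⁻¹ hs
    rwa [conj_inv_smul, conj_inv_smul] at this
  · intro K hK hKt hs
    have h2 : A ≤ MulAut.conj g⁻¹ • K := by
      rw [← conj_inv_smul g A]; exact conj_mono _ hK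
    have h3 : MulAut.conj g⁻¹ • K ≠ ⊤ := by
      intro e
      apply hKt
      rw [← conj_smul_inv g K, e]
      ext x; simp
    have h4 : ¬ Sn A (MulAut.conj g⁻¹ • K) := fun hc => hs (by
      have := sn_conj g hc
      rwa [conj_smul_inv] at this)
    have := conj_mono g (h.bound _ h2 h3 h4)
    rwa [conj_smul_inv] at this
  · rw [card_conj]; exact h.ind

theorem Home.normalizer_le {A M0 : Subgroup G} (h : Home A M0) :
    normalizer (A : Set G) ≤ M0 := by
  intro n hn
  have e := conj_eq_of_mem_normalizer hn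
  have h' := h.conj n
  rw [e] at h'
  have h1 : MulAut.conj n • M0 = M0 :=
    coatom_eq h.coatom h'.coatom.1 (h'.bound M0 h.le h.coatom.1 h.nsn)
  have h2 : normalizer (M0 : Set G) = M0 :=
    coatom_eq h.coatom (normalizer_ne_top h.closure h.le h.coatom.1) le_normalizer
  rw [← h2]
  exact mem_normalizer_of_conj_eq h1

/-- Two conjugates with homes, in a common further maximal subgroup. -/
theorem Home.pair {A M0 X : Subgroup G} (h : Home A M0) (hX : IsCoatom X) (hX0 : X ≠ M0)
    (hAX : A ≤ X) {g : G} (hgX : MulAut.conj g • A ≤ X) (hg0 : MulAut.conj g • A ≤ M0)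
    (hne : MulAut.conj g • A ≠ A) : MulAut.conj g • M0 ≠ M0 ∧ A ≤ MulAut.conj g • M0 := by
  by_contra hcon
  have hlt : Nat.card A < Nat.card ↥(A ⊔ MulAut.conj g • A) := by
    have hle : A ≤ A ⊔ MulAut.conj g • A := le_sup_left
    refine lt_of_le_of_ne (card_le_of_le hle) fun e => hne (conj_le_self ?_)
    exact le_sup_right.trans (eq_of_le_of_card_ge hle e.ge).ge
  refine hX0 (h.ind _ M0 hlt (normalClosure_mono_top le_sup_left h.closure) h.coatom
    (sup_le h.le hg0) ?_ X hX (sup_le hAX hgX))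
  intro K hK hKt hns
  by_cases h1 : Sn A K
  · by_cases h2 : Sn (MulAut.conj g • A) K
    · exact absurd (sn_sup (le_sup_left.trans hK) (le_sup_right.trans hK) h1 h2) hns
    · have h3 : K ≤ MulAut.conj g • M0 :=
        (h.conj g).bound K (le_sup_right.trans hK) hKt h2
      by_cases h4 : MulAut.conj g • M0 = M0
      · exact h3.trans h4.le
      · exact absurd ⟨h4, (le_sup_left.trans hK).trans h3⟩ hcon
  · exact h.bound K (le_sup_left.trans hK) hKt h1

/-- The conjugates of `A` inside `X` and `M0`. -/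
def Common (A M0 X : Subgroup G) : Set (Subgroup G) :=
  {U | (∃ g : G, U = MulAut.conj g • A) ∧ U ≤ X ∧ U ≤ M0}

omit [Finite G] in
theorem mem_common_self {A M0 X : Subgroup G} (hAX : A ≤ X) (h : A ≤ M0) : A ∈ Common A M0 X :=
  ⟨⟨1, by rw [map_one, one_smul]⟩, hAX, h⟩

theorem Home.exists_escape {A M0 X : Subgroup G} (h : Home A M0) (hX : IsCoatom X) (hX0 : X ≠ M0)
    (hAX : A ≤ X) {U : Subgroup G} (hU : U ∈ Common A M0 X) (hUA : U ≠ A) :
    ∃ a : G, MulAut.conj a • A ≤ M0 ∧ ¬ MulAut.conj a • A ≤ X ∧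
      MulAut.conj a • A ≤ normalizer ((sSup (Common A M0 X) : Subgroup G) : Set G) := by
  let E : Set (Subgroup G) := Common A M0 X \ {A}
  have hUE : U ∈ E := ⟨hU, hUA⟩
  have hE0 : sSup E ≤ M0 := sSup_le fun B hB => hB.1.2.2
  have hEX : sSup E ≤ X := sSup_le fun B hB => hB.1.2.1
  obtain ⟨⟨g, rfl⟩, hgX, hg0⟩ := hU
  -- a conjugate in `E` is never `A` after conjugation inside `M0`
  have hnA : ∀ B ∈ E, ∀ c ∈ M0, MulAut.conj c • B ≠ A := by
    rintro B hB c hc e
    have hB' : B = MulAut.conj c⁻¹ • A := by rw [← e, conj_inv_smul]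
    exact (h.pair hX hX0 hAX (hB' ▸ hB.1.2.1) (hB' ▸ hB.1.2.2) (hB' ▸ hB.2)).1
      (conj_eq_self_of_mem (M0.inv_mem hc))
  have hNA : M0 ⊓ normalizer ((sSup E : Subgroup G) : Set G) ≤ normalizer (A : Set G) := by
    rintro c ⟨hc0, hcN⟩
    have hle : MulAut.conj (c * g) • A ≤ sSup E := by
      rw [conj_smul_mul, ← conj_eq_of_mem_normalizer hcN]
      exact conj_mono c (le_sSup hUE)
    obtain ⟨hne', hA'⟩ := h.pair hX hX0 hAX (hle.trans hEX) (hle.trans hE0)
      (by rw [conj_smul_mul]; exact hnA _ hUE c hc0)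
    have hAc : MulAut.conj c • A ≤ MulAut.conj (c * g) • M0 := by
      rw [conj_smul_mul]; exact conj_mono c (h.pair hX hX0 hAX hgX hg0 hUA).2
    have hc0' : MulAut.conj c • A ≤ M0 := by
      rw [← conj_eq_self_of_mem hc0]; exact conj_mono c h.le
    by_contra hcA
    exact (h.pair (h.conj (c * g)).coatom hne' hA' hAc hc0'
      (fun e => hcA (mem_normalizer_of_conj_eq e))).1 (conj_eq_self_of_mem hc0)
  have hsn : ∀ B ∈ E, Sn B M0 := by
    rintro B ⟨⟨⟨b, rfl⟩, hbX, hb0⟩, hbA⟩
    by_contra hs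
    have h' := h.conj b
    exact (h.pair hX hX0 hAX hbX hb0 hbA).1
      (coatom_eq h.coatom h'.coatom.1 (h'.bound M0 hb0 h.coatom.1 hs))
  rcases sSup_normal_or_exists E M0 (fun B hB => hB.1.2.2) hsn with hn | ⟨B, hB, c, hc, hcN, hcE⟩
  · exact absurd (sn_of_le_normalizer ((le_inf le_rfl hn).trans hNA)) h.nsn
  · obtain ⟨⟨⟨b, rfl⟩, -, hb0⟩, -⟩ := id hB
    have hc0 : MulAut.conj c • MulAut.conj b • A ≤ M0 := by
      rw [← conj_eq_self_of_mem hc]; exact conj_mono c hb0
    refine ⟨c * b, ?_, ?_, ?_⟩ <;> rw [conj_smul_mul]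
    · exact hc0
    · intro hcX
      exact hcE (le_sSup ⟨⟨⟨c * b, (conj_smul_mul c b A).symm⟩, hcX, hc0⟩, hnA _ hB c hc⟩)
    · have e : sSup (Common A M0 X) = A ⊔ sSup E := by
        refine le_antisymm (sSup_le fun C hC => ?_) (sup_le (le_sSup (mem_common_self hAX h.le))
          (sSup_le_sSup Set.sdiff_subset))
        by_cases hCA : C = A
        · exact hCA ▸ le_sup_left
        · exact (le_sSup (show C ∈ E from ⟨hC, hCA⟩)).trans le_sup_right
      rw [e]
      exact (le_inf ((le_inf hc0 hcN).trans hNA) hcN).trans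
        (normalizer_inf_normalizer_le_normalizer_sup _ _)

theorem Home.unique {A M0 M : Subgroup G} (h : Home A M0) (hM : IsCoatom M) (hAM : A ≤ M) :
    M = M0 := by
  by_contra hne
  obtain ⟨X, ⟨hX, hX0, hAX⟩, hmax⟩ :=
    (InvImage.wf (fun X => Common A M0 X) (wellFounded_gt (α := Set (Subgroup G)))).has_min
      {X | IsCoatom X ∧ X ≠ M0 ∧ A ≤ X} ⟨M, hM, hne, hAM⟩
  have hK0 : sSup (Common A M0 X) ≤ M0 := sSup_le fun B hB => hB.2.2
  have hAK : A ≤ sSup (Common A M0 X) := le_sSup (mem_common_self hAX h.le)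
  -- the normalizer of the join is not inside `M0`
  have hNM0 : ¬ normalizer ((sSup (Common A M0 X) : Subgroup G) : Set G) ≤ M0 := by
    intro hN
    by_cases hall : ∀ B ∈ Common A M0 X, Sn B X
    · rcases sSup_normal_or_exists _ X (fun B hB => hB.2.1) hall with
        hn | ⟨B, hB, x, hx, hxN, hxK⟩
      · exact hX0 (coatom_eq hX h.coatom.1 (hn.trans hN)).symm
      · obtain ⟨⟨b, rfl⟩, hbX, -⟩ := id hB
        refine hxK (le_sSup ⟨⟨x * b, (conj_smul_mul x b A).symm⟩, ?_, hxN.trans hN⟩)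
        rw [← conj_eq_self_of_mem hx]; exact conj_mono x hbX
    · push Not at hall
      obtain ⟨B, ⟨⟨b, rfl⟩, hbX, hb0⟩, hns⟩ := hall
      have hbA : MulAut.conj b • A ≠ A := fun e => by
        rw [e] at hns
        exact hX0 (coatom_eq hX h.coatom.1 (h.bound X hAX hX.1 hns)).symm
      have h' := h.conj b
      have eX : MulAut.conj b • M0 = X := coatom_eq hX h'.coatom.1 (h'.bound X hbX hX.1 hns)
      rw [eX] at h'
      have eC : Common (MulAut.conj b • A) X M0 = Common A M0 X := by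
        ext B
        constructor
        · rintro ⟨⟨a, rfl⟩, h1, h2⟩
          exact ⟨⟨a * b, (conj_smul_mul a b A).symm⟩, h2, h1⟩
        · rintro ⟨⟨a, rfl⟩, h1, h2⟩
          exact ⟨⟨a * b⁻¹, by rw [conj_smul_mul, conj_inv_smul]⟩, h2, h1⟩
      obtain ⟨a, -, ha2, ha3⟩ := h'.exists_escape h.coatom (Ne.symm hX0) hb0 (U := A)
        ⟨⟨b⁻¹, (conj_inv_smul b A).symm⟩, h.le, hAX⟩ (Ne.symm hbA)
      rw [eC] at ha3
      exact ha2 (ha3.trans hN)
  -- hence every conjugate in `M0` normalizing the join lies in `X`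
  obtain ⟨Y, hY, hNY⟩ := exists_coatom_ge (normalizer_ne_top h.closure hAK
    (fun e => h.coatom.1 (top_le_iff.mp (e ▸ hK0))))
  have hY0 : Y ≠ M0 := fun e => hNM0 (hNY.trans e.le)
  have hsub : Common A M0 X ⊆ Common A M0 Y := fun B hB =>
    ⟨hB.1, (le_sSup hB).trans (le_normalizer.trans hNY), hB.2.2⟩
  have heq : Common A M0 Y ⊆ Common A M0 X := by
    by_contra hn
    exact hmax Y ⟨hY, hY0, hAK.trans (le_normalizer.trans hNY)⟩ ⟨hsub, hn⟩
  by_cases hex : ∃ U ∈ Common A M0 X, U ≠ A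
  · obtain ⟨U, hU, hUA⟩ := hex
    obtain ⟨a, ha1, ha2, ha3⟩ := h.exists_escape hX hX0 hAX hU hUA
    exact ha2 (heq ⟨⟨a, rfl⟩, ha3.trans hNY, ha1⟩).2.1
  · push Not at hex
    have e : sSup (Common A M0 X) = A :=
      le_antisymm (sSup_le fun B hB => (hex B hB).le) hAK
    rw [e] at hNM0
    exact hNM0 h.normalizer_le

/-- If every proper overgroup of `A` in which `A` is not subnormal lies in the maximal subgroup
`M0`, then `M0` is the only maximal subgroup containing `A`. -/
theorem concl (G : Type*) [Group G] [Finite G] : ∀ c, Concl G c := by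
  suffices ∀ n c, Nat.card G - c ≤ n → Concl G c from fun c => this _ c le_rfl
  intro n
  induction n with
  | zero =>
    intro c hc A M0 hcA
    have h1 := Subgroup.card_le_card_group A
    omega
  | succ n ih =>
    intro c hc A M0 hcA hcl hM0 hle hb X hX hAX
    by_cases hs : Sn A M0
    · have hAG : A ≠ ⊤ := fun e => hM0.1 (top_le_iff.mp (e ▸ hle))
      obtain ⟨N, -, huniq⟩ := zipper hcl hAG fun K hK hKt =>
        by_contra fun hn => hn (sn_mono (hb K hK hKt hn) hs)
      rw [huniq X ⟨hX, hAX⟩, huniq M0 ⟨hM0, hle⟩]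
    · have hind : Concl G (Nat.card A) := ih _ (by have := Subgroup.card_le_card_group A; omega)
      exact (Home.mk hcl hM0 hle hs hb hind).unique hX hAX

/-- `H` is the only subgroup between `A` and `H` normalized by `H`. -/
def Gen (A H : Subgroup G) : Prop :=
  ∀ N : Subgroup G, N ≤ H → A ≤ N → H ≤ normalizer (N : Set G) → N = H

omit [Finite G] in
theorem gen_iff {A H : Subgroup G} (hAH : A ≤ H) :
    normalClosure ((A.subgroupOf H : Subgroup ↥H) : Set ↥H) = ⊤ ↔ Gen A H := by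
  constructor
  · intro h N hNH hAN hN
    have := normal_subgroupOf_of_le_normalizer hN
    have h1 : (⊤ : Subgroup H) ≤ N.subgroupOf H := h ▸ normalClosure_le_normal fun x hx => hAN hx
    exact le_antisymm hNH (subgroupOf_eq_top.mp (top_le_iff.mp h1))
  · intro h
    have hn := le_normalizer_map (H := normalClosure ((A.subgroupOf H : Subgroup ↥H) : Set ↥H))
      H.subtype
    rw [normalizer_eq_top, ← MonoidHom.range_eq_map, range_subtype] at hn
    have e := h _ (map_subtype_le _)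
      ((map_subgroupOf_eq_of_le hAH).ge.trans (map_mono (le_normalClosure))) hn
    rw [eq_top_iff, ← map_le_map_iff_of_injective H.subtype_injective, e, ← MonoidHom.range_eq_map,
      range_subtype]

/-- The proper overgroups generated by their own conjugates of `A`. -/
def GenSet (A : Subgroup G) : Set (Subgroup G) := {H | A ≤ H ∧ H ≠ ⊤ ∧ Gen A H}

omit [Finite G] in
theorem genSet_mono {A D : Subgroup G} (hAD : A ≤ D) (hD : Gen A D) : GenSet D ⊆ GenSet A := by
  rintro H ⟨hDH, hHt, hH⟩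
  refine ⟨hAD.trans hDH, hHt, fun N hNH hAN hN => hH N hNH ?_ hN⟩
  have h1 : D ≤ normalizer ((N ⊓ D : Subgroup G) : Set G) :=
    (le_inf (hDH.trans hN) le_normalizer).trans Subgroup.inf_normalizer_le_normalizer_inf
  have e := hD (N ⊓ D) inf_le_right (le_inf hAN hAD) h1
  exact e.ge.trans inf_le_left

theorem exists_gen_subnormal {A K : Subgroup G} (hAK : A ≤ K) :
    ∃ D, A ≤ D ∧ D ≤ K ∧ Sn D K ∧ Gen A D := by
  obtain ⟨D, ⟨hAD, hDK, hDs⟩, hmin⟩ := (wellFounded_lt (α := Subgroup G)).has_min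
    {D | A ≤ D ∧ D ≤ K ∧ Sn D K} ⟨K, hAK, le_rfl, sn_of_le_normalizer le_normalizer⟩
  refine ⟨D, hAD, hDK, hDs, fun N hND hAN hN => ?_⟩
  by_contra hne
  exact hmin N ⟨hAN, hND.trans hDK, sn_trans hND (sn_of_le_normalizer hN) hDs⟩
    (lt_of_le_of_ne hND hne)

/-- Flavell's extension of the zipper lemma. -/
theorem join_or_unique (A : Subgroup G) (hA : normalClosure (A : Set G) = ⊤) (hAG : A ≠ ⊤)
    (hY : sSup (GenSet A) ≠ ⊤) : ∃! M : Subgroup G, IsCoatom M ∧ A ≤ M := by
  induction A using (wellFounded_gt (α := Subgroup G)).induction with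
  | _ A IH =>
  by_cases hall : ∀ K, A ≤ K → K ≠ ⊤ → Sn A K
  · exact zipper hA hAG hall
  · have hAY : A ≤ sSup (GenSet A) := le_sSup ⟨le_rfl, hAG, fun N h1 h2 _ => le_antisymm h1 h2⟩
    obtain ⟨M0, hM0, hYM0⟩ := exists_coatom_ge hY
    refine ⟨M0, ⟨hM0, hAY.trans hYM0⟩, fun X hX => ?_⟩
    refine concl G 0 A M0 Nat.card_pos hA hM0 (hAY.trans hYM0) ?_ X hX.1 hX.2
    intro K hK hKt hns
    obtain ⟨D, hAD, hDK, hDs, hDg⟩ := exists_gen_subnormal hK
    have hDt : D ≠ ⊤ := fun e => hKt (top_le_iff.mp (e ▸ hDK))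
    have hne : A ≠ D := fun e => hns (e ▸ hDs)
    have hsub := sSup_le_sSup (genSet_mono hAD hDg)
    obtain ⟨N, -, huniq⟩ := IH D (lt_of_le_of_ne hAD hne) (normalClosure_mono_top hAD hA) hDt
      (fun e => hY (top_le_iff.mp (e ▸ hsub)))
    have hDY : D ≤ sSup (GenSet A) := le_sSup ⟨hAD, hDt, hDg⟩
    obtain ⟨M, hM, hKM⟩ := exists_coatom_ge hKt
    rw [huniq M0 ⟨hM0, hDY.trans hYM0⟩, ← huniq M ⟨hM, hDK.trans hKM⟩]
    exact hKM

end Cfsg.Agent.H86.Zipper
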